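import Cfsg.Agent.J4Local.Eleven.Mathieu
import Cfsg.Agent.Solvable.GaschutzLocal

/-!
A complement to `V` in its normaliser, from a complement in a subgroup of odd index.
-/

set_option autoImplicit false
set_option linter.style.haveILetI false
set_option linter.unusedSectionVars false

namespace CfsgLib.J4Eleven

open Subgroup
open scoped Pointwise

variable {G : Type*} [Group G] [Finite G]

/-- An elementary abelian normal 2-subgroup with a complement in a subgroup of odd index has a complement. -/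
theorem exists_complement (A U K0 : Subgroup G) [A.Normal] (hA : ∀ a ∈ A, a * a = 1) (hAU : A ≤ U)
    (hdis : K0 ⊓ A = ⊥) (hsup : K0 ⊔ A = U) (hodd : Odd U.index) : ∃ K : Subgroup G, K.IsComplement' A := by
  have i : ∀ u ∈ A, u⁻¹ = u := fun u hu => inv_eq_of_mul_eq_one_right (hA u hu)
  haveI : IsMulCommutative A := ⟨⟨fun a b => Subtype.ext (by
    show (a : G) * b = b * a
    rw [← i _ (mul_mem a.2 b.2), mul_inv_rev, i _ a.2, i _ b.2])⟩⟩
  obtain ⟨D, hD, hDa⟩ := GaschutzLocal.hasPowerDerivation_index A U K0 hAU hdis hsup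
  refine GaschutzLocal.complement_of_hasPowerDerivation A ⟨D, hD, fun a => ?_⟩
  obtain ⟨j, hj⟩ := hodd
  rw [hDa, zpow_one, zpow_natCast, hj, pow_succ, pow_mul, pow_two,
    show a * a = 1 from Subtype.ext (hA _ a.2), one_pow, one_mul]

variable {z : G} {V : Subgroup G} {φ : ↥(normalizer (V : Set G)) →* Cfsg.M24}
  {d : Cfsg.GolayPt → Cfsg.GolayPt → G}

/-- The normaliser of `V` is a split extension by the Mathieu group. -/
theorem Conf.split (C : Conf z V) (L : Labels z V φ d) {K2 : Subgroup G}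
    (hK2 : K2 ≤ normalizer (V : Set G)) (hdis : K2 ⊓ V = ⊥) (hc : Nat.card K2 = 2 ^ 10) :
    ∃ K : Subgroup G, K ≤ normalizer (V : Set G) ∧ K ⊓ V = ⊥ ∧ K ⊔ V = normalizer (V : Set G) ∧
      Nonempty (↥K ≃* Cfsg.M24) := by
  have hker : φ.ker = V.subgroupOf (normalizer (V : Set G)) := Subgroup.ext fun m => by
    rw [MonoidHom.mem_ker, L.ker, mem_subgroupOf]
  haveI hn : (V.subgroupOf (normalizer (V : Set G))).Normal := hker ▸ inferInstance
  set U := K2.subgroupOf (normalizer (V : Set G)) ⊔ V.subgroupOf (normalizer (V : Set G))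
  have hVN : V ≤ (normalizer (V : Set G)) := le_normalizer
  have hd' : K2.subgroupOf (normalizer (V : Set G)) ⊓ V.subgroupOf (normalizer (V : Set G)) = ⊥ := by
    refine (eq_bot_iff_forall _).2 fun m hm => Subtype.ext ?_
    exact mem_bot.1 (hdis ▸ ⟨hm.1, hm.2⟩ : (m : G) ∈ (⊥ : Subgroup G))
  have hodd : Odd U.index := by
    have hcU : 2 ^ 21 ∣ Nat.card U := by
      have h1 : Nat.card (U.map φ) * Nat.card (V.subgroupOf (normalizer (V : Set G))) = Nat.card U := by
        rw [← hker]
        have h := (φ.ker.subgroupOf U).card_mul_index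
        rw [Nat.card_congr (subgroupOfEquivOfLe (hker ▸ le_sup_right : φ.ker ≤ U)).toEquiv] at h
        rw [mul_comm, ← h]
        congr 1
        rw [show φ.ker.subgroupOf U = (φ.comp U.subtype).ker from rfl, index_ker, MonoidHom.range_comp,
          Subgroup.range_subtype]
      have h2 : Nat.card ((K2.subgroupOf (normalizer (V : Set G))).map φ) = 2 ^ 10 := by
        rw [← hc, ← Nat.card_congr (subgroupOfEquivOfLe hK2).toEquiv]
        refine (Nat.card_congr (Equiv.ofBijective
          (fun x : K2.subgroupOf (normalizer (V : Set G)) => (⟨φ x.1, mem_map_of_mem φ x.2⟩ : (K2.subgroupOf (normalizer (V : Set G))).map φ)) ⟨?_, ?_⟩)).symm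
        · intro x y e
          have e' : φ x.1 = φ y.1 := congrArg Subtype.val e
          have hm : x.1⁻¹ * y.1 ∈ K2.subgroupOf (normalizer (V : Set G)) ⊓ V.subgroupOf (normalizer (V : Set G)) :=
            ⟨show x.1⁻¹ * y.1 ∈ K2.subgroupOf (normalizer (V : Set G)) from mul_mem (inv_mem x.2) y.2, show x.1⁻¹ * y.1 ∈ V.subgroupOf (normalizer (V : Set G)) from hker ▸ (by
              rw [MonoidHom.mem_ker, map_mul, map_inv, e', inv_mul_cancel])⟩
          rw [hd', mem_bot, inv_mul_eq_one] at hm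
          exact Subtype.ext hm
        · rintro ⟨_, x, hx, rfl⟩; exact ⟨⟨x, hx⟩, rfl⟩
      rw [← h1, Nat.card_congr (subgroupOfEquivOfLe hVN).toEquiv, C.card,
        show 2 ^ 21 = 2 ^ 10 * 2 ^ 11 by norm_num]
      exact mul_dvd_mul_right (h2 ▸ card_dvd_of_le (map_mono le_sup_left)) _
    have hN : Nat.card (normalizer (V : Set G)) = 2 ^ 21 * (135 * 1771) := by
      have h := φ.ker.card_mul_index
      rw [index_ker, MonoidHom.range_eq_top.2 L.surj, card_top, Golay.card_M24, hker,
        Nat.card_congr (subgroupOfEquivOfLe hVN).toEquiv, C.card] at h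
      rw [← h]; norm_num
    obtain ⟨c, hcU⟩ := hcU
    have h := U.card_mul_index
    rw [hN, hcU, mul_assoc] at h
    have h' := Nat.eq_of_mul_eq_mul_left (by norm_num) h
    have ho : Odd (c * U.index) := h' ▸ ⟨119542, by norm_num⟩
    exact (Nat.odd_mul.1 ho).2
  obtain ⟨K, hK⟩ := exists_complement (V.subgroupOf (normalizer (V : Set G))) U (K2.subgroupOf (normalizer (V : Set G)))
    (fun a ha => Subtype.ext (C.sq _ ha)) le_sup_right hd' rfl hodd
  refine ⟨K.map (normalizer (V : Set G)).subtype, map_subtype_le K, ?_, ?_, ⟨(equivMapOfInjective K _ (normalizer (V : Set G)).subtype_injective).symm.trans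
    (MulEquiv.ofBijective (φ.comp K.subtype) ⟨?_, ?_⟩)⟩⟩
  · refine (eq_bot_iff_forall _).2 ?_
    rintro _ ⟨⟨m, hm, rfl⟩, hV⟩
    exact congrArg Subtype.val (disjoint_def.1 hK.disjoint hm (show m ∈ V.subgroupOf (normalizer (V : Set G)) from hV))
  · have h := congrArg (Subgroup.map (normalizer (V : Set G)).subtype) hK.sup_eq_top
    rwa [Subgroup.map_sup, map_subgroupOf_eq_of_le hVN, ← MonoidHom.range_eq_map, Subgroup.range_subtype] at h
  · intro x y e
    have e' : φ x.1 = φ y.1 := e
    have : x.1⁻¹ * y.1 ∈ V.subgroupOf (normalizer (V : Set G)) := hker ▸ (by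
      rw [MonoidHom.mem_ker, map_mul, map_inv, e', inv_mul_cancel])
    exact Subtype.ext (inv_mul_eq_one.1 (disjoint_def.1 hK.disjoint (mul_mem (inv_mem x.2) y.2) this))
  · intro g
    obtain ⟨m, rfl⟩ := L.surj g
    have hm : m ∈ ((K : Set (normalizer (V : Set G))) * (V.subgroupOf (normalizer (V : Set G)) : Set (normalizer (V : Set G)))) := hK.mul_eq ▸ Set.mem_univ m
    obtain ⟨k, hk, a, ha, rfl⟩ := hm
    refine ⟨⟨k, hk⟩, ?_⟩
    show φ k = φ (k * a)
    rw [map_mul, (L.ker a).2 ha, mul_one]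

end CfsgLib.J4Eleven
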