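import Cfsg.Agent.J4Local.Eleven.LocalV
import Cfsg.Agent.J4Local.Eleven.Split
import Cfsg.Agent.J4Local.Frame
import Cfsg.Agent.J4Local.Fusion3

/-!
The normaliser of an elementary abelian subgroup of order `2 ^ 11` in a group of Janko-four type.
-/

set_option autoImplicit false
set_option maxRecDepth 100000
set_option linter.style.haveILetI false
set_option linter.unusedSectionVars false

namespace CfsgLib.J4Eleven

open Subgroup CfsgLib.J4Local CfsgLib.J4Local.M22Elem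

attribute [local instance] Classical.propDecidable

variable {G : Type*} [Group G] [Finite G] {z : G} {P : Subgroup G}
variable (hJ : Cfsg.IsOfJankoFourTypeWith z P)

include hJ

theorem conf_std [IsSimpleGroup G] (hG : ¬ IsMulCommutative G) :
    Conf z (vZero hJ subA) ∧ Local z (vZero hJ subA) := by
  obtain ⟨p, y, s, v, w, u, e, t, hC⟩ := CfsgLib.J4Local.exists_conf hJ
  have hgoal := CfsgLib.J4Local.exists_goal hC hG
  obtain ⟨p', T, V⟩ := exists_values hJ hexad hgoal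
  exact ⟨exists_conf0 hJ hexad hgoal, V.isLocal hJ hexad⟩

/-- Every elementary subgroup of order `2 ^ 11` is conjugate to the standard one. -/
theorem exists_conj_std {V : Subgroup G} (hV : Cfsg.IsElementaryAbelian 2 V) (hc : Nat.card V = 2 ^ 11) :
    ∃ g : G, V.map (MulAut.conj g).toMonoidHom = vZero hJ subA := by
  obtain ⟨A, s, -, h⟩ := exists_conj_eleven hJ
  obtain ⟨g, hg⟩ := h V hV hc
  obtain ⟨f, hf⟩ := h (vZero hJ subA) (elementary_vZero hJ hexad.first) (card_vZero hJ hexad.first)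
  refine ⟨f⁻¹ * g, ?_⟩
  rw [map_mul, show ((MulAut.conj f⁻¹ * MulAut.conj g : MulAut G)).toMonoidHom =
      (MulAut.conj f⁻¹).toMonoidHom.comp (MulAut.conj g).toMonoidHom from rfl, ← Subgroup.map_map, hg, ← hf,
    Subgroup.map_map]
  rw [show (MulAut.conj f⁻¹).toMonoidHom.comp (MulAut.conj f).toMonoidHom = MonoidHom.id G from
    MonoidHom.ext fun x => by simp [mul_assoc]]
  exact Subgroup.map_id _

omit hJ in
theorem Conf.orbit_z {V : Subgroup G} (C : Conf z V) :
    {v : G | ∃ n ∈ normalizer (V : Set G), n * z * n⁻¹ = v}.ncard = 1771 := by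
  rw [← C.count, ← Set.ncard_coe_finset]
  congr 1
  ext v
  simp only [Finset.coe_filter, mem_elems]
  constructor
  · rintro ⟨n, hn, rfl⟩
    exact ⟨(mem_normalizer_iff.1 hn z).1 C.z_mem, isConj_iff.2 ⟨n, rfl⟩⟩
  · rintro ⟨hv, hz⟩
    exact C.z_move hv hz

omit hJ in
theorem Conf.orbit_other {V : Subgroup G} (C : Conf z V) {t : G} (ht : t ∈ nS z V) :
    {v : G | ∃ n ∈ normalizer (V : Set G), n * t * n⁻¹ = v}.ncard = 276 := by
  rw [← C.card_nS, ← Set.ncard_coe_finset]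
  congr 1
  ext v
  constructor
  · rintro ⟨n, hn, rfl⟩; exact (C.nS_map hn).2 ht
  · intro hv; exact C.nS_move ht hv

omit hJ in
/-- Orbits transported along a conjugation. -/
theorem ncard_orbit_conj {V V0 : Subgroup G} {g : G} (hg : V.map (MulAut.conj g).toMonoidHom = V0) (a : G) :
    {v : G | ∃ n ∈ normalizer (V : Set G), n * (g⁻¹ * a * g) * n⁻¹ = v}.ncard =
      {v : G | ∃ n ∈ normalizer (V0 : Set G), n * a * n⁻¹ = v}.ncard := by
  have hn : (normalizer (V : Set G)).map (MulAut.conj g).toMonoidHom = normalizer (V0 : Set G) := by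
    rw [← hg, Subgroup.map_equiv_normalizer_eq]
  rw [← Set.ncard_image_of_injective _ (MulAut.conj g).injective]
  congr 1
  ext v
  constructor
  · rintro ⟨_, ⟨n, hn', rfl⟩, rfl⟩
    refine ⟨g * n * g⁻¹, hn.le ⟨n, hn', rfl⟩, ?_⟩
    show _ = g * (n * (g⁻¹ * a * g) * n⁻¹) * g⁻¹
    group
  · rintro ⟨m, hm, rfl⟩
    obtain ⟨n, hn', rfl⟩ := hn.ge hm
    refine ⟨_, ⟨n, hn', rfl⟩, ?_⟩
    show g * (n * (g⁻¹ * a * g) * n⁻¹) * g⁻¹ = g * n * g⁻¹ * a * (g * n * g⁻¹)⁻¹
    group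

/-- The orbits of the normaliser on an elementary subgroup of order `2 ^ 11`. -/
theorem orbits [IsSimpleGroup G] (hG : ¬ IsMulCommutative G) {V : Subgroup G}
    (hV : Cfsg.IsElementaryAbelian 2 V) (hc : Nat.card V = 2 ^ 11) :
    ∃ z' t : G, z' ∈ V ∧ t ∈ V ∧ t ≠ 1 ∧ IsConj z z' ∧ ¬ IsConj z t ∧
    Set.ncard {v : G | ∃ n ∈ normalizer (V : Set G), n * z' * n⁻¹ = v} = 1771 ∧
    Set.ncard {v : G | ∃ n ∈ normalizer (V : Set G), n * t * n⁻¹ = v} = 276 ∧
    centralizer ({t} : Set G) ≤ normalizer (V : Set G) := by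
  obtain ⟨C, hloc⟩ := conf_std hJ hG
  obtain ⟨φ, d, L⟩ := C.exists_labels
  obtain ⟨g, hg⟩ := exists_conj_std hJ hV hc
  obtain ⟨t0, ht0⟩ : (nS z (vZero hJ subA)).Nonempty := Finset.card_pos.1 (by rw [C.card_nS]; norm_num)
  obtain ⟨ht0V, ht01, ht0S⟩ := mem_nS.1 ht0
  have hback : ∀ a ∈ vZero hJ subA, g⁻¹ * a * g ∈ V := by
    intro a ha
    obtain ⟨b, hb, rfl⟩ := mem_map.1 (hg.ge ha)
    simpa [mul_assoc] using hb
  refine ⟨g⁻¹ * z * g, g⁻¹ * t0 * g, hback _ C.z_mem, hback _ ht0V, fun e => ht01 ?_,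
    isConj_iff.2 ⟨g⁻¹, by group⟩, fun h => ht0S ?_, ?_, ?_, fun x hx => ?_⟩
  · calc t0 = g * (g⁻¹ * t0 * g) * g⁻¹ := by group
      _ = 1 := by rw [e]; group
  · exact h.trans (isConj_iff.2 ⟨g, by group⟩)
  · rw [ncard_orbit_conj hg]; exact C.orbit_z
  · rw [ncard_orbit_conj hg]; exact C.orbit_other ht0
  · have h1 : g * x * g⁻¹ ∈ centralizer ({t0} : Set G) := by
      have := conj_mem_centralizer (g := g) hx
      rwa [show g * (g⁻¹ * t0 * g) * g⁻¹ = t0 by group] at this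
    have h2 := L.centralizer_le C hloc ht0 h1
    rw [← hg, ← Subgroup.map_equiv_normalizer_eq] at h2
    obtain ⟨n, hn, e⟩ := mem_map.1 h2
    exact (MulAut.conj g).injective e ▸ hn

/-- Centraliser and split normaliser, given a complement in a subgroup of odd index. -/
theorem split_of [IsSimpleGroup G] (hG : ¬ IsMulCommutative G) {K2 : Subgroup G}
    (hK2 : K2 ≤ normalizer (vZero hJ subA : Set G)) (hdis : K2 ⊓ vZero hJ subA = ⊥)
    (hK2c : Nat.card K2 = 2 ^ 10) {V : Subgroup G}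
    (hV : Cfsg.IsElementaryAbelian 2 V) (hc : Nat.card V = 2 ^ 11) :
    centralizer (V : Set G) ≤ V ∧ ∃ K : Subgroup G, K ≤ normalizer (V : Set G) ∧ K ⊓ V = ⊥ ∧
      K ⊔ V = normalizer (V : Set G) ∧ Nonempty (↥K ≃* Cfsg.M24) := by
  obtain ⟨C, -⟩ := conf_std hJ hG
  obtain ⟨φ, d, L⟩ := C.exists_labels
  obtain ⟨g, hg⟩ := exists_conj_std hJ hV hc
  obtain ⟨K, hK1, hK2', hK3, ⟨e⟩⟩ := C.split L hK2 hdis hK2c
  have hn : normalizer (vZero hJ subA : Set G) = (normalizer (V : Set G)).map (MulAut.conj g).toMonoidHom := by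
    rw [← hg, Subgroup.map_equiv_normalizer_eq]
  have hgi : (vZero hJ subA).map (MulAut.conj g).symm.toMonoidHom = V := by
    rw [← hg, Subgroup.map_map]
    convert Subgroup.map_id V
    exact MonoidHom.ext fun x => (MulAut.conj g).symm_apply_apply x
  have hni : (normalizer (vZero hJ subA : Set G)).map (MulAut.conj g).symm.toMonoidHom =
      normalizer (V : Set G) := by rw [← hgi, Subgroup.map_equiv_normalizer_eq]
  refine ⟨fun x hx => ?_, K.map (MulAut.conj g).symm.toMonoidHom, ?_, ?_, ?_,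
    ⟨(equivMapOfInjective K _ (MulAut.conj g).symm.injective).symm.trans e⟩⟩
  · have h1 : g * x * g⁻¹ ∈ centralizer (vZero hJ subA : Set G) := by
      refine mem_centralizer_iff.2 fun a ha => ?_
      obtain ⟨b, hb, rfl⟩ := mem_map.1 (hg.ge ha)
      show g * b * g⁻¹ * (g * x * g⁻¹) = g * x * g⁻¹ * (g * b * g⁻¹)
      rw [conj_mul, conj_mul, mem_centralizer_iff.1 hx b hb]
    obtain ⟨b, hb, e'⟩ := mem_map.1 (hg.ge (C.cent h1))
    exact (MulAut.conj g).injective e' ▸ hb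
  · rw [← hni]; exact map_mono hK1
  · rw [← hgi, ← Subgroup.map_inf _ _ _ (MulAut.conj g).symm.injective, hK2', Subgroup.map_bot]
  · rw [← hgi, ← Subgroup.map_sup, hK3, hgi, hni]

end CfsgLib.J4Eleven
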