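import Cfsg.Agent.J4Local.Eleven.Data

/-!
Position-list facts for the complement of order `2 ^ 10` in the normaliser of the elementary
subgroup of order `2 ^ 11`.
-/

set_option autoImplicit false
set_option maxRecDepth 100000

namespace CfsgLib.J4Eleven

open Cfsg CfsgLib.Golay CfsgLib.Golay.SylowCert CfsgLib.J4Local.M22Elem

theorem two_in : In22 Data.innI ∧ In22 Data.innJ ∧ In22 Data.hexG ∧ In22 Data.threeC ∧
    In22 Data.threeI ∧ In22 Data.threeJ := by decide +kernel

theorem two_rel : compL Data.outA Data.outA = List.range 24 ∧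
    compL Data.innI Data.innI = List.range 24 ∧ compL Data.innJ Data.innJ = List.range 24 ∧
    Data.innI ≠ List.range 24 ∧ Data.innJ ≠ List.range 24 ∧
    conjL Data.outA Data.innI = Data.innI ∧ conjL Data.outA Data.innJ = Data.innJ ∧
    wordL [Data.innI, Data.innJ] [0, 1, 0, 1] ≠ List.range 24 ∧
    wordL [Data.innI, Data.innJ] [0, 1, 0, 1, 0, 1, 0, 1] = List.range 24 := by decide +kernel

theorem two_three : ∀ T ∈ [Data.threeC, Data.threeI, Data.threeJ],
    compL T (compL T T) = List.range 24 ∧ T ≠ List.range 24 := by decide +kernel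

theorem two_fix : conjL Data.outA Data.threeC = Data.threeC ∧
    conjL Data.outA (conjL Data.innI Data.threeI) = Data.threeI ∧
    conjL Data.outA (conjL Data.innJ Data.threeJ) = Data.threeJ := by decide +kernel

theorem two_norm : ∀ K ∈ [Data.outA, Data.innI, Data.innJ], ∀ L ∈ elsA,
    conjL K L ∈ elsA ∧ conjL (invL Data.hexG) (conjL K (conjL Data.hexG L)) ∈ elsA := by decide +kernel

/-- The word of the element with the given exponents. -/
def twoW (b c : ℕ) : List ℕ := List.replicate b 0 ++ (List.replicate c [0, 1]).flatten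

theorem two_sep : ∀ b < 2, ∀ c < 4, wordL [Data.innI, Data.innJ] (twoW b c) ∈ elsA → b = 0 ∧ c = 0 := by
  decide +kernel

theorem two_nine : NineL (wordL (sixteenA ++ sixteenA.map (conjL Data.hexG)) Data.wordX)
    (wordL (sixteenA ++ sixteenA.map (conjL Data.hexG)) Data.wordY) := by decide +kernel

end CfsgLib.J4Eleven
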