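import Cfsg.Agent.J4Local.Eleven.OuterLift
import Cfsg.Agent.J4Local.Eleven.TwoCompData

/-!
A subgroup of order `2 ^ 10` normalising the standard elementary subgroup of order `2 ^ 11` and
meeting it trivially.
-/

set_option autoImplicit false
set_option maxRecDepth 100000
set_option linter.style.haveILetI false
set_option linter.unusedSectionVars false

namespace CfsgLib.J4Eleven

open CfsgLib.Golay CfsgLib.Golay.SylowCert
open CfsgLib.J4Local CfsgLib.J4Local.M22Elem CfsgLib.J4Local.FixMod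

theorem autL_out_mul_self : autL Data.outA * autL Data.outA = 1 := by
  refine MulEquiv.ext fun g => ?_
  refine Subtype.ext ?_
  rw [MulAut.mul_apply, coe_autL out_ok.1, coe_autL out_ok.1, MulAut.one_apply]
  have e : permL Data.outA * permL Data.outA = 1 := by
    refine toList_injective ?_
    rw [toList_mul, toList_permL out_ok.1.1 out_ok.1.2.1, toList_one]
    exact two_rel.1
  rw [show ∀ a b : Equiv.Perm Cfsg.GolayPt, a * (a * b * a⁻¹) * a⁻¹ = (a * a) * b * (a * a)⁻¹ from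
    fun a b => by group, e, one_mul, inv_one, mul_one]

/-- The two involutions. -/
noncomputable abbrev mI : M := el Data.innI
/-- The second. -/
noncomputable abbrev mJ : M := el Data.innJ
/-- The conjugator. -/
noncomputable abbrev mG : M := el Data.hexG

theorem toL_mI : toL mI = Data.innI := toL_el two_in.1
theorem toL_mJ : toL mJ = Data.innJ := toL_el two_in.2.1
theorem toL_mG : toL mG = Data.hexG := toL_el two_in.2.2.1

theorem mI_sq : mI * mI = 1 := eq_of_toL (by rw [toL_mul, toL_mI]) toL_one two_rel.2.1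
theorem mJ_sq : mJ * mJ = 1 := eq_of_toL (by rw [toL_mul, toL_mJ]) toL_one two_rel.2.2.1
theorem mI_ne : mI ≠ 1 := ne_of_toL toL_mI toL_one two_rel.2.2.2.1
theorem mJ_ne : mJ ≠ 1 := ne_of_toL toL_mJ toL_one two_rel.2.2.2.2.1

theorem out_mI : autL Data.outA mI = mI :=
  eq_of_toL (by rw [toL_autL out_ok.1, toL_mI]) toL_mI two_rel.2.2.2.2.2.1

theorem out_mJ : autL Data.outA mJ = mJ :=
  eq_of_toL (by rw [toL_autL out_ok.1, toL_mJ]) toL_mJ two_rel.2.2.2.2.2.2.1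

theorem wordP_two (b c : ℕ) : wordP [mI, mJ] (twoW b c) = mI ^ b * (mI * mJ) ^ c := by
  simp [wordP, twoW, List.prod_replicate, List.map_flatten, List.prod_flatten, List.map_replicate]

theorem mem_subA_sep {b c : ℕ} (hb : b < 2) (hc : c < 4) (h : mI ^ b * (mI * mJ) ^ c ∈ subA) :
    b = 0 ∧ c = 0 := by
  refine two_sep b hb c hc ?_
  rw [← wordP_two] at h
  have h' := (mem_sub pcA _).1 h
  rwa [toL_wordP, List.map_cons, List.map_cons, List.map_nil, toL_mI, toL_mJ] at h'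

theorem mIJ_sq_ne : (mI * mJ) ^ 2 ≠ 1 := by
  rw [show (mI * mJ) ^ 2 = wordP [mI, mJ] [0, 1, 0, 1] by simp [wordP, pow_two, mul_assoc]]
  refine ne_of_toL (toL_wordP _ _) toL_one ?_
  rw [List.map_cons, List.map_cons, List.map_nil, toL_mI, toL_mJ]
  exact two_rel.2.2.2.2.2.2.2.1

theorem mIJ_four : (mI * mJ) ^ 4 = 1 := by
  rw [show (mI * mJ) ^ 4 = wordP [mI, mJ] [0, 1, 0, 1, 0, 1, 0, 1] by simp [wordP, pow_succ, mul_assoc]]
  refine eq_of_toL (toL_wordP _ _) toL_one ?_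
  rw [List.map_cons, List.map_cons, List.map_nil, toL_mI, toL_mJ]
  exact two_rel.2.2.2.2.2.2.2.2

theorem three_el {T : List ℕ} (hT : T ∈ [Data.threeC, Data.threeI, Data.threeJ]) (hin : In22 T) :
    el T ^ 3 = 1 ∧ el T ≠ 1 := by
  obtain ⟨h1, h2⟩ := two_three T hT
  exact ⟨eq_of_toL (by rw [pow_succ', pow_two, toL_mul, toL_mul, toL_el hin]) toL_one h1,
    ne_of_toL (toL_el hin) toL_one h2⟩

theorem hasNine_sup : HasNine (subA ⊔ subA.map (MulAut.conj mG).toMonoidHom) := by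
  set K := subA ⊔ subA.map (MulAut.conj mG).toMonoidHom
  have hgs : ∀ g ∈ sixteenA.map el ++ sixteenA.map (fun L => mG * el L * mG⁻¹), g ∈ K := by
    have hA : ∀ L ∈ sixteenA, el L ∈ subA := fun L hL => (mem_sub pcA _).2 (by
      rw [toL_el (inA L hL)]
      exact (by decide +kernel : ∀ L ∈ sixteenA, L ∈ elsA) L hL)
    intro g hg'
    rcases List.mem_append.1 hg' with h' | h' <;> obtain ⟨L, hL, rfl⟩ := List.mem_map.1 h'
    · exact Subgroup.mem_sup_left (hA L hL)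
    · exact Subgroup.mem_sup_right ⟨el L, hA L hL, rfl⟩
  refine ⟨_, wordP_mem hgs Data.wordX, _, wordP_mem hgs Data.wordY,
    ninePair_of (toL_wordP _ _) (toL_wordP _ _) ?_⟩
  have e : (sixteenA.map el ++ sixteenA.map fun L => mG * el L * mG⁻¹).map toL =
      sixteenA ++ sixteenA.map (conjL Data.hexG) := by
    rw [List.map_append, List.map_map, List.map_map]
    refine congrArg₂ (· ++ ·) ?_ ?_
    · exact (List.map_congr_left fun L hL => toL_el (inA L hL)).trans (List.map_id _)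
    · exact List.map_congr_left fun L hL => by simp [toL_conj, toL_mG, toL_el (inA L hL)]
  rw [e]
  exact two_nine

/-- The automorphisms fixing the standard subgroup and its conjugate. -/
noncomputable def nBoth : Subgroup (MulAut M) :=
  nA subA ⊓ (nA subA).comap (MulAut.conj (MulAut.conj mG)⁻¹).toMonoidHom

theorem mem_nBoth {α : MulAut M} {K : List ℕ} (hK : K ∈ [Data.outA, Data.innI, Data.innJ])
    (hα : ∀ a, toL (α a) = conjL K (toL a)) : α ∈ nBoth := by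
  refine Subgroup.mem_inf.2 ⟨mem_nA_of fun a ha => (mem_sub pcA _).2 ?_, mem_nA_of fun a ha => ?_⟩
  · rw [hα]; exact (two_norm K hK _ ((mem_sub pcA a).1 ha)).1
  · show ((MulAut.conj mG)⁻¹ * α * (MulAut.conj mG)⁻¹⁻¹) a ∈ subA
    rw [inv_inv, MulAut.mul_apply, MulAut.mul_apply, MulAut.inv_def, MulAut.conj_symm_apply]
    refine (mem_sub pcA _).2 ?_
    rw [show mG⁻¹ * α ((MulAut.conj mG) a) * mG = mG⁻¹ * α ((MulAut.conj mG) a) * mG⁻¹⁻¹ by rw [inv_inv],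
      toL_conj, toL_inv, hα, MulAut.conj_apply, toL_conj, toL_mG]
    exact (two_norm K hK _ ((mem_sub pcA a).1 ha)).2

variable {G : Type*} [Group G] [Finite G] {z : G} {P : Subgroup G}
variable (hJ : Cfsg.IsOfJankoFourTypeWith z P) (hNP : Subgroup.normalizer (P : Set G) ≤ cH z)
  (h3 : ∀ x y : G, orderOf x = 3 → orderOf y = 3 → IsConj x y)

include hJ

theorem mem_zpowers_of_A_E {x : G} (hxA : x ∈ cA z P) (hxE : x ∈ cE z) : x ∈ Subgroup.zpowers z := by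
  refine E_inf_centralizer hJ ▸ Subgroup.mem_inf.2 ⟨hxE, Subgroup.mem_centralizer_iff.2 fun q hq => ?_⟩
  have h1 : x * q * x⁻¹ * q⁻¹ ∈ P :=
    mul_mem ((Subgroup.mem_normalizer_iff.1 hxA.2 q).1 hq) (inv_mem hq)
  have h2 : x * q * x⁻¹ * q⁻¹ ∈ cE z := by
    have := (Subgroup.mem_normalizer_iff.1 (H_le_normalizer_E (P_le_H hJ hq)) x⁻¹).1 (inv_mem hxE)
    simpa [mul_assoc] using mul_mem hxE this
  have hd : P ⊓ cE z = ⊥ := Subgroup.inf_eq_bot_of_coprime (by rw [card_P hJ, card_E hJ]; decide)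
  exact (mul_inv_eq_iff_eq_mul.1 (mul_inv_eq_one.1
    (Subgroup.mem_bot.1 (hd ▸ Subgroup.mem_inf.2 ⟨h1, h2⟩)))).symm

theorem lift_invol {m : M} (hm : m * m = 1) (hm1 : m ≠ 1) :
    ∃ c, ∃ h : c ∈ cC z P, c * c = 1 ∧ quo hJ ⟨c, h⟩ = m := by
  obtain ⟨⟨c0, hc0⟩, e0⟩ := quo_surjective hJ m
  have hc0k : c0 ∉ cK z P := fun h => hm1 (by rw [← e0]; exact (quo_eq_one_iff hJ).2 h)
  obtain ⟨k, hk, hkk⟩ := exists_invol_lift hJ hc0 hc0k (by
    have : quo hJ (⟨c0, hc0⟩ * ⟨c0, hc0⟩) = 1 := by rw [map_mul, e0, hm]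
    exact (quo_eq_one_iff hJ).1 this)
  refine ⟨c0 * k, mul_mem hc0 (P_le_C hJ hk), hkk, ?_⟩
  rw [show (⟨c0 * k, _⟩ : ↥(cC z P)) = ⟨c0, hc0⟩ * ⟨k, P_le_C hJ hk⟩ from rfl, map_mul, e0,
    (quo_eq_one_iff hJ).2 (P_le_K hJ hk : ((⟨k, P_le_C hJ hk⟩ : ↥(cC z P)) : G) ∈ cK z P), mul_one]

include hNP h3

/-- An outer element squaring into `⟨z⟩` whose image fixes an element of order three is an involution. -/
theorem outer_invol {u : G} (hu : u ∈ cA z P) (hu' : u ∉ cC z P) (hu2 : u * u ∈ Subgroup.zpowers z)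
    {t : M} (ht : t ^ 3 = 1) (ht1 : t ≠ 1) (hfix : sig hJ ⟨u, hu⟩ t = t) : u * u = 1 := by
  haveI : Fact (Nat.Prime 3) := ⟨Nat.prime_three⟩
  obtain ⟨f, hf, hf3, hft⟩ := exists_cube_lift hJ ht ht1
  rw [← hft, sig_apply hJ hu hf] at hfix
  have hk : f⁻¹ * (u * f * u⁻¹) ∈ cK z P := (quo_eq_iff hJ).1 hfix.symm
  set k := f⁻¹ * (u * f * u⁻¹) with hkdef
  have hkf : Commute k f := K_central hJ hk hf
  have huf : u * f * u⁻¹ = f * k := by rw [hkdef]; group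
  have hk3 : k ^ 3 = 1 := by
    have h1 : (u * f * u⁻¹) ^ 3 = 1 := by rw [conj_pow, hf3, mul_one, mul_inv_cancel]
    rwa [huf, hkf.symm.mul_pow, hf3, one_mul] at h1
  have hkP := mem_P_of_K hJ hk hk3
  have huk := inverts hJ hu hu' hkP
  have hkC := P_le_C hJ hkP
  have hne : f * k⁻¹ ∉ P := fun h => ht1 (by
    rw [← hft]
    refine (quo_eq_one_iff hJ).2 (P_le_K hJ ?_)
    simpa using mul_mem h hkP)
  refine outer_sq hJ hNP h3 hu hu' (mul_mem hf (inv_mem hkC)) (orderOf_eq_prime ?_ fun e => hne ?_) hne ?_ hu2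
  · rw [hkf.symm.inv_right.mul_pow, hf3, one_mul, inv_pow, hk3, inv_one]
  · rw [e]; exact one_mem P
  · refine mul_inv_eq_iff_eq_mul.1 ?_
    rw [show u * (f * k⁻¹) * u⁻¹ = (u * f * u⁻¹) * (u * k * u⁻¹)⁻¹ by group, huf, huk, inv_inv,
      mul_assoc f]
    congr 1
    refine eq_inv_of_mul_eq_one_left ?_
    rw [← pow_three', hk3]

theorem outer_comm {u i : G} (hu : u ∈ cA z P) (hu' : u ∉ cC z P) (huu : u * u = 1) (hi : i ∈ cC z P)
    (hii : i * i = 1) (hfixi : sig hJ ⟨u, hu⟩ (quo hJ ⟨i, hi⟩) = quo hJ ⟨i, hi⟩)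
    {t : M} (ht : t ^ 3 = 1) (ht1 : t ≠ 1)
    (hfix : sig hJ ⟨u, hu⟩ (quo hJ ⟨i, hi⟩ * t * (quo hJ ⟨i, hi⟩)⁻¹) = t) : u * i = i * u := by
  have hiA : i ∈ cA z P := C_le_A hi
  have huiC : u * i ∉ cC z P := fun h => hu' (by simpa [mul_assoc, hii] using mul_mem h hi)
  rw [sig_apply hJ hu hi] at hfixi
  have hk : i⁻¹ * (u * i * u⁻¹) ∈ cK z P := (quo_eq_iff hJ).1 hfixi.symm
  set k := i⁻¹ * (u * i * u⁻¹) with hkdef
  have hkz : k ∈ Subgroup.zpowers z := by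
    have h1 : (i * k) * (i * k) = 1 := by
      rw [hkdef, mul_inv_cancel_left, show u * i * u⁻¹ * (u * i * u⁻¹) = u * (i * i) * u⁻¹ by group, hii,
        mul_one, mul_inv_cancel]
    rw [Commute.mul_mul_mul_comm (show Commute k i from J4Local.K_central hJ hk hi), hii, one_mul] at h1
    rcases K_sq_one hJ hk h1 with e | e <;> rw [e]
    exacts [one_mem _, Subgroup.mem_zpowers z]
  have hsq : (u * i) * (u * i) = k := by
    calc (u * i) * (u * i) = (u * i * u⁻¹) * (u * u) * i := by group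
      _ = i * k * i := by rw [huu, mul_one, show u * i * u⁻¹ = i * k by rw [hkdef]; group]
      _ = k := by
          rw [mul_assoc, J4Local.K_central hJ hk hi, ← mul_assoc, hii, one_mul]
  have h : (u * i) * (u * i) = 1 := by
    refine outer_invol hJ hNP h3 (mul_mem hu hiA) huiC (hsq ▸ hkz) ht ht1 ?_
    rw [show (⟨u * i, _⟩ : ↥(cA z P)) = ⟨u, hu⟩ * ⟨i, hiA⟩ from rfl, map_mul, sig_C hJ hi,
      MulAut.mul_apply, MulAut.conj_apply]
    exact hfix
  calc u * i = (u * i)⁻¹ := (inv_eq_of_mul_eq_one_right h).symm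
    _ = i * u := by rw [mul_inv_rev, inv_eq_of_mul_eq_one_right hii, inv_eq_of_mul_eq_one_right huu]

/-- The sixteen lifts. -/
theorem exists_L : ∃ L : Subgroup G, L ≤ cA z P ∧ Nat.card L = 16 ∧
    ∀ l ∈ L, ∃ h : l ∈ cA z P, sig hJ ⟨l, h⟩ ∈ nBoth ∧
      ∀ a ∈ subA, sig hJ ⟨l, h⟩ = MulAut.conj a → l = 1 := by
  haveI : Fact (Nat.Prime 2) := ⟨Nat.prime_two⟩
  -- the outer involution
  obtain ⟨⟨v, hv⟩, hvs⟩ := sig_surjective hJ (autL Data.outA)
  set u := v ^ 3 with hudef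
  have hu : u ∈ cA z P := pow_mem hv 3
  have hus : sig hJ ⟨u, hu⟩ = autL Data.outA := by
    rw [show (⟨u, hu⟩ : ↥(cA z P)) = ⟨v, hv⟩ ^ 3 from rfl, map_pow, hvs, pow_succ, pow_two, autL_out_mul_self,
      one_mul]
  have hu' : u ∉ cC z P := fun h => autL_not_inn out_ok.1 (by
    rw [← hus, sig_C hJ h]; exact ⟨_, rfl⟩)
  have hu2 : u * u ∈ Subgroup.zpowers z := by
    have hvk : v * v ∈ cK z P := (sig_eq_one_iff hJ (mul_mem hv hv)).1 (by
      rw [show (⟨v * v, _⟩ : ↥(cA z P)) = ⟨v, hv⟩ * ⟨v, hv⟩ from rfl, map_mul, hvs, autL_out_mul_self])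
    have he : u * u = (v * v) ^ 3 := by
      rw [hudef, ← pow_two, ← pow_two, ← pow_mul, ← pow_mul]
    rw [he]
    rcases K_sq_one hJ (pow_mem hvk 3) (by rw [← pow_two, ← pow_mul, K_pow_six hJ hvk]) with e | e <;> rw [e]
    exacts [one_mem _, Subgroup.mem_zpowers z]
  obtain ⟨-, -, -, hinC, hinI, hinJ⟩ := two_in
  obtain ⟨hfixC, hfixI, hfixJ⟩ := two_fix
  have huu : u * u = 1 := by
    obtain ⟨t3, t1⟩ := three_el (T := Data.threeC) (by simp) hinC
    refine outer_invol hJ hNP h3 hu hu' hu2 t3 t1 ?_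
    rw [hus]
    exact eq_of_toL (by rw [toL_autL out_ok.1, toL_el hinC]) (toL_el hinC) hfixC
  -- the inner involutions
  obtain ⟨i, hi, hii, hiq⟩ := lift_invol hJ mI_sq mI_ne
  obtain ⟨j, hj, hjj, hjq⟩ := lift_invol hJ mJ_sq mJ_ne
  have hui : u * i = i * u := by
    obtain ⟨t3, t1⟩ := three_el (T := Data.threeI) (by simp) hinI
    refine outer_comm hJ hNP h3 hu hu' huu hi hii (by rw [hiq, hus, out_mI]) t3 t1 ?_
    rw [hiq, hus]
    exact eq_of_toL (by rw [toL_autL out_ok.1, toL_conj, toL_mI, toL_el hinI]) (toL_el hinI) hfixI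
  have huj : u * j = j * u := by
    obtain ⟨t3, t1⟩ := three_el (T := Data.threeJ) (by simp) hinJ
    refine outer_comm hJ hNP h3 hu hu' huu hj hjj (by rw [hjq, hus, out_mJ]) t3 t1 ?_
    rw [hjq, hus]
    exact eq_of_toL (by rw [toL_autL out_ok.1, toL_conj, toL_mJ, toL_el hinJ]) (toL_el hinJ) hfixJ
  -- the dihedral part
  set r := i * j with hr
  have hrC : r ∈ cC z P := mul_mem hi hj
  have hrq : quo hJ ⟨r, hrC⟩ = mI * mJ := by
    rw [show (⟨r, hrC⟩ : ↥(cC z P)) = ⟨i, hi⟩ * ⟨j, hj⟩ from rfl, map_mul, hiq, hjq]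
  have hr2q : quo hJ ⟨r ^ 2, pow_mem hrC 2⟩ = (mI * mJ) ^ 2 := by
    rw [show (⟨r ^ 2, _⟩ : ↥(cC z P)) = ⟨r, hrC⟩ ^ 2 from rfl, map_pow, hrq]
  have hr2K : r ^ 2 ∉ cK z P := fun h => mIJ_sq_ne (by rw [← hr2q]; exact (quo_eq_one_iff hJ).2 h)
  have hir : i * r * i⁻¹ = r⁻¹ := by
    rw [hr, mul_inv_rev, inv_eq_of_mul_eq_one_right hii, inv_eq_of_mul_eq_one_right hjj, ← mul_assoc i i j, hii,
      one_mul]
  have hr4 : r ^ 4 = 1 := by
    have hrrK : r ^ 2 * r ^ 2 ∈ cK z P := by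
      have : quo hJ (⟨r, hrC⟩ ^ 4) = 1 := by rw [map_pow, hrq, mIJ_four]
      rw [← pow_add]; exact (quo_eq_one_iff hJ).1 this
    obtain ⟨k, hk, hkk⟩ := exists_invol_lift hJ (pow_mem hrC 2) hr2K hrrK
    rw [Commute.mul_mul_mul_comm (show Commute k (r ^ 2) from J4Local.K_central hJ (P_le_K hJ hk) (pow_mem hrC 2)),
      ← pow_add] at hkk
    have hkP : r ^ 4 ∈ P := by
      rw [eq_inv_of_mul_eq_one_left hkk]; exact inv_mem (mul_mem hk hk)
    have h1 : i * r ^ 4 * i⁻¹ = (r ^ 4)⁻¹ := by rw [← conj_pow, hir, inv_pow]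
    rw [← J4Local.K_central hJ (P_le_K hJ hkP) hi, mul_inv_cancel_right] at h1
    have h2 : r ^ 4 * r ^ 4 = 1 := mul_eq_one_iff_eq_inv.2 h1
    rcases K_sq_one hJ (P_le_K hJ hkP) h2 with e | e
    · exact e
    · exfalso
      have h3' := P_cube hJ hkP
      rw [e, pow_succ, pow_two, J4Local.z_sq hJ, one_mul] at h3'
      exact J4Local.z_ne_one hJ h3'
  have hro : orderOf r = 2 ^ (1 + 1) := orderOf_eq_prime_pow (fun h => hr2K (by
    rw [show (r ^ 2 : G) = r ^ 2 ^ 1 by norm_num, h]; exact one_mem _)) (by norm_num [hr4])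
  have hin : Subgroup.zpowers i ≤ Subgroup.normalizer (Subgroup.zpowers r : Set G) := by
    refine Subgroup.zpowers_le.2 (Subgroup.mem_normalizer_iff_map_conj_eq.2 ?_)
    rw [MonoidHom.map_zpowers]
    show Subgroup.zpowers (i * r * i⁻¹) = _
    rw [hir, Subgroup.zpowers_inv]
  have hioz : orderOf i = 2 := orderOf_eq_prime (by rw [pow_two, hii]) fun e => mI_ne (by
    rw [← hiq, show (⟨i, hi⟩ : ↥(cC z P)) = 1 from Subtype.ext e, map_one])
  have hdis : Subgroup.zpowers i ⊓ Subgroup.zpowers r = ⊥ := by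
    refine (Subgroup.eq_bot_iff_forall _).2 fun x hx => ?_
    rcases (CfsgLib.Extra2.mem_zpowers_iff hii).1 hx.1 with e | e
    · exact e
    · exfalso
      obtain ⟨n, hn⟩ := hx.2
      have hc : Commute i r := by
        rw [← e, ← hn]; exact (Commute.refl r).zpow_left n
      rw [hc.eq, mul_inv_cancel_right] at hir
      exact hr2K (by
        rw [pow_two]; nth_rewrite 2 [hir]
        rw [mul_inv_cancel]; exact one_mem _)
  set D : Subgroup G := Subgroup.zpowers i ⊔ Subgroup.zpowers r with hD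
  have hDC : D ≤ cC z P := sup_le (Subgroup.zpowers_le.2 hi) (Subgroup.zpowers_le.2 hrC)
  have hcD : Nat.card D = 8 := by
    rw [hD, CfsgLib.Solvable.card_sup_of_disjoint hin hdis, Nat.card_zpowers, Nat.card_zpowers, hioz, hro]
    norm_num
  have hur : Commute u r := (show Commute u i from hui).mul_right huj
  have huD : Subgroup.zpowers u ≤ Subgroup.normalizer (D : Set G) := by
    refine Subgroup.zpowers_le.2 (Subgroup.centralizer_le_normalizer _ (Subgroup.mem_centralizer_iff.2 ?_))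
    intro x hx
    have hle : D ≤ Subgroup.centralizer ({u} : Set G) := sup_le
      (Subgroup.zpowers_le.2 (Subgroup.mem_centralizer_singleton_iff.2 hui.symm))
      (Subgroup.zpowers_le.2 (Subgroup.mem_centralizer_singleton_iff.2 hur.eq.symm))
    exact Subgroup.mem_centralizer_singleton_iff.1 (hle hx)
  have huo : orderOf u = 2 := orderOf_eq_prime (by rw [pow_two, huu]) fun e => hu' (by
    rw [e]; exact one_mem _)
  have hdisu : Subgroup.zpowers u ⊓ D = ⊥ := by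
    refine (Subgroup.eq_bot_iff_forall _).2 fun x hx => ?_
    rcases (CfsgLib.Extra2.mem_zpowers_iff huu).1 hx.1 with e | e
    · exact e
    · exact absurd (e ▸ hDC hx.2) hu'
  refine ⟨Subgroup.zpowers u ⊔ D,
    sup_le (Subgroup.zpowers_le.2 hu) (hDC.trans C_le_A), ?_, fun l hl => ?_⟩
  · rw [CfsgLib.Solvable.card_sup_of_disjoint huD hdisu, Nat.card_zpowers, huo, hcD]
  obtain ⟨x, hx, d, hd, rfl⟩ := (CfsgLib.Solvable.mem_sup_of_le_normalizer huD).1 hl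
  obtain ⟨y, hy, w, hw, rfl⟩ := (CfsgLib.Solvable.mem_sup_of_le_normalizer hin).1 hd
  obtain ⟨b, hb, rfl⟩ : ∃ b < 2, i ^ b = y := by
    rcases (CfsgLib.Extra2.mem_zpowers_iff hii).1 hy with e | e
    · exact ⟨0, by norm_num, by rw [pow_zero, e]⟩
    · exact ⟨1, by norm_num, by rw [pow_one, e]⟩
  obtain ⟨c, hc, rfl⟩ : ∃ c < 4, r ^ c = w := by
    classical
    rw [mem_zpowers_iff_mem_range_orderOf, Finset.mem_image] at hw
    obtain ⟨c, hc, e⟩ := hw
    rw [Finset.mem_range, hro] at hc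
    exact ⟨c, by simpa using hc, e⟩
  have hdC : i ^ b * r ^ c ∈ cC z P := mul_mem (pow_mem hi b) (pow_mem hrC c)
  have hdq : quo hJ ⟨i ^ b * r ^ c, hdC⟩ = mI ^ b * (mI * mJ) ^ c := by
    rw [show (⟨i ^ b * r ^ c, hdC⟩ : ↥(cC z P)) = ⟨i, hi⟩ ^ b * ⟨r, hrC⟩ ^ c from rfl, map_mul, map_pow,
      map_pow, hiq, hrq]
  have hIJ : mI ^ b * (mI * mJ) ^ c ∈ Subgroup.closure ({mI, mJ} : Set M) := mul_mem
    (pow_mem (Subgroup.subset_closure (by simp)) b)
    (pow_mem (mul_mem (Subgroup.subset_closure (by simp)) (Subgroup.subset_closure (by simp))) c)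
  have hnI : Subgroup.closure ({mI, mJ} : Set M) ≤ nBoth.comap MulAut.conj := by
    refine (Subgroup.closure_le _).2 ?_
    rintro m (rfl | rfl)
    · exact mem_nBoth (K := Data.innI) (by simp) fun a => by rw [MulAut.conj_apply, toL_conj, toL_mI]
    · exact mem_nBoth (K := Data.innJ) (by simp) fun a => by rw [MulAut.conj_apply, toL_conj, toL_mJ]
  have hsd : sig hJ ⟨i ^ b * r ^ c, C_le_A hdC⟩ = MulAut.conj (mI ^ b * (mI * mJ) ^ c) := by
    rw [sig_C hJ hdC, hdq]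
  rcases (CfsgLib.Extra2.mem_zpowers_iff huu).1 hx with rfl | rfl
  · refine ⟨mul_mem (one_mem _) (C_le_A hdC), ?_, fun a ha e => ?_⟩
    · simp only [one_mul]; rw [hsd]; exact hnI hIJ
    · simp only [one_mul] at e ⊢
      rw [hsd] at e
      obtain ⟨rfl, rfl⟩ := mem_subA_sep hb hc (J4M22.conj_injective e ▸ ha)
      simp
  · have hs : sig hJ ⟨u * (i ^ b * r ^ c), mul_mem hu (C_le_A hdC)⟩ =
        autL Data.outA * MulAut.conj (mI ^ b * (mI * mJ) ^ c) := by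
      rw [show (⟨u * (i ^ b * r ^ c), _⟩ : ↥(cA z P)) = ⟨u, hu⟩ * ⟨_, C_le_A hdC⟩ from rfl, map_mul, hus, hsd]
    refine ⟨mul_mem hu (C_le_A hdC), ?_, fun a ha e => ?_⟩
    · rw [hs]
      exact mul_mem (mem_nBoth (K := Data.outA) (by simp) fun a => toL_autL out_ok.1 a) (hnI hIJ)
    · exfalso
      rw [hs, ← eq_mul_inv_iff_mul_eq, ← map_inv, ← map_mul] at e
      exact autL_not_inn out_ok.1 ⟨_, e.symm⟩

/-- A subgroup of order `2 ^ 10` meeting the elementary subgroup of order `2 ^ 11` trivially and normalising it. -/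
theorem exists_two_complement : ∃ K2 : Subgroup G,
    K2 ≤ Subgroup.normalizer (vZero hJ subA : Set G) ∧ K2 ⊓ vZero hJ subA = ⊥ ∧ Nat.card K2 = 2 ^ 10 := by
  obtain ⟨L, hLA, hLc, hL⟩ := exists_L hJ hNP h3
  obtain ⟨⟨g, hg⟩, hgq⟩ := quo_surjective hJ mG
  have hA := hexad.first
  set X := fixA hJ subA with hX
  set X' := X.map (MulAut.conj g).toMonoidHom with hX'
  have hgH : g ∈ cH z := hg.1
  have hXE : X ≤ cE z := fixA_le hJ subA
  have hX'E : X' ≤ cE z := by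
    rintro _ ⟨x, hx, rfl⟩
    exact (Subgroup.mem_normalizer_iff.1 (H_le_normalizer_E hgH) x).1 (hXE hx)
  have hgz : g * z * g⁻¹ = z := by rw [mem_cH.1 hgH, mul_inv_cancel_right]
  have hzX' : z ∈ X' := ⟨z, z_mem_fixA hJ subA, hgz⟩
  have hcX' : Nat.card X' = 128 := by
    rw [hX', Subgroup.card_map_of_injective (MulAut.conj g).injective, card_fixA hJ hA]
  -- the two fixed subgroups meet in `⟨z⟩`
  have hW : X ⊓ X' ≤ Subgroup.zpowers z := by
    set W := X ⊓ X' with hW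
    have hzW : z ∈ W := Subgroup.mem_inf.2 ⟨z_mem_fixA hJ subA, hzX'⟩
    let K3 : Subgroup G := cC z P ⊓ fixer W (Subgroup.zpowers z)
    have key : ∀ b ∈ cC z P, (∀ x ∈ W, b * x * b⁻¹ * x⁻¹ ∈ Subgroup.zpowers z) → b ∈ K3 := by
      intro b hb hfix
      have hmap : W.map (MulAut.conj b).toMonoidHom = W := by
        refine Subgroup.eq_of_le_of_card_ge ?_
          (Subgroup.card_map_of_injective (MulAut.conj b).injective).ge
        rintro _ ⟨x, hx, rfl⟩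
        show b * x * b⁻¹ ∈ W
        rw [show b * x * b⁻¹ = (b * x * b⁻¹ * x⁻¹) * x by group]
        exact mul_mem (Subgroup.zpowers_le.2 hzW (hfix x hx)) hx
      exact Subgroup.mem_inf.2 ⟨hb, mem_fixer.2 ⟨Subgroup.mem_normalizer_iff_map_conj_eq.2 hmap,
        H_le_normalizer_z hb.1, hfix⟩⟩
    have hsub : subA ⊔ subA.map (MulAut.conj mG).toMonoidHom ≤ img hJ K3 := by
      refine sup_le (fun b hb => ?_) ?_
      · obtain ⟨b', hb', hbl, rfl⟩ := exists_lift hJ hexad hb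
        exact (mem_img hJ).2 ⟨b', hb',
          key b' hb' (fun x hx => (mem_fixE.1 (Subgroup.mem_inf.1 hx).1).2 b' hbl), rfl⟩
      · rintro _ ⟨b, hb, rfl⟩
        obtain ⟨b', hb', hbl, rfl⟩ := exists_lift hJ hexad hb
        refine (mem_img hJ).2 ⟨g * b' * g⁻¹, mul_mem (mul_mem hg hb') (inv_mem hg),
          key _ (mul_mem (mul_mem hg hb') (inv_mem hg)) (fun x hx => ?_), ?_⟩
        · obtain ⟨x0, hx0, rfl⟩ := (Subgroup.mem_inf.1 hx).2
          show g * b' * g⁻¹ * (g * x0 * g⁻¹) * (g * b' * g⁻¹)⁻¹ * (g * x0 * g⁻¹)⁻¹ ∈ _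
          rw [show g * b' * g⁻¹ * (g * x0 * g⁻¹) * (g * b' * g⁻¹)⁻¹ * (g * x0 * g⁻¹)⁻¹ =
            g * (b' * x0 * b'⁻¹ * x0⁻¹) * g⁻¹ by group]
          exact (Subgroup.mem_normalizer_iff.1 (H_le_normalizer_z hgH) _).1
            ((mem_fixE.1 hx0).2 b' hbl)
        · show quo hJ (⟨g, hg⟩ * ⟨b', hb'⟩ * ⟨g, hg⟩⁻¹) = _
          rw [map_mul, map_mul, map_inv, hgq]; rfl
    obtain ⟨x, hx, y, hy, hxy⟩ := hasNine_sup
    have hP := P_le_of_nine hJ (K := K3) ⟨x, hsub hx, y, hsub hy, hxy⟩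
    exact fun a ha => mem_zpowers_of_P_fixed hJ (hXE (Subgroup.mem_inf.1 ha).1)
      fun p hp => (mem_fixer.1 (Subgroup.mem_inf.1 (hP hp)).2).2.2 a ha
  -- the commutators with `P`
  obtain ⟨p, hp, hp1⟩ : ∃ p ∈ P, p ≠ 1 := by
    haveI : Nontrivial ↥P := Finite.one_lt_card_iff_nontrivial.1 (by rw [card_P hJ]; norm_num)
    obtain ⟨⟨p, hp⟩, h⟩ := exists_ne (1 : ↥P)
    exact ⟨p, hp, fun e => h (Subtype.ext e)⟩
  have hpn : ∀ q ∈ P, ∀ x ∈ X', q * x * q⁻¹ ∈ X' := by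
    rintro q hq _ ⟨x, hx, rfl⟩
    refine ⟨q * x * q⁻¹, (Subgroup.mem_normalizer_iff.1 (normalizer_fixA hJ subA (P_le_pre hJ _ hq)) x).1 hx, ?_⟩
    show g * (q * x * q⁻¹) * g⁻¹ = q * (g * x * g⁻¹) * q⁻¹
    have hc : Commute q g := J4Local.K_central hJ (P_le_K hJ hq) hg
    calc g * (q * x * q⁻¹) * g⁻¹ = (g * q) * x * (g * q)⁻¹ := by group
      _ = (q * g) * x * (q * g)⁻¹ := by rw [hc.eq]
      _ = q * (g * x * g⁻¹) * q⁻¹ := by group
  have hcomm : ∀ x ∈ X', ∀ y ∈ X', x * y = y * x := by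
    rintro _ ⟨x, hx, rfl⟩ _ ⟨y, hy, rfl⟩
    rw [← map_mul, ← map_mul, fixA_comm hJ hA hx hy]
  have hpc : ∀ x, x ∈ X' → p * x * p⁻¹ * x⁻¹ ∈ X' := fun x hx => mul_mem (hpn p hp x hx) (inv_mem hx)
  let f : ↥X' →* ↥X' := MonoidHom.mk' (fun x => ⟨p * (x : G) * p⁻¹ * (x : G)⁻¹, hpc _ x.2⟩)
    (fun a b => Subtype.ext (by
      show p * ((a : G) * b) * p⁻¹ * ((a : G) * b)⁻¹ =
        (p * (a : G) * p⁻¹ * (a : G)⁻¹) * (p * (b : G) * p⁻¹ * (b : G)⁻¹)
      rw [show p * ((a : G) * b) * p⁻¹ * ((a : G) * b)⁻¹ =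
        (p * (a : G) * p⁻¹) * ((p * (b : G) * p⁻¹ * (b : G)⁻¹) * (a : G)⁻¹) by group,
        hcomm _ (hpc _ b.2) _ (inv_mem a.2), ← mul_assoc]))
  set Y := f.range.map X'.subtype with hY
  have hY_mem : ∀ {w}, w ∈ Y ↔ ∃ x ∈ X', p * x * p⁻¹ * x⁻¹ = w := by
    intro w
    constructor
    · rintro ⟨_, ⟨x, rfl⟩, rfl⟩; exact ⟨x, x.2, rfl⟩
    · rintro ⟨x, hx, rfl⟩; exact ⟨_, ⟨⟨x, hx⟩, rfl⟩, rfl⟩
  have hYX' : Y ≤ X' := Subgroup.map_subtype_le _
  have hYc : Nat.card Y = 64 := by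
    have hker : f.ker.map X'.subtype = Subgroup.zpowers z := by
      refine le_antisymm ?_ (Subgroup.zpowers_le.2 ⟨⟨z, hzX'⟩, ?_, rfl⟩)
      · rintro _ ⟨⟨x, hx⟩, hx', rfl⟩
        have h : p * x * p⁻¹ * x⁻¹ = 1 := congrArg Subtype.val hx'
        have hc : Commute p x := mul_inv_eq_iff_eq_mul.1 (mul_inv_eq_one.1 h)
        rw [← E_inf_centralizer hJ]
        refine ⟨hX'E hx, Subgroup.mem_centralizer_iff.2 fun q hq => ?_⟩
        rcases eq_one_or_of_card_three (card_P hJ) hp hp1 hq with rfl | rfl | rfl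
        · simp
        · exact hc.eq
        · exact hc.inv_left.eq
      · refine Subtype.ext ?_
        show p * z * p⁻¹ * z⁻¹ = 1
        rw [mem_cH.1 (P_le_H hJ hp), mul_inv_cancel_right, mul_inv_cancel]
    have h := f.ker.card_mul_index
    rw [Subgroup.index_ker, hcX', ← Subgroup.card_map_of_injective X'.subtype_injective, hker,
      card_zpowers_z hJ, ← Subgroup.card_map_of_injective X'.subtype_injective, ← hY] at h
    omega
  have hzY : z ∉ Y := fun h => by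
    obtain ⟨x, hx, e⟩ := hY_mem.1 h
    have e' : p * x * p⁻¹ = z * x := mul_inv_eq_iff_eq_mul.1 e
    have hpz : Commute p z := mem_cH.1 (P_le_H hJ hp)
    have e2 : p * (p * x * p⁻¹) * p⁻¹ = x := by
      rw [e', show p * (z * x) * p⁻¹ = (p * z) * x * p⁻¹ by group, hpz.eq, mul_assoc z p, mul_assoc z, e',
        ← mul_assoc, J4Local.z_sq hJ, one_mul]
    have e3 : p * (p * (p * x * p⁻¹) * p⁻¹) * p⁻¹ = x := by
      have h3' := P_cube hJ hp
      rw [pow_three'] at h3'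
      rw [show p * (p * (p * x * p⁻¹) * p⁻¹) * p⁻¹ = (p * p * p) * x * (p * p * p)⁻¹ by group, h3', one_mul,
        inv_one, mul_one]
    rw [e2, e'] at e3
    exact J4Local.z_ne_one hJ (mul_eq_right.1 e3)
  have hYX : Y ⊓ X ≤ ⊥ := fun w hw => by
    rcases (CfsgLib.Extra2.mem_zpowers_iff (J4Local.z_sq hJ)).1
      (hW (Subgroup.mem_inf.2 ⟨hw.2, hYX' hw.1⟩)) with e | e
    · exact e
    · exact absurd (e ▸ hw.1) hzY
  have hLY : L ≤ Subgroup.normalizer (Y : Set G) := le_normalizer_of_conj fun l hl w hw => by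
    obtain ⟨hlA, hn, -⟩ := hL l hl
    obtain ⟨x, hx, rfl⟩ := hY_mem.1 hw
    have hx' : l * x * l⁻¹ ∈ X' := by
      have hm : g⁻¹ * l * g ∈ preA hJ subA := by
        have hgA : g ∈ cA z P := C_le_A hg
        refine (mem_preA hJ).2 ⟨mul_mem (mul_mem (inv_mem hgA) hlA) hgA, ?_⟩
        rw [show (⟨g⁻¹ * l * g, _⟩ : ↥(cA z P)) = ⟨g, hgA⟩⁻¹ * ⟨l, hlA⟩ * ⟨g, hgA⟩ from rfl, map_mul,
          map_mul, map_inv, sig_C hJ hg, hgq]
        have h2 : MulAut.conj (MulAut.conj mG)⁻¹ (sig hJ ⟨l, hlA⟩) ∈ nA subA := (Subgroup.mem_inf.1 hn).2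
        rwa [MulAut.conj_apply, inv_inv] at h2
      obtain ⟨x0, hx0, rfl⟩ := hx
      refine ⟨(g⁻¹ * l * g) * x0 * (g⁻¹ * l * g)⁻¹,
        (Subgroup.mem_normalizer_iff.1 (preA_le_normalizer_fixA hJ subA hm) x0).1 hx0, ?_⟩
      show g * ((g⁻¹ * l * g) * x0 * (g⁻¹ * l * g)⁻¹) * g⁻¹ = l * (g * x0 * g⁻¹) * l⁻¹
      group
    have hlp : l * p * l⁻¹ ∈ P := (Subgroup.mem_normalizer_iff.1 hlA.2 p).1 hp
    rw [show l * (p * x * p⁻¹ * x⁻¹) * l⁻¹ =
      (l * p * l⁻¹) * (l * x * l⁻¹) * (l * p * l⁻¹)⁻¹ * (l * x * l⁻¹)⁻¹ by group]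
    rcases eq_one_or_of_card_three (card_P hJ) hp hp1 hlp with e | e | e <;> rw [e]
    · simp only [one_mul, inv_one, mul_one, mul_inv_cancel]; exact one_mem _
    · exact hY_mem.2 ⟨_, hx', rfl⟩
    · set x' := l * x * l⁻¹
      have hy : p⁻¹ * x' * p ∈ X' := by simpa using hpn p⁻¹ (inv_mem hp) x' hx'
      refine hY_mem.2 ⟨p⁻¹ * x'⁻¹ * p, ?_, ?_⟩
      · simpa [mul_assoc] using inv_mem hy
      · rw [inv_inv, show p * (p⁻¹ * x'⁻¹ * p) * p⁻¹ * (p⁻¹ * x'⁻¹ * p)⁻¹ = x'⁻¹ * (p⁻¹ * x' * p) by group]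
        exact hcomm _ (inv_mem hx') _ hy
  have hYE : Y ≤ cE z := hYX'.trans hX'E
  have hLE : L ⊓ cE z ≤ Subgroup.zpowers z := fun x hx => mem_zpowers_of_A_E hJ (hLA hx.1) hx.2
  have hdis : L ⊓ Y = ⊥ := by
    refine (Subgroup.eq_bot_iff_forall _).2 fun w hw => ?_
    rcases (CfsgLib.Extra2.mem_zpowers_iff (J4Local.z_sq hJ)).1 (hLE ⟨hw.1, hYE hw.2⟩) with e | e
    · exact e
    · exact absurd (e ▸ hw.2) hzY
  refine ⟨L ⊔ Y, sup_le (fun l hl => ?_) (hYE.trans (E_le_normalizer_vZero hJ hexad)),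
    (Subgroup.eq_bot_iff_forall _).2 fun v hv => ?_,
    by rw [CfsgLib.Solvable.card_sup_of_disjoint hLY hdis, hLc, hYc]; norm_num⟩
  · obtain ⟨hlA, hn, -⟩ := hL l hl
    exact preA_le_normalizer_vZero hJ hexad ((mem_preA hJ).2 ⟨hlA, (Subgroup.mem_inf.1 hn).1⟩)
  obtain ⟨l, hl, w, hw, rfl⟩ := (CfsgLib.Solvable.mem_sup_of_le_normalizer hLY).1 hv.1
  obtain ⟨a, ha, x, hx, e⟩ := (mem_vZero hJ hA).1 hv.2
  obtain ⟨haC, haA⟩ := quo_liftTwo hJ hexad ha
  obtain ⟨hlA, -, hsep⟩ := hL l hl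
  have hd : a⁻¹ * l ∈ cK z P := by
    refine zpowers_le_K hJ (mem_zpowers_of_A_E hJ (mul_mem (inv_mem (C_le_A haC)) hlA) ?_)
    rw [show a⁻¹ * l = x * w⁻¹ by rw [eq_mul_inv_iff_mul_eq, mul_assoc, ← e, inv_mul_cancel_left]]
    exact mul_mem (hXE hx) (inv_mem (hYE hw))
  have hl1 : l = 1 := by
    refine hsep _ haA ?_
    rw [← sig_C hJ haC]
    have h1 := (sig_eq_one_iff hJ (mul_mem (inv_mem (C_le_A haC)) hlA)).2 hd
    rw [show (⟨a⁻¹ * l, _⟩ : ↥(cA z P)) = ⟨a, C_le_A haC⟩⁻¹ * ⟨l, hlA⟩ from rfl, map_mul, map_inv] at h1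
    exact (inv_mul_eq_one.1 h1).symm
  subst hl1
  rw [one_mul] at hv ⊢
  exact hYX (Subgroup.mem_inf.2 ⟨hw, (vZero_inf_E hJ hA).le (Subgroup.mem_inf.2 ⟨hv.2, hYE hw⟩)⟩)

end CfsgLib.J4Eleven
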