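import Mathlib
import Cfsg.Agent.AutFrattini.Basic
import Cfsg.Agent.KGroup.TISet

/-!
The normalizer of a self-centralizing elementary abelian group of order `2 ^ 11` divides the order
of the full linear group, and does not have order `2 ^ 21 * 135 * 2047`.
-/

set_option autoImplicit false
set_option linter.style.haveILetI false

namespace CfsgLib.J4Eleven

open Subgroup

variable {G : Type*} [Group G] [Finite G] {V : Subgroup G}

theorem dvd_gl_eleven (hV : ∀ v ∈ V, v * v = 1) (hc : Nat.card V = 2 ^ 11)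
    (hcent : Subgroup.centralizer (V : Set G) ≤ V) :
    Nat.card ↥(Subgroup.normalizer (V : Set G)) ∣
      2 ^ 11 * ∏ i ∈ Finset.range 11, (2 ^ 11 - 2 ^ i) := by
  haveI : Fact (Nat.Prime 2) := ⟨Nat.prime_two⟩
  have hb : frattini V = ⊥ := CfsgLib.TISet.frattini_eq_bot_of_sq fun g => by
    rw [sq]; exact Subtype.ext (hV g g.2)
  have hA := CfsgLib.AutFrattini.card_mulAut_dvd (p := 2) (n := 11) (r := 11) hc
    (by rw [hb, index_bot, hc])
  rw [Nat.sub_self, mul_zero, pow_zero, one_mul] at hA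
  rw [← (V.normalizerMonoidHom).ker.card_mul_index, index_ker]
  refine Nat.mul_dvd_mul ?_ ((card_subgroup_dvd_card _).trans hA)
  rw [← hc, ← Nat.card_congr (subgroupOfEquivOfLe (le_normalizer (H := V))).toEquiv,
    normalizerMonoidHom_ker]
  exact card_dvd_of_le (comap_mono hcent)

/-- An element of order `89` has no or only trivial fixed points on an invariant subgroup. -/
theorem card_cases_eightyNine (hc : Nat.card V = 2 ^ 11) {x : G} (hx : orderOf x = 89)
    {F : Subgroup G} (hF : F ≤ V) (hxF : x ∈ normalizer (F : Set G))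
    {k : ℕ} (hk : Nat.card ↥(F ⊓ centralizer {x}) = 2 ^ k) (hk1 : k = 0 ∨ F = V) :
    (∃ j ≤ 11, Nat.card F = 2 ^ j ∧ (2 ^ j ≡ 2 ^ k [MOD 89])) ∧ k ≤ 11 := by
  classical
  haveI : Fact (Nat.Prime 89) := ⟨by norm_num⟩
  have hP : IsPGroup 89 (zpowers x) := IsPGroup.of_card (n := 1) (by rw [Nat.card_zpowers, hx]; norm_num)
  obtain ⟨j, hj, hjc⟩ := (Nat.dvd_prime_pow Nat.prime_two).1 (hc ▸ card_dvd_of_le hF)
  refine ⟨⟨j, hj, hjc, ?_⟩, ?_⟩
  · letI : MulAction (zpowers x) F :=
      MulAction.compHom F ((F.normalizerMonoidHom).comp (inclusion (zpowers_le.2 hxF)))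
    have h := hP.card_modEq_card_fixedPoints F
    have e : MulAction.fixedPoints (zpowers x) F ≃ ↥(F ⊓ centralizer {x}) :=
      { toFun := fun f => ⟨f.1, f.1.2, by
          have h1 := congrArg Subtype.val (f.2 ⟨x, mem_zpowers x⟩)
          change x * (f.1 : G) * x⁻¹ = f.1 at h1
          refine mem_centralizer_singleton_iff.2 ?_
          calc (f.1 : G) * x = (x * f.1 * x⁻¹) * x := by rw [h1]
            _ = x * f.1 := by group⟩
        invFun := fun f => ⟨⟨f.1, f.2.1⟩, fun g => Subtype.ext (by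
          change (g : G) * f.1 * (g : G)⁻¹ = f.1
          obtain ⟨i, hi⟩ := mem_zpowers_iff.1 g.2
          have hfx : Commute (f.1 : G) x := mem_centralizer_singleton_iff.1 f.2.2
          rw [← hi, ← (hfx.zpow_right i).eq, mul_inv_cancel_right])⟩
        left_inv := fun f => rfl
        right_inv := fun f => rfl }
    rwa [Nat.card_congr e, hjc, hk] at h
  · rcases hk1 with rfl | rfl
    · omega
    · exact (Nat.pow_dvd_pow_iff_le_right (by norm_num)).1
        (hk ▸ hc ▸ card_dvd_of_le (inf_le_left : F ⊓ centralizer {x} ≤ F))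

theorem fixed_eq_bot (hV : ∀ v ∈ V, v * v = 1) (hc : Nat.card V = 2 ^ 11)
    (hcent : Subgroup.centralizer (V : Set G) ≤ V) {x : G} (hx : orderOf x = 89)
    (hxV : x ∈ normalizer (V : Set G)) : V ⊓ centralizer {x} = ⊥ := by
  obtain ⟨k, -, hk⟩ := (Nat.dvd_prime_pow Nat.prime_two).1
    (hc ▸ card_dvd_of_le (inf_le_left : V ⊓ centralizer {x} ≤ V))
  obtain ⟨⟨j, -, hj, hmod⟩, hk11⟩ := card_cases_eightyNine hc hx le_rfl hxV hk (Or.inr rfl)
  rw [← hj, hc] at hmod
  rcases eq_or_ne k 11 with rfl | hk2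
  · exfalso
    have h := eq_of_le_of_card_ge (inf_le_left : V ⊓ centralizer {x} ≤ V) (by rw [hk, hc])
    have hxC : x ∈ centralizer (V : Set G) := mem_centralizer_iff.2 fun v hv =>
      mem_centralizer_singleton_iff.1 (h.ge hv).2
    have : orderOf x ∣ 2 := orderOf_dvd_of_pow_eq_one (by rw [sq]; exact hV x (hcent hxC))
    rw [hx] at this
    norm_num at this
  · have : k = 0 := by
      unfold Nat.ModEq at hmod
      interval_cases k <;> simp_all
    rw [this, pow_zero] at hk
    exact eq_bot_of_card_eq _ hk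

/-- Anything commuting with `x` and fixing a nontrivial point of `V` is trivial. -/
theorem eq_one_of_fix (hV : ∀ v ∈ V, v * v = 1) (hc : Nat.card V = 2 ^ 11)
    (hcent : Subgroup.centralizer (V : Set G) ≤ V) {x : G} (hx : orderOf x = 89)
    (hxV : x ∈ normalizer (V : Set G)) {m : G} (hm : m * x = x * m) {v : G} (hv : v ∈ V)
    (hv1 : v ≠ 1) (hmv : m * v = v * m) : m = 1 := by
  have hb := fixed_eq_bot hV hc hcent hx hxV
  set F := V ⊓ centralizer {m}
  have hxm : Commute x m := hm.symm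
  have hxF : x ∈ normalizer (F : Set G) := by
    rw [mem_normalizer_iff]
    intro f
    simp only [F, mem_inf, mem_centralizer_singleton_iff, ← mem_normalizer_iff.1 hxV f]
    refine and_congr_right fun _ => ⟨fun h => ?_, fun h => ?_⟩
    · exact ((hxm.mul_left (h : Commute f m)).mul_left hxm.inv_left).eq
    · have h1 := ((hxm.inv_left.mul_left (h : Commute (x * f * x⁻¹) m)).mul_left hxm).eq
      simpa [mul_assoc] using h1
  have hk : Nat.card ↥(F ⊓ centralizer {x}) = 2 ^ 0 := by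
    rw [pow_zero, card_eq_one, eq_bot_iff, ← hb]
    exact inf_le_inf_right _ inf_le_left
  obtain ⟨⟨j, hj11, hj, hmod⟩, -⟩ := card_cases_eightyNine hc hx inf_le_left hxF hk (Or.inl rfl)
  have hj2 : j = 0 ∨ j = 11 := by
    unfold Nat.ModEq at hmod
    interval_cases j <;> simp_all
  rcases hj2 with rfl | rfl
  · exact absurd ((mem_bot).1 ((eq_bot_of_card_eq F (by rw [hj, pow_zero])).le
      ⟨hv, mem_centralizer_singleton_iff.2 hmv.symm⟩)) hv1
  · have h := eq_of_le_of_card_ge (inf_le_left : F ≤ V) (by rw [hj, hc])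
    have hmC : m ∈ centralizer (V : Set G) := mem_centralizer_iff.2 fun w hw =>
      mem_centralizer_singleton_iff.1 (h.ge hw).2
    exact mem_bot.1 (hb.le ⟨hcent hmC, mem_centralizer_singleton_iff.2 hm⟩)

theorem not_2047 (hV : ∀ v ∈ V, v * v = 1) (hc : Nat.card V = 2 ^ 11)
    (hcent : Subgroup.centralizer (V : Set G) ≤ V) :
    Nat.card ↥(Subgroup.normalizer (V : Set G)) ≠ 2 ^ 21 * 135 * 2047 := by
  classical
  intro hN
  set N := normalizer (V : Set G)
  haveI h89 : Fact (Nat.Prime 89) := ⟨by norm_num⟩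
  obtain ⟨x, hx⟩ := exists_prime_orderOf_dvd_card' (G := N) 89 (by rw [hN]; norm_num)
  have hxG : orderOf (x : G) = 89 := by rwa [orderOf_coe]
  have hfree : ∀ {m : N}, m * x = x * m → ∀ {v : G}, v ∈ V → v ≠ 1 →
      (m : G) * v * (m : G)⁻¹ = v → m = 1 := fun {m} hm {v} hv hv1 hmv => Subtype.ext
    (eq_one_of_fix hV hc hcent hxG x.2 (congrArg Subtype.val hm) hv hv1
      (by rw [← mul_inv_eq_iff_eq_mul]; exact hmv))
  set C := centralizer ({x} : Set N)
  let Ω := {v : V // v ≠ 1}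
  have hΩ : Nat.card Ω = 2047 := by
    haveI := Fintype.ofFinite V
    rw [Nat.card_eq_fintype_card, Fintype.card_subtype_compl, Fintype.card_subtype_eq,
      ← Nat.card_eq_fintype_card, hc]
    norm_num
  letI : MulAction C Ω :=
    { smul := fun c v => ⟨⟨(c.1 : G) * v.1.1 * (c.1 : G)⁻¹,
          (mem_normalizer_iff.1 c.1.2 _).1 v.1.2⟩, fun h => v.2 (Subtype.ext (by
            have h' : (c.1 : G) * v.1.1 * (c.1 : G)⁻¹ = 1 := congrArg Subtype.val h
            simpa using h'))⟩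
      one_smul := fun v => Subtype.ext (Subtype.ext (by
        change ((1 : C) : N).1 * v.1.1 * ((1 : C) : N).1⁻¹ = v.1.1
        simp))
      mul_smul := fun a b v => Subtype.ext (Subtype.ext (by
        change ((a * b : C) : N).1 * v.1.1 * ((a * b : C) : N).1⁻¹ =
          (a.1 : G) * ((b.1 : G) * v.1.1 * (b.1 : G)⁻¹) * (a.1 : G)⁻¹
        push_cast
        group)) }
  have hC : Nat.card C ∣ 2047 := by
    rw [← hΩ]
    refine CfsgLib.AutFrattini.card_dvd_of_free fun c v h => Subtype.ext ?_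
    exact hfree (mem_centralizer_singleton_iff.1 c.2) v.1.2 (fun e => v.2 (Subtype.ext e))
      (congrArg (fun w : Ω => (w.1 : G)) h)
  have hfact : 89 ^ (Nat.card N).factorization 89 = 89 := by
    rw [hN, show (2 : ℕ) ^ 21 * 135 * 2047 = 89 * (2 ^ 21 * 135 * 23) by norm_num,
      Nat.factorization_mul (by norm_num) (by norm_num), Finsupp.add_apply,
      h89.out.factorization_self,
      Nat.factorization_eq_zero_of_not_dvd (by norm_num : ¬ (89 : ℕ) ∣ 2 ^ 21 * 135 * 23)]
    norm_num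
  have hPc : Nat.card (zpowers x) = 89 := by rw [Nat.card_zpowers, hx]
  let P : Sylow 89 N := Sylow.ofCard (zpowers x) (by rw [hfact, hPc])
  set M := normalizer (zpowers x : Set N)
  have hM : Nat.card M * Nat.card (Sylow 89 N) = 2 ^ 21 * 135 * 2047 := by
    rw [Sylow.card_eq_index_normalizer P, ← hN]
    exact M.card_mul_index
  have hn1 : Nat.card (Sylow 89 N) % 89 = 1 := by
    have := card_sylow_modEq_one 89 N
    exact this
  have hdM : Nat.card M ∣ Nat.card C * 88 := by
    rw [← ((zpowers x).normalizerMonoidHom).ker.card_mul_index, index_ker]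
    refine Nat.mul_dvd_mul ?_ ((card_subgroup_dvd_card _).trans (dvd_of_eq ?_))
    · rw [normalizerMonoidHom_ker]
      have h1 : centralizer (zpowers x : Set N) ≤ C :=
        centralizer_le (Set.singleton_subset_iff.2 (mem_zpowers x))
      exact (card_comap_dvd_of_injective _ M.subtype M.subtype_injective).trans (card_dvd_of_le h1)
    · rw [IsCyclic.card_mulAut, hPc, Nat.totient_prime h89.out]
  have hd : Nat.card M ∣ 89 * 23 * 8 := by
    have h := Nat.dvd_gcd (hdM.trans (Nat.mul_dvd_mul_right hC 88)) (hM ▸ Dvd.intro _ rfl)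
    norm_num at h ⊢
    exact h
  have hodd : ¬ 2 ∣ Nat.card M := by
    intro h2
    haveI : Fact (Nat.Prime 2) := ⟨Nat.prime_two⟩
    obtain ⟨t, ht⟩ := exists_prime_orderOf_dvd_card' (G := M) 2 h2
    have htt : (t : N) * t = 1 := by
      have := congrArg Subtype.val (pow_orderOf_eq_one t)
      rw [ht, sq] at this
      simpa using this
    have hti : (t : N)⁻¹ = t := inv_eq_of_mul_eq_one_right htt
    obtain ⟨i, hi⟩ := mem_zpowers_iff.1 ((mem_normalizer_iff.1 t.2 x).1 (mem_zpowers x))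
    have hconj : (t : N) * x * (t : N)⁻¹ = x⁻¹ := by
      have h2' : x ^ (i * i) = x := by
        have h3 : ((t : N) * x * (t : N)⁻¹) ^ i = (t : N) * x ^ i * (t : N)⁻¹ := conj_zpow
        rw [zpow_mul]
        nth_rewrite 1 [hi]
        rw [h3, hi, hti]
        rw [show (t : N) * ((t : N) * x * (t : N)) * (t : N) =
          ((t : N) * t) * x * ((t : N) * t) by group, htt, one_mul, mul_one]
      have h4 : (89 : ℤ) ∣ i * i - 1 := by
        have h5 := orderOf_dvd_sub_iff_zpow_eq_zpow.2 (show x ^ (i * i) = x ^ (1 : ℤ) by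
          rw [h2', zpow_one])
        rwa [hx] at h5
      have h6 : (89 : ℤ) ∣ (i - 1) * (i + 1) := by
        rwa [show (i - 1) * (i + 1) = i * i - 1 by ring]
      rcases (Nat.prime_iff_prime_int.1 h89.out).dvd_or_dvd h6 with h7 | h7
      · exfalso
        have h8 : x ^ i = x ^ (1 : ℤ) := orderOf_dvd_sub_iff_zpow_eq_zpow.1 (by rw [hx]; exact h7)
        rw [hi, zpow_one, mul_inv_eq_iff_eq_mul] at h8
        have h9 : (t : N) ∈ C := mem_centralizer_singleton_iff.2 h8
        have h10 : orderOf (⟨(t : N), h9⟩ : C) ∣ 2047 := (_root_.orderOf_dvd_natCard _).trans hC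
        rw [Subgroup.orderOf_mk, orderOf_coe, ht] at h10
        norm_num at h10
      · rw [← hi, show x⁻¹ = x ^ (-1 : ℤ) by rw [zpow_neg_one]]
        exact orderOf_dvd_sub_iff_zpow_eq_zpow.1 (by rw [hx, sub_neg_eq_add]; exact h7)
    have hinv : ∀ g : zpowers x, (t : N) * g.1 * (t : N)⁻¹ = g.1⁻¹ := by
      intro g
      obtain ⟨a, ha⟩ := mem_zpowers_iff.1 g.2
      rw [← ha, ← conj_zpow, hconj, inv_zpow]
    let τ : G := ((t : N) : G)
    have hτ : τ * τ = 1 := congrArg Subtype.val htt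
    have hτi : τ⁻¹ = τ := inv_eq_of_mul_eq_one_right hτ
    set F := V ⊓ centralizer {τ}
    have hcomm : ∀ a ∈ V, ∀ b ∈ V, a * b = b * a := fun a ha b hb => by
      calc a * b = (a * b)⁻¹ := (inv_eq_of_mul_eq_one_right (hV _ (mul_mem ha hb))).symm
        _ = b⁻¹ * a⁻¹ := mul_inv_rev a b
        _ = b * a := by
          rw [inv_eq_of_mul_eq_one_right (hV a ha), inv_eq_of_mul_eq_one_right (hV b hb)]
    have hτV : ∀ v ∈ V, τ * v * τ⁻¹ ∈ V := fun v hv => (mem_normalizer_iff.1 (t : N).2 v).1 hv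
    let f : V →* V :=
      { toFun := fun v => ⟨v.1 * (τ * v.1 * τ⁻¹), mul_mem v.2 (hτV _ v.2)⟩
        map_one' := Subtype.ext (by simp)
        map_mul' := fun a b => Subtype.ext (by
          change a.1 * b.1 * (τ * (a.1 * b.1) * τ⁻¹) =
            a.1 * (τ * a.1 * τ⁻¹) * (b.1 * (τ * b.1 * τ⁻¹))
          rw [show τ * (a.1 * b.1) * τ⁻¹ = (τ * a.1 * τ⁻¹) * (τ * b.1 * τ⁻¹) by group,
            mul_assoc a.1, ← mul_assoc b.1, hcomm b.1 b.2 _ (hτV _ a.2)]
          simp only [mul_assoc]) }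
    have hker : f.ker ≤ F.subgroupOf V := fun v hv => ⟨v.2, mem_centralizer_singleton_iff.2 (by
      have h := congrArg Subtype.val (MonoidHom.mem_ker.1 hv)
      change v.1 * (τ * v.1 * τ⁻¹) = 1 at h
      have h' : τ * v.1 * τ⁻¹ = v.1 := by
        rw [← inv_eq_of_mul_eq_one_right h]; exact inv_eq_of_mul_eq_one_right (hV _ v.2)
      exact (mul_inv_eq_iff_eq_mul.1 h').symm)⟩
    have hran : f.range ≤ F.subgroupOf V := by
      rintro _ ⟨v, rfl⟩
      refine ⟨(f v).2, mem_centralizer_singleton_iff.2 ?_⟩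
      change v.1 * (τ * v.1 * τ⁻¹) * τ = τ * (v.1 * (τ * v.1 * τ⁻¹))
      rw [show v.1 * (τ * v.1 * τ⁻¹) * τ = v.1 * τ * v.1 by group,
        hcomm v.1 v.2 _ (hτV _ v.2), hτi]
      rw [show τ * (τ * v.1 * τ * v.1) = (τ * τ) * v.1 * τ * v.1 by group, hτ, one_mul]
    have hFc : Nat.card (F.subgroupOf V) = Nat.card F :=
      Nat.card_congr (subgroupOfEquivOfLe inf_le_left).toEquiv
    have hsq : 2 ^ 11 ≤ Nat.card F * Nat.card F := by
      calc 2 ^ 11 = Nat.card f.ker * f.ker.index := by rw [f.ker.card_mul_index, hc]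
        _ ≤ _ := by
          rw [index_ker, ← hFc]
          exact Nat.mul_le_mul (card_le_of_le hker) (card_le_of_le hran)
    have hF45 : 45 ≤ Nat.card F := by
      by_contra h
      have := Nat.mul_le_mul (show Nat.card F ≤ 44 by omega) (show Nat.card F ≤ 44 by omega)
      omega
    let Φ : {v : F // v ≠ 1} × zpowers x → Ω := fun p =>
      ⟨⟨(p.2.1 : G) * p.1.1.1 * (p.2.1 : G)⁻¹, (mem_normalizer_iff.1 p.2.1.2 _).1 p.1.1.2.1⟩,
        fun h => p.1.2 (Subtype.ext (by
          have h' : (p.2.1 : G) * p.1.1.1 * (p.2.1 : G)⁻¹ = 1 := congrArg Subtype.val h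
          simpa using h'))⟩
    have hΦ : Function.Injective Φ := by
      rintro ⟨⟨⟨a, haV, haC⟩, ha1⟩, g⟩ ⟨⟨⟨b, hbV, hbC⟩, hb1⟩, g'⟩ h
      have h1 : (g.1 : G) * a * (g.1 : G)⁻¹ = (g'.1 : G) * b * (g'.1 : G)⁻¹ :=
        congrArg (fun w : Ω => (w.1 : G)) h
      set q := g'⁻¹ * g with hq
      have h2 : (q.1 : G) * a * (q.1 : G)⁻¹ = b := by
        simp only [hq, Subgroup.coe_mul, Subgroup.coe_inv]
        calc _ = (g'.1 : G)⁻¹ * ((g.1 : G) * a * (g.1 : G)⁻¹) * g'.1 := by group
          _ = b := by rw [h1]; group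
      have fixτ : ∀ w, w ∈ centralizer ({τ} : Set G) → τ * w * τ⁻¹ = w := fun w hw => by
        rw [← mem_centralizer_singleton_iff.1 hw, mul_inv_cancel_right]
      have hτq : τ * (q.1 : G) * τ⁻¹ = (q.1 : G)⁻¹ := congrArg Subtype.val (hinv q)
      have h3 : (q.1 : G)⁻¹ * a * (q.1 : G) = b := by
        calc (q.1 : G)⁻¹ * a * (q.1 : G)
            = (q.1 : G)⁻¹ * a * ((q.1 : G)⁻¹)⁻¹ := by rw [inv_inv]
          _ = (τ * (q.1 : G) * τ⁻¹) * (τ * a * τ⁻¹) * (τ * (q.1 : G) * τ⁻¹)⁻¹ := by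
            rw [hτq, fixτ a haC]
          _ = τ * ((q.1 : G) * a * (q.1 : G)⁻¹) * τ⁻¹ := by group
          _ = b := by rw [h2, fixτ b hbC]
      have h4 : ((q * q).1 : G) * a * ((q * q).1 : G)⁻¹ = a := by
        simp only [Subgroup.coe_mul]
        calc _ = (q.1 : G) * ((q.1 : G) * a * (q.1 : G)⁻¹) * (q.1 : G)⁻¹ := by group
          _ = (q.1 : G) * ((q.1 : G)⁻¹ * a * (q.1 : G)) * (q.1 : G)⁻¹ := by rw [h2, h3]
          _ = a := by group
      have h5 : (q * q).1 = 1 := by
        refine hfree ?_ haV (fun e => ha1 (Subtype.ext e)) h4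
        obtain ⟨i, hi⟩ := mem_zpowers_iff.1 (q * q).2
        rw [← hi]
        exact ((Commute.refl x).zpow_left i).eq
      have h6 : q = 1 := by
        have h7 : orderOf q ∣ 2 := orderOf_dvd_of_pow_eq_one (Subtype.ext (by rw [sq]; exact h5))
        have h8 : orderOf q ∣ 89 := hPc ▸ _root_.orderOf_dvd_natCard q
        exact orderOf_eq_one_iff.1 (Nat.dvd_one.1 (by simpa using Nat.dvd_gcd h7 h8))
      have h9 : g' = g := inv_mul_eq_one.1 (hq ▸ h6)
      subst h9
      simp only [mul_left_inj, mul_right_inj] at h1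
      subst h1
      rfl
    have h := Nat.card_le_card_of_injective Φ hΦ
    haveI := Fintype.ofFinite F
    rw [hΩ, Nat.card_prod, hPc, Nat.card_eq_fintype_card, Fintype.card_subtype_compl,
      Fintype.card_subtype_eq, ← Nat.card_eq_fintype_card] at h
    omega
  have h23 : Nat.card M ∣ 89 * 23 := Nat.Coprime.dvd_of_dvd_mul_right
    (Nat.Coprime.pow_right 3 ((Nat.prime_two.coprime_iff_not_dvd.2 hodd).symm)) hd
  obtain ⟨e, he⟩ : 89 ∣ Nat.card M := hPc ▸ card_dvd_of_le (le_normalizer (H := zpowers x))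
  rw [he] at h23 hM
  rcases (Nat.dvd_prime (by norm_num : Nat.Prime 23)).1 ((Nat.mul_dvd_mul_iff_left (by norm_num)).1 h23)
    with rfl | rfl <;> omega

end CfsgLib.J4Eleven
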