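import Cfsg.Agent.J4Local.Eleven.Fixed

/-!
The centraliser of an element of `V` outside the class of `z` normalises `V`.
-/

set_option autoImplicit false
set_option maxRecDepth 100000
set_option linter.style.haveILetI false
set_option linter.unusedSectionVars false

namespace CfsgLib.J4Eleven

open Subgroup Cfsg

attribute [local instance] Classical.propDecidable

variable {G : Type*} [Group G] [Finite G] {z : G} {V : Subgroup G}
  {φ : ↥(normalizer (V : Set G)) →* M24} {d : GolayPt → GolayPt → G}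

/-- The centralisers of `z` and of a second element outside the class normalise `V`. -/
def Local (z : G) (V : Subgroup G) : Prop :=
  ∀ t ∈ nS z V, centralizer ({t} : Set G) ⊓ centralizer ({z} : Set G) ≤ normalizer (V : Set G)

theorem conj_mem_centralizer {g a x : G} (hx : x ∈ centralizer ({a} : Set G)) :
    g * x * g⁻¹ ∈ centralizer ({g * a * g⁻¹} : Set G) :=
  mem_centralizer_singleton_iff.2 (by rw [conj_mul, conj_mul, mem_centralizer_singleton_iff.1 hx])

theorem fix_of_mem_centralizer {a x : G} (hx : x ∈ centralizer ({a} : Set G)) : x * a * x⁻¹ = a :=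
  mul_inv_eq_iff_eq_mul.2 (mem_centralizer_singleton_iff.1 hx)

theorem pair_fix {α : Type*} (σ : Equiv.Perm α) {a b p q : α} (hab : a ≠ b) (hpq : p ≠ q)
    (h1 : (σ a = a ∧ σ b = b) ∨ (σ a = b ∧ σ b = a)) (h2 : (σ p = p ∧ σ q = q) ∨ (σ p = q ∧ σ q = p))
    (hs : p = a ∨ p = b ∨ q = a ∨ q = b) (n1 : ¬ (p = a ∧ q = b)) (n2 : ¬ (p = b ∧ q = a)) :
    σ a = a ∧ σ b = b := by
  grind

variable (C : Conf z V) (hloc : Local z V)

include C hloc

theorem Conf.local_conj {t v : G} (ht : t ∈ nS z V) (hv : v ∈ V) (hz : IsConj z v) :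
    centralizer ({t} : Set G) ⊓ centralizer ({v} : Set G) ≤ normalizer (V : Set G) := by
  obtain ⟨m, hm, rfl⟩ := C.z_move hv hz
  intro x hx
  have e : ∀ y : G, m⁻¹ * y * m = m⁻¹ * y * m⁻¹⁻¹ := fun y => by rw [inv_inv]
  have h1 : m⁻¹ * x * m ∈ normalizer (V : Set G) := by
    refine hloc (m⁻¹ * t * m) ?_ ⟨?_, ?_⟩
    · rw [← C.nS_map hm, show m * (m⁻¹ * t * m) * m⁻¹ = t by group]; exact ht
    · rw [e, e]; exact conj_mem_centralizer hx.1
    · rw [e]
      have h := conj_mem_centralizer (g := m⁻¹) hx.2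
      rwa [show m⁻¹ * (m * z * m⁻¹) * m⁻¹⁻¹ = z by group] at h
  rw [show x = m * (m⁻¹ * x * m) * m⁻¹ by group]
  exact mul_mem (mul_mem hm h1) (inv_mem hm)

variable (L : Labels z V φ d)

include L

/-- An element of `C(t)` carrying a conjugate of `z` in `V` into the normaliser lies there. -/
theorem Labels.closure {t g v : G} (ht : t ∈ nS z V) (hg : g ∈ centralizer ({t} : Set G)) (hv : v ∈ V)
    (hz : IsConj z v) (hu : g * v * g⁻¹ ∈ normalizer (V : Set G)) : g ∈ normalizer (V : Set G) := by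
  have htV := (mem_nS.1 ht).1
  have hgt : g * t * g⁻¹ = t := fix_of_mem_centralizer hg
  have hgit : g⁻¹ ∈ centralizer ({t} : Set G) := inv_mem hg
  set u := g * v * g⁻¹ with hudef
  by_cases huV : u ∈ V
  · obtain ⟨m, hm, hmt, e⟩ := C.fusion_in (K := centralizer ({t} : Set G)) (C.le_centralizer htV) hv hg huV
    have hx : g⁻¹ * m ∈ normalizer (V : Set G) := by
      refine C.local_conj hloc ht hv hz ⟨mul_mem hgit hmt, mem_centralizer_singleton_iff.2 ?_⟩
      rw [← mul_inv_eq_iff_eq_mul]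
      calc g⁻¹ * m * v * (g⁻¹ * m)⁻¹ = g⁻¹ * (m * v * m⁻¹) * g := by group
        _ = v := by rw [e]; group
    rw [show g = m * (g⁻¹ * m)⁻¹ by group]
    exact mul_mem hm (inv_mem hx)
  by_contra hgN
  set W := V.map (MulAut.conj g).toMonoidHom with hWdef
  have hW : ∀ x, x ∈ W ↔ g⁻¹ * x * g ∈ V := fun x => by
    constructor
    · rintro ⟨a, ha, rfl⟩
      simpa [mul_assoc] using ha
    · exact fun h => ⟨_, h, by simp [mul_assoc]⟩
  have hWsq : ∀ x ∈ W, x * x = 1 := by
    rintro _ ⟨a, ha, rfl⟩; rw [← map_mul, C.sq a ha, map_one]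
  have hWc : Nat.card W = 2 ^ 11 := by rw [hWdef, card_map_of_injective (MulEquiv.injective _), C.card]
  have hWt : W ≤ centralizer ({t} : Set G) := by
    rintro _ ⟨a, ha, rfl⟩
    exact mul_mem (mul_mem hg (C.le_centralizer htV ha)) (inv_mem hg)
  have hWcomm : ∀ {x y : G}, x ∈ W → y ∈ W → x * y = y * x := by
    rintro _ _ ⟨a, ha, rfl⟩ ⟨b, hb, rfl⟩
    rw [← map_mul, ← map_mul, C.comm ha hb]
  have hNW : ∀ x, x ∈ normalizer (W : Set G) ↔ g⁻¹ * x * g ∈ normalizer (V : Set G) := fun x => by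
    rw [mem_normalizer_iff, mem_normalizer_iff]
    constructor
    · intro h y
      have := h (g * y * g⁻¹)
      rw [hW, hW] at this
      simpa [mul_assoc] using this
    · intro h y
      rw [hW, hW, h (g⁻¹ * y * g)]
      simp [mul_assoc]
  have hWN : ¬ W ≤ normalizer (V : Set G) := fun h => hgN (map_conj_mem (C.eq_of_le_normalizer h hWsq hWc))
  have huW : u ∈ W := ⟨v, hv, rfl⟩
  have hutu : u * u = 1 := hWsq u huW
  set D : Subgroup G := V ⊓ W
  have hDnS : ∀ x ∈ D, x ≠ 1 → x ∈ nS z V := fun x hx h1 => mem_nS.2 ⟨hx.1, h1, fun hzx => hWN fun w hw =>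
    C.local_conj hloc ht hx.1 hzx ⟨hWt hw, mem_centralizer_singleton_iff.2 (hWcomm hw hx.2)⟩⟩
  have htD : t ∈ D := ⟨htV, (hW t).2 (by rwa [show g⁻¹ * t * g = t from by
    conv_rhs => rw [← fix_of_mem_centralizer hgit, inv_inv]])⟩
  set B : Subgroup G := V ⊓ normalizer (W : Set G)
  set A : Subgroup G := W ⊓ normalizer (V : Set G)
  obtain ⟨a, b, hab, htab⟩ := L.cover t ht
  have hCW : ∀ {y : G}, y ∈ W → IsConj z y →
      centralizer ({t} : Set G) ⊓ centralizer ({y} : Set G) ≤ normalizer (W : Set G) := by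
    intro y hy hzy x hx
    rw [hNW]
    refine C.local_conj hloc ht ((hW y).1 hy) (by
      rw [← conj_z_conj g, show g * (g⁻¹ * y * g) * g⁻¹ = y by group]; exact hzy) ⟨?_, ?_⟩
    · exact mul_mem (mul_mem hgit hx.1) hg
    · rw [show g⁻¹ * x * g = g⁻¹ * x * g⁻¹⁻¹ by rw [inv_inv], show g⁻¹ * y * g = g⁻¹ * y * g⁻¹⁻¹ by rw [inv_inv]]
      exact conj_mem_centralizer hx.2
  have hzu : IsConj z u := (conj_z_conj g v).2 hz
  -- the fixed space of `u`
  set B0 : Subgroup G := V ⊓ centralizer ({u} : Set G)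
  have hB0 : 64 ≤ Nat.card B0 := C.sixtyFour_le hu (by rw [hutu]; exact one_mem _)
  have hB0B : B0 ≤ B := fun x hx => ⟨hx.1, hCW huW hzu ⟨C.le_centralizer htV hx.1, hx.2⟩⟩
  -- the upper bound
  have hB64 : Nat.card B ≤ 64 := by
    let ι : B →* normalizer (V : Set G) :=
      { toFun := fun x => ⟨g⁻¹ * x * g, (hNW x).1 x.2.2⟩
        map_one' := Subtype.ext (by simp)
        map_mul' := fun x y => Subtype.ext (by
          show g⁻¹ * ((x : G) * y) * g = g⁻¹ * x * g * (g⁻¹ * y * g)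
          group) }
    set ψ := φ.comp ι
    have hker : Nat.card ψ.ker = Nat.card D := by
      refine Nat.card_congr ⟨fun x => ⟨x.1.1, x.1.2.1, (hW _).2 ((L.ker _).1 x.2)⟩,
        fun x => ⟨⟨x.1, x.2.1, ?_⟩, ?_⟩, fun _ => rfl, fun _ => rfl⟩
      · exact Subgroup.le_normalizer x.2.2
      · exact (L.ker _).2 ((hW _).1 x.2.2)
    have hsq : ∀ y ∈ ψ.range, y * y = 1 := by
      rintro _ ⟨x, rfl⟩
      rw [← map_mul, show x * x = 1 from Subtype.ext (C.sq _ x.2.1), map_one]
    have hstab : ∀ {w : G}, w ∈ D → ∀ x : B, ((ι x : G)) * (g⁻¹ * w * g) = (g⁻¹ * w * g) * (ι x : G) := by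
      intro w hw x
      show g⁻¹ * x * g * (g⁻¹ * w * g) = g⁻¹ * w * g * (g⁻¹ * x * g)
      rw [show g⁻¹ * (x : G) * g * (g⁻¹ * w * g) = g⁻¹ * (x * w) * g by group, C.comm x.2.1 hw.1]
      group
    have hpair : ∀ x : B, ((ψ x : Equiv.Perm GolayPt) a = a ∧ (ψ x : Equiv.Perm GolayPt) b = b) ∨
        ((ψ x : Equiv.Perm GolayPt) a = b ∧ (ψ x : Equiv.Perm GolayPt) b = a) := fun x =>
      L.stab_pair C hab (by
        have h := hstab htD x
        rwa [show g⁻¹ * t * g = d a b by rw [htab]; conv_rhs => rw [← fix_of_mem_centralizer hgit, inv_inv]] at h)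
    have e := ψ.ker.card_mul_index
    rw [Subgroup.index_ker, hker] at e
    rw [← e]
    by_cases h2 : Nat.card D ≤ 2
    · refine (Nat.mul_le_mul h2 (card_le_thirtyTwo hsq hab ?_)).trans_eq (by norm_num)
      rintro _ ⟨x, rfl⟩; exact hpair x
    have h4 : Nat.card D ≤ 4 := L.card_le_four C hDnS
    refine (Nat.mul_le_mul h4 (card_le_sixteen hsq hab ?_)).trans_eq (by norm_num)
    obtain ⟨w, hw, hw1, hwt⟩ : ∃ w ∈ D, w ≠ 1 ∧ w ≠ t := by
      by_contra hne
      push Not at hne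
      have h := Finset.card_le_card (show elems D ⊆ {1, t} from fun x hx => by
        rw [Finset.mem_insert, Finset.mem_singleton]
        exact or_iff_not_imp_left.2 fun h1 => hne x (mem_elems.1 hx) h1)
      rw [card_elems] at h
      exact h2 (h.trans Finset.card_le_two)
    set w' := g⁻¹ * w * g
    have hw'V : w' ∈ V := (hW w).1 hw.2
    have hnz : ∀ {y : G}, y ∈ D → y ≠ 1 → g⁻¹ * y * g ∈ nS z V := fun {y} hy h1 => by
      refine mem_nS.2 ⟨(hW y).1 hy.2, fun e => h1 ?_, fun h => (mem_nS.1 (hDnS y hy h1)).2.2 ?_⟩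
      · rw [show y = g * (g⁻¹ * y * g) * g⁻¹ by group, e, mul_one, mul_inv_cancel]
      · rw [show y = g * (g⁻¹ * y * g) * g⁻¹ by group, conj_z_conj]; exact h
    obtain ⟨p, q, hpq, hw'd⟩ := L.cover w' (hnz hw hw1)
    have htw : d a b * w' ∈ nS z V := by
      have := hnz (mul_mem htD hw) fun e => hwt (mul_left_cancel ((C.sq t htV).trans e.symm)).symm
      rwa [show g⁻¹ * (t * w) * g = d a b * w' by
        rw [htab, show g⁻¹ * (t * w) * g = g⁻¹ * t * g * (g⁻¹ * w * g) by group,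
          show g⁻¹ * t * g = t by conv_rhs => rw [← fix_of_mem_centralizer hgit, inv_inv]]] at this
    have hne : d a b ≠ w' := fun e => hwt (by
      rw [show w = g * w' * g⁻¹ by simp only [w']; group, ← e, htab, hgt])
    rintro _ ⟨x, rfl⟩
    have hst := hpair x
    have hsw := L.stab_pair C hpq (m := ι x) (by rw [hw'd]; exact hstab hw x)
    rw [← hw'd] at htw hne
    have hshare := L.share C hab hpq (Or.inl htw)
    have n1 : ¬ (p = a ∧ q = b) := fun e => hne (by rw [e.1, e.2])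
    have n2 : ¬ (p = b ∧ q = a) := fun e => hne (by rw [e.1, e.2, L.symm])
    show (ψ x : Equiv.Perm GolayPt) a = a ∧ (ψ x : Equiv.Perm GolayPt) b = b
    change ((φ (ι x) : Equiv.Perm GolayPt) a = a ∧ _) ∨ _ at hst
    change (φ (ι x) : Equiv.Perm GolayPt) a = a ∧ (φ (ι x) : Equiv.Perm GolayPt) b = b
    exact pair_fix _ hab hpq hst hsw hshare n1 n2
  -- a conjugate of `z` in `B`
  obtain ⟨y, hy, hzy⟩ : ∃ y ∈ B0, IsConj z y := by
    by_contra hne
    push Not at hne
    have := L.card_le_four C (D := B0) fun x hx h1 => mem_nS.2 ⟨hx.1, h1, hne x hx⟩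
    omega
  -- the lower bound on `A`
  have hA64 : 64 ≤ Nat.card A := by
    have hyN := (hNW y).1 (hB0B hy).2
    have h := C.sixtyFour_le (m := g⁻¹ * y * g) hyN (by
      rw [show g⁻¹ * y * g * (g⁻¹ * y * g) = g⁻¹ * (y * y) * g by group, C.sq y hy.1]; simp)
    refine h.trans (Nat.card_le_card_of_injective (fun x => ⟨g * x.1 * g⁻¹, ⟨x.1, x.2.1, rfl⟩, ?_⟩) ?_)
    · refine C.local_conj hloc ht hy.1 hzy ⟨hWt ⟨x.1, x.2.1, rfl⟩, ?_⟩
      have := conj_mem_centralizer (g := g) x.2.2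
      rwa [show g * (g⁻¹ * y * g) * g⁻¹ = y by group] at this
    · intro x x' e
      exact Subtype.ext (mul_left_cancel (mul_right_cancel (congrArg Subtype.val e)))
  let ιA : A →* normalizer (V : Set G) := Subgroup.inclusion inf_le_right
  have hApair : ∀ x : A, ((φ (ιA x) : Equiv.Perm GolayPt) a = a ∧ (φ (ιA x) : Equiv.Perm GolayPt) b = b) ∨
      ((φ (ιA x) : Equiv.Perm GolayPt) a = b ∧ (φ (ιA x) : Equiv.Perm GolayPt) b = a) := fun x =>
    L.stab_pair C hab (by rw [htab]; exact mem_centralizer_singleton_iff.1 (hWt x.2.1))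
  let A1 : Subgroup A := (MulAction.stabilizer ↥M24 a).comap (φ.comp ιA)
  have hA1 : ∀ x : A, x ∈ A1 ↔ (φ (ιA x) : Equiv.Perm GolayPt) a = a := fun x => Iff.rfl
  have hA1c : 32 ≤ Nat.card A1 := by
    by_cases hall : ∀ x : A, x ∈ A1
    · rw [show A1 = ⊤ from eq_top_iff.2 fun x _ => hall x, Subgroup.card_top]; omega
    push Not at hall
    obtain ⟨e, he⟩ := hall
    rw [hA1] at he
    have he' := (hApair e).resolve_left fun h => he h.1
    let f : A → A1 ⊕ A1 := fun x =>
      if h : x ∈ A1 then Sum.inl ⟨x, h⟩ else Sum.inr ⟨e * x, (hA1 _).2 (by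
        have hx := (hApair x).resolve_left fun h' => h ((hA1 x).2 h'.1)
        rw [map_mul, map_mul]
        show (φ (ιA e) : Equiv.Perm GolayPt) ((φ (ιA x) : Equiv.Perm GolayPt) a) = a
        rw [hx.1, he'.2])⟩
    have hf : Function.Injective f := fun x x' h => by
      simp only [f] at h
      split_ifs at h with h1 h2 h3
      · simp only [Sum.inl.injEq, Subtype.mk.injEq] at h; exact h
      · simp only [Sum.inr.injEq] at h; exact mul_left_cancel (congrArg Subtype.val h)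
    have := Nat.card_le_card_of_injective f hf
    rw [Nat.card_sum] at this
    omega
  obtain ⟨x, hx, hzx⟩ : ∃ x : A, x ∈ A1 ∧ IsConj z (x : G) := by
    by_contra hne
    push Not at hne
    let E : Subgroup G := ((A1.map A.subtype).map (MulAut.conj g⁻¹).toMonoidHom)
    have hE : Nat.card E = Nat.card A1 := by
      rw [card_map_of_injective (MulEquiv.injective _), card_map_of_injective (Subgroup.subtype_injective _)]
    have := L.card_le_four C (D := E) (by
      rintro _ ⟨_, ⟨x, hx, rfl⟩, rfl⟩ h1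
      show g⁻¹ * (x : G) * g⁻¹⁻¹ ∈ nS z V
      refine mem_nS.2 ⟨?_, h1, ?_⟩
      · rw [inv_inv]; exact (hW _).1 x.2.1
      · rw [conj_z_conj]; exact hne x hx)
    omega
  have hxV : (x : G) ∉ V := fun h => (mem_nS.1 (hDnS _ ⟨h, x.2.1⟩ fun e => C.not_conj_one (e ▸ hzx))).2.2 hzx
  have hxb : (φ (ιA x) : Equiv.Perm GolayPt) b = b := by
    rcases hApair x with h | h
    · exact h.2
    · exact absurd (((hA1 x).1 hx).symm.trans h.1) hab
  have h65 := L.sixtyFour_lt C (m := ιA x) hxV (by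
    show (x : G) * x ∈ V
    rw [hWsq _ x.2.1]; exact one_mem _) hab ((hA1 x).1 hx) hxb
  have := Subgroup.card_le_of_le (show V ⊓ centralizer ({(ιA x : G)} : Set G) ≤ B from fun y hy =>
    ⟨hy.1, hCW x.2.1 hzx ⟨C.le_centralizer htV hy.1, hy.2⟩⟩)
  omega

/-- One step: a subgroup of `C(t)` outside the normaliser yields an element of `V`. -/
theorem Labels.step {t p v : G} {K : Subgroup G} (ht : t ∈ nS z V) (hKt : K ≤ centralizer ({t} : Set G))
    (hVK : V ≤ K) (hK : ¬ K ≤ normalizer (V : Set G)) (hp : p ∈ V) (hzp : IsConj z p)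
    (hpt : ¬ IsConj z (p * t)) (hv : v ∈ V) (hzv : IsConj z v) (hvt : IsConj z (v * t)) :
    ∃ w ∈ V, w ≠ 1 ∧ IsConj z (p * w) ∧ ¬ K ⊓ centralizer ({w} : Set G) ≤ normalizer (V : Set G) := by
  obtain ⟨g, hgK, hgN⟩ := Set.not_subset.1 hK
  set q := g * v * g⁻¹ with hqdef
  have hqK : q ∈ K := mul_mem (mul_mem hgK (hVK hv)) (inv_mem hgK)
  have hpK : p ∈ K := hVK hp
  have hpp : p * p = 1 := C.sq p hp
  have hqq : q * q = 1 := by rw [hqdef, conj_mul, C.sq v hv, mul_one, mul_inv_cancel]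
  have hnot : ∀ k ∈ centralizer ({t} : Set G), k * p * k⁻¹ ≠ q := by
    intro k hk e
    have hr : k⁻¹ * g ∈ centralizer ({t} : Set G) := mul_mem (inv_mem hk) (hKt hgK)
    refine hpt ?_
    have e2 : k⁻¹ * g * v * (k⁻¹ * g)⁻¹ = p := by
      calc k⁻¹ * g * v * (k⁻¹ * g)⁻¹ = k⁻¹ * q * k := by rw [hqdef]; group
        _ = p := by rw [← e]; group
    have e3 := (conj_z_conj (k⁻¹ * g) (v * t)).2 hvt
    rwa [← conj_mul, e2, fix_of_mem_centralizer hr] at e3
  set r := p * q
  have hprp : ∀ n : ℕ, p * r ^ n * p = (r ^ n)⁻¹ := by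
    intro n
    induction n with
    | zero => simp [hpp]
    | succ n ih =>
      rw [pow_succ, show p * (r ^ n * r) * p = p * r ^ n * p * (p * r * p) by
        simp only [mul_assoc]; rw [← mul_assoc p p, hpp, one_mul], ih,
        show p * r * p = r⁻¹ by
          simp only [r]
          rw [← mul_assoc, hpp, one_mul, mul_inv_rev, inv_eq_of_mul_eq_one_right hpp, inv_eq_of_mul_eq_one_right hqq],
        ← mul_inv_rev, ← pow_succ', pow_succ]
  have hconj : ∀ n : ℕ, r ^ n * p * (r ^ n)⁻¹ = r ^ (n + n) * p := by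
    intro n
    rw [← hprp n, pow_add]
    simp only [mul_assoc]
    rw [← mul_assoc p p, hpp, one_mul]
  have hconjq : ∀ n : ℕ, r ^ (n + 1) * q * (r ^ (n + 1))⁻¹ = r ^ (n + n + 1) * p := by
    intro n
    have hq : q = r ^ 0 * p * r := by
      simp only [r, pow_zero, one_mul]; rw [← mul_assoc, hpp, one_mul]
    rw [hq, pow_zero, one_mul, show r ^ (n + 1) * (p * r) * (r ^ (n + 1))⁻¹ = r ^ (n + 1) * p * (r ^ n)⁻¹ by
      rw [pow_succ' r n, mul_inv_rev]; group]
    rw [pow_succ' r n, mul_assoc r, mul_assoc r, hconj, pow_succ' r (n + n), mul_assoc]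
    simp only [r, mul_assoc]
  have hrK : r ∈ K := mul_mem hpK hqK
  rcases Nat.even_or_odd (orderOf r) with ⟨m, hm⟩ | ⟨j, hj⟩
  swap
  · refine absurd ?_ (hnot (r ^ j) (hKt (pow_mem hrK j)))
    rw [hconj, show q = p * r by simp only [r]; rw [← mul_assoc, hpp, one_mul]]
    have h1 : r ^ (j + j) = r⁻¹ := by
      refine eq_inv_of_mul_eq_one_left ?_
      rw [← pow_succ, show j + j + 1 = orderOf r by omega, pow_orderOf_eq_one]
    have h2 := hprp 1
    rw [pow_one] at h2
    rw [h1, ← h2, mul_assoc (p * r), hpp, mul_one]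
  have hpos : 0 < m := by have := orderOf_pos r; omega
  set w := r ^ m
  have hw1 : w ≠ 1 := fun e => by
    have := Nat.le_of_dvd hpos (orderOf_dvd_of_pow_eq_one e); omega
  have hwinv : w⁻¹ = w := by
    refine inv_eq_of_mul_eq_one_right ?_
    rw [← pow_add, ← hm, pow_orderOf_eq_one]
  have hpw : p * w = w * p := by
    have h := hprp m
    rw [hwinv] at h
    calc p * w = p * w * (p * p) := by rw [hpp, mul_one]
      _ = p * w * p * p := by simp only [mul_assoc]
      _ = w * p := by rw [h]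
  have hrw : r * w = w * r := (pow_mul_comm' r m).symm ▸ rfl
  have hqw : q * w = w * q := by
    have hq : q = p * r := by simp only [r]; rw [← mul_assoc, hpp, one_mul]
    calc q * w = p * (r * w) := by rw [hq, mul_assoc]
      _ = p * w * r := by rw [hrw, ← mul_assoc]
      _ = w * q := by rw [hpw, hq, mul_assoc]
  have hwK : w ∈ K := pow_mem hrK m
  have hwN : w ∈ normalizer (V : Set G) :=
    C.local_conj hloc ht hp hzp ⟨hKt hwK, mem_centralizer_singleton_iff.2 hpw.symm⟩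
  obtain ⟨k, hk, x, hx, hzx, hkx⟩ : ∃ k ∈ K, ∃ x ∈ V, IsConj z x ∧ k * x * k⁻¹ = p * w := by
    rcases Nat.even_or_odd m with ⟨i, hi⟩ | ⟨i, hi⟩
    · refine ⟨r ^ i, pow_mem hrK i, p, hp, hzp, ?_⟩
      rw [hconj, hpw, ← hi]
    · refine ⟨r ^ (i + 1) * g, mul_mem (pow_mem hrK _) hgK, v, hv, hzv, ?_⟩
      rw [show r ^ (i + 1) * g * v * (r ^ (i + 1) * g)⁻¹ = r ^ (i + 1) * q * (r ^ (i + 1))⁻¹ by rw [hqdef]; group,
        hconjq, hpw, show i + i + 1 = m by omega]
  have hkN : k ∈ normalizer (V : Set G) := L.closure C hloc ht (hKt hk) hx hzx (by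
    rw [hkx]; exact mul_mem (Subgroup.le_normalizer hp) hwN)
  have hpwV : p * w ∈ V := hkx ▸ (mem_normalizer_iff.1 hkN x).1 hx
  refine ⟨w, (mul_mem_cancel_left hp).1 hpwV, hw1, ?_, fun hle => hgN ?_⟩
  · rw [← hkx]; exact (conj_z_conj k x).2 hzx
  · exact L.closure C hloc ht (hKt hgK) hv hzv (hle ⟨hqK, mem_centralizer_singleton_iff.2 hqw⟩)

/-- `C(t)` normalises `V`. -/
theorem Labels.centralizer_le {t : G} (ht : t ∈ nS z V) : centralizer ({t} : Set G) ≤ normalizer (V : Set G) := by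
  by_contra hC
  have h24 : (Finset.univ : Finset GolayPt).card = 24 := by
    rw [Finset.card_univ, ← Nat.card_eq_fintype_card, Golay.natCard_golayPt]
  have pick : ∀ l : Finset GolayPt, l.card < 24 → ∃ c, c ∉ l := fun l hl => by
    by_contra hne
    push Not at hne
    have := Finset.card_le_card (show (Finset.univ : Finset GolayPt) ⊆ l from fun c _ => hne c)
    omega
  have htV := (mem_nS.1 ht).1
  obtain ⟨a, b, hab, htab⟩ := L.cover t ht
  have two : ∀ c, a ≠ c → b ≠ c → ∃ p v, p ∈ V ∧ IsConj z p ∧ ¬ IsConj z (p * t) ∧ v ∈ V ∧ IsConj z v ∧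
      IsConj z (v * t) ∧ ¬ IsConj z (p * d a c) ∧ ¬ IsConj z (p * (t * d a c)) := by
    intro c hac hbc
    obtain ⟨x, hx⟩ := pick {a, b, c} (Finset.card_le_three.trans_lt (by norm_num))
    obtain ⟨y, hy⟩ := pick {a, b, c, x} (Finset.card_le_four.trans_lt (by norm_num))
    simp only [Finset.mem_insert, Finset.mem_singleton, not_or] at hx hy
    obtain ⟨hxa, hxb, hxc⟩ := hx
    obtain ⟨hya, hyb, hyc, hyx⟩ := hy
    have n : ∀ {r s : GolayPt}, r ≠ s → ¬ IsConj z (d r s) := fun h => (mem_nS.1 (L.mem _ _ h)).2.2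
    have k1 : d a b * d c x * d a b = d c x := by
      rw [C.comm (L.memV C a b) (L.memV C c x), mul_assoc, C.sq _ (L.memV C a b), mul_one]
    have k2 : d a b * d a c = d b c := by rw [L.symm a b, L.tri]
    refine ⟨d a b * d c x, d a c * d x y, mul_mem (L.memV C _ _) (L.memV C _ _),
      L.disj _ _ _ _ hab (Ne.symm hxc) hac (Ne.symm hxa) hbc (Ne.symm hxb), ?_,
      mul_mem (L.memV C _ _) (L.memV C _ _),
      L.disj _ _ _ _ hac (Ne.symm hyx) (Ne.symm hxa) (Ne.symm hya) (Ne.symm hxc) (Ne.symm hyc), ?_, ?_, ?_⟩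
    · rw [← htab, k1]; exact n (Ne.symm hxc)
    · rw [← htab, mul_assoc, C.comm (L.memV C x y) (L.memV C a b), ← mul_assoc,
        C.comm (L.memV C a c) (L.memV C a b), k2]
      exact L.disj _ _ _ _ hbc (Ne.symm hyx) (Ne.symm hxb) (Ne.symm hyb) (Ne.symm hxc) (Ne.symm hyc)
    · rw [mul_assoc, C.comm (L.memV C c x) (L.memV C a c), ← mul_assoc, k2, L.tri]
      exact n (Ne.symm hxb)
    · rw [← htab, ← mul_assoc, k1, C.comm (L.memV C c x) (L.memV C a c), L.tri]
      exact n (Ne.symm hxa)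
  obtain ⟨c, hc⟩ := pick {a, b} (Finset.card_le_two.trans_lt (by norm_num))
  simp only [Finset.mem_insert, Finset.mem_singleton, not_or] at hc
  obtain ⟨p, v, hp, hzp, hpt, hv, hzv, hvt, -, -⟩ := two c (Ne.symm hc.1) (Ne.symm hc.2)
  obtain ⟨w, hwV, hw1, hpw, hK2⟩ := L.step C hloc ht le_rfl (C.le_centralizer htV) hC hp hzp hpt hv hzv hvt
  have hwt : w ≠ t := fun e => hpt (e ▸ hpw)
  have sing : ∀ {K : Subgroup G}, ¬ K ≤ normalizer (V : Set G) → K ≤ centralizer ({t} : Set G) →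
      ∀ e ∈ V, e ≠ 1 → K ≤ centralizer ({e} : Set G) → e ∈ nS z V := fun hK hKt e he h1 hKe =>
    mem_nS.2 ⟨he, h1, fun hz => hK fun k hk => C.local_conj hloc ht he hz ⟨hKt hk, hKe hk⟩⟩
  set K2 := centralizer ({t} : Set G) ⊓ centralizer ({w} : Set G)
  have hwS := sing hK2 inf_le_left w hwV hw1 inf_le_right
  have hK2tw : K2 ≤ centralizer ({t * w} : Set G) := fun k hk => mem_centralizer_singleton_iff.2 (by
    rw [← mul_assoc, mem_centralizer_singleton_iff.1 hk.1, mul_assoc, mem_centralizer_singleton_iff.1 hk.2,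
      mul_assoc])
  have htw1 : t * w ≠ 1 := fun e => hwt (mul_left_cancel ((C.sq t htV).trans e.symm)).symm
  have htwS := sing hK2 inf_le_left (t * w) (mul_mem htV hwV) htw1 hK2tw
  obtain ⟨p', q', hpq', hwd⟩ := L.cover w hwS
  obtain ⟨c', hac', hbc', hw'⟩ : ∃ c', a ≠ c' ∧ b ≠ c' ∧ (w = d a c' ∨ t * w = d a c') := by
    have hshare := L.share C hab hpq' (Or.inl (by rw [htab, hwd]; exact htwS))
    have k : ∀ e, d b e = t * d a e := fun e => by rw [← htab, L.symm a b, L.tri]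
    rcases hshare with rfl | rfl | rfl | rfl
    · exact ⟨q', hpq', fun h => hwt (by rw [← hwd, ← h, htab]), Or.inl hwd.symm⟩
    · refine ⟨q', fun h => hwt (by rw [← hwd, ← h, L.symm, htab]), hpq', Or.inr ?_⟩
      rw [← hwd, k, ← mul_assoc, C.sq t htV, one_mul]
    · exact ⟨p', Ne.symm hpq', fun h => hwt (by rw [← hwd, ← h, L.symm, htab]), Or.inl (hwd.symm.trans (L.symm _ _))⟩
    · refine ⟨p', fun h => hwt (by rw [← hwd, ← h, htab]), Ne.symm hpq', Or.inr ?_⟩
      rw [← hwd, L.symm p', k, ← mul_assoc, C.sq t htV, one_mul]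
  obtain ⟨p, v, hp, hzp, hpt, hv, hzv, hvt, hpw1, hpw2⟩ := two c' hac' hbc'
  have hcomm : ∀ y ∈ V, V ≤ centralizer ({y} : Set G) := fun y hy => C.le_centralizer hy
  obtain ⟨w', hw'V, hw'1, hpw', hK3⟩ :=
    L.step C hloc ht inf_le_left (le_inf (hcomm t htV) (hcomm w hwV)) hK2 hp hzp hpt hv hzv hvt
  set K3 := K2 ⊓ centralizer ({w'} : Set G)
  let E : Subgroup G :=
    { carrier := {x | x ∈ V ∧ K3 ≤ centralizer ({x} : Set G)}
      one_mem' := ⟨one_mem _, fun k _ => mem_centralizer_singleton_iff.2 (by simp)⟩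
      mul_mem' := fun {x y} hx hy => ⟨mul_mem hx.1 hy.1, fun k hk => mem_centralizer_singleton_iff.2 (by
        rw [← mul_assoc, mem_centralizer_singleton_iff.1 (hx.2 hk), mul_assoc,
          mem_centralizer_singleton_iff.1 (hy.2 hk), mul_assoc])⟩
      inv_mem' := fun {x} hx => by rw [Set.mem_ofPred_eq, C.inv_eq hx.1]; exact hx }
  have hE4 : Nat.card E ≤ 4 := L.card_le_four C fun x hx h1 =>
    sing hK3 (inf_le_left.trans inf_le_left) x hx.1 h1 hx.2
  have m1 : t ∈ E := ⟨htV, inf_le_left.trans inf_le_left⟩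
  have m2 : w ∈ E := ⟨hwV, inf_le_left.trans inf_le_right⟩
  have m3 : w' ∈ E := ⟨hw'V, inf_le_right⟩
  have hsub : ({1, t, w, t * w} : Finset G) ⊆ elems E := by
    intro x hx
    simp only [Finset.mem_insert, Finset.mem_singleton] at hx
    rw [mem_elems]
    rcases hx with rfl | rfl | rfl | rfl
    exacts [one_mem _, m1, m2, mul_mem m1 m2]
  have htne : t ≠ 1 := (mem_nS.1 ht).2.1
  have h4 : ({1, t, w, t * w} : Finset G).card = 4 := by
    have n1 : (1 : G) ≠ t := Ne.symm htne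
    have n2 : (1 : G) ≠ w := Ne.symm hw1
    have n3 : (1 : G) ≠ t * w := Ne.symm htw1
    have n4 : t ≠ t * w := fun e => hw1 (mul_eq_left.1 e.symm)
    have n5 : w ≠ t * w := fun e => htne (mul_eq_right.1 e.symm)
    rw [Finset.card_insert_of_notMem (by simp [n1, n2, n3]),
      Finset.card_insert_of_notMem (by simp [Ne.symm hwt, n4]),
      Finset.card_insert_of_notMem (by simp [n5]), Finset.card_singleton]
  have heq := Finset.eq_of_subset_of_card_le hsub (by rw [h4, card_elems]; exact hE4)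
  have hw'mem : w' ∈ ({1, t, w, t * w} : Finset G) := heq ▸ mem_elems.2 m3
  simp only [Finset.mem_insert, Finset.mem_singleton] at hw'mem
  have hmul : ∀ y, t * (t * y) = y := fun y => by rw [← mul_assoc, C.sq t htV, one_mul]
  rcases hw'mem with e | e | e | e <;> rw [e] at hpw'
  · exact hw'1 e
  · exact hpt hpw'
  · rcases hw' with h | h
    · exact hpw1 (h ▸ hpw')
    · exact hpw2 (by rw [← h, hmul]; exact hpw')
  · rcases hw' with h | h
    · exact hpw2 (h ▸ hpw')
    · exact hpw1 (h ▸ hpw')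

end CfsgLib.J4Eleven
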