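import Mathlib

/-!
An elementary abelian subgroup of order `2^11` with a distinguished class of involutions meeting it in
1771 elements: fusion in the normaliser and the configuration of the 276 remaining involutions.
-/

set_option autoImplicit false
set_option maxRecDepth 100000
set_option linter.style.haveILetI false
set_option linter.unusedSectionVars false

namespace CfsgLib.J4Eleven

open Subgroup

attribute [local instance] Classical.propDecidable

variable {G : Type*} [Group G] [Finite G]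

/-- The elements of a subgroup. -/
noncomputable def elems (B : Subgroup G) : Finset G :=
  letI := Fintype.ofFinite G
  Finset.univ.filter fun g => g ∈ B

theorem mem_elems {B : Subgroup G} {g : G} : g ∈ elems B ↔ g ∈ B := by simp [elems]

theorem card_elems (B : Subgroup G) : (elems B).card = Nat.card B :=
  (Nat.subtype_card (elems B) fun _ => mem_elems).symm

/-- The non-identity elements of `V` outside the class of `z`. -/
noncomputable def nS (z : G) (V : Subgroup G) : Finset G :=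
  (elems V).filter fun g => g ≠ 1 ∧ ¬ IsConj z g

theorem mem_nS {z g : G} {V : Subgroup G} : g ∈ nS z V ↔ g ∈ V ∧ g ≠ 1 ∧ ¬ IsConj z g := by
  simp [nS, mem_elems]

/-- The configuration. -/
structure Conf (z : G) (V : Subgroup G) : Prop where
  z_ne : z ≠ 1
  z_mem : z ∈ V
  sq : ∀ a ∈ V, a * a = 1
  cent : centralizer (V : Set G) ≤ V
  card : Nat.card V = 2 ^ 11
  uniq : ∀ S : Subgroup G, IsPGroup 2 S → V ≤ S → ∀ W : Subgroup G, W ≤ S → (∀ w ∈ W, w * w = 1) →
    Nat.card W = 2 ^ 11 → W = V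
  stab : 2 ^ 21 * 135 ∣ Nat.card (normalizer (V : Set G) ⊓ centralizer ({z} : Set G) : Subgroup G)
  count : ((elems V).filter fun g => IsConj z g).card = 1771
  other : ∀ a ∈ nS z V, ∀ b ∈ nS z V, IsConj a b
  pairs36 : ((nS z V).filter fun u => u * z ∈ nS z V).card = 36
  common4 : ∀ u ∈ nS z V, u * z ∈ nS z V →
    ((nS z V).filter fun x => x * u ∈ nS z V ∧ x * (u * z) ∈ nS z V).card = 4 ∧
      ∀ t ∈ nS z V, t * u ∈ nS z V → t * (u * z) ∈ nS z V → t * z ∈ nS z V

theorem comm_of_sq {V : Subgroup G} (hsq : ∀ a ∈ V, a * a = 1) {a b : G} (ha : a ∈ V) (hb : b ∈ V) :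
    a * b = b * a := by
  have i : ∀ u ∈ V, u⁻¹ = u := fun u hu => inv_eq_of_mul_eq_one_right (hsq u hu)
  rw [← i _ (mul_mem ha hb), mul_inv_rev, i a ha, i b hb]

theorem conj_z_conj {z : G} (g a : G) : IsConj z (g * a * g⁻¹) ↔ IsConj z a :=
  ⟨fun h => h.trans (isConj_iff.2 ⟨g, rfl⟩).symm, fun h => h.trans (isConj_iff.2 ⟨g, rfl⟩)⟩

theorem conj_mul (m a b : G) : m * a * m⁻¹ * (m * b * m⁻¹) = m * (a * b) * m⁻¹ := by group

theorem map_conj_mem {g : G} {B : Subgroup G} (h : B.map (MulAut.conj g).toMonoidHom = B) :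
    g ∈ normalizer (B : Set G) := by
  refine mem_normalizer_iff.2 fun a => ⟨fun ha => h ▸ ⟨a, ha, rfl⟩, fun ha => ?_⟩
  obtain ⟨b, hb, e⟩ := mem_map.1 (h.symm ▸ ha : g * a * g⁻¹ ∈ B.map (MulAut.conj g).toMonoidHom)
  rwa [← (mul_left_cancel (mul_right_cancel e) : b = a)]

/-- Inside any overgroup of `V`, the normaliser controls fusion in `V` when `V` is the only elementary
subgroup of its order in every 2-subgroup containing it. -/
theorem fusion_in_of {V : Subgroup G} (hsq : ∀ a ∈ V, a * a = 1) (hcard : Nat.card V = 2 ^ 11)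
    (huniq : ∀ S : Subgroup G, IsPGroup 2 S → V ≤ S → ∀ W : Subgroup G, W ≤ S → (∀ w ∈ W, w * w = 1) →
      Nat.card W = 2 ^ 11 → W = V)
    {K : Subgroup G} (hVK : V ≤ K) {a : G} (ha : a ∈ V) {g : G} (hgK : g ∈ K) (hga : g * a * g⁻¹ ∈ V) :
    ∃ m ∈ normalizer (V : Set G), m ∈ K ∧ m * a * m⁻¹ = g * a * g⁻¹ := by
  haveI : Fact (Nat.Prime 2) := ⟨Nat.prime_two⟩
  set b := g * a * g⁻¹ with hb
  set W := V.map (MulAut.conj g).toMonoidHom
  set L := K ⊓ centralizer ({b} : Set G)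
  have hVL : V ≤ L := le_inf hVK ((fun _ hx => mem_centralizer_singleton_iff.2 (comm_of_sq hsq hx hga)))
  have hWL : W ≤ L := by
    rintro _ ⟨x, hx, rfl⟩
    refine ⟨show g * x * g⁻¹ ∈ K from mul_mem (mul_mem hgK (hVK hx)) (inv_mem hgK), mem_centralizer_singleton_iff.2 ?_⟩
    show g * x * g⁻¹ * (g * a * g⁻¹) = g * a * g⁻¹ * (g * x * g⁻¹)
    rw [conj_mul, conj_mul, comm_of_sq hsq hx ha]
  have pg : ∀ B : Subgroup G, (∀ x ∈ B, x * x = 1) → IsPGroup 2 (B.subgroupOf L) :=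
    fun B hB x => ⟨1, Subtype.ext (Subtype.ext (by
      rw [pow_one, SubgroupClass.coe_pow, SubgroupClass.coe_pow, pow_two]; exact hB _ x.2))⟩
  have hWsq : ∀ x ∈ W, x * x = 1 := by
    rintro _ ⟨x, hx, rfl⟩; rw [← map_mul, hsq x hx, map_one]
  obtain ⟨S1, hS1⟩ := (pg _ hsq).exists_le_sylow
  obtain ⟨S2, hS2⟩ := (pg _ hWsq).exists_le_sylow
  obtain ⟨h, hh⟩ := MulAction.exists_smul_eq L S2 S1
  set S := (S1 : Subgroup L).map L.subtype
  set W' := V.map (MulAut.conj ((h : G) * g)).toMonoidHom with hW'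
  have hVS : V ≤ S := fun x hx => mem_map.2 ⟨⟨x, hVL hx⟩, hS1 hx, rfl⟩
  have hW'S : W' ≤ S := by
    rintro _ ⟨x, hx, rfl⟩
    refine mem_map.2 ⟨h * ⟨g * x * g⁻¹, hWL ⟨x, hx, rfl⟩⟩ * h⁻¹, ?_, ?_⟩
    · rw [← hh]
      exact ⟨_, hS2 (show (⟨g * x * g⁻¹, hWL ⟨x, hx, rfl⟩⟩ : L) ∈ W.subgroupOf L from ⟨x, hx, rfl⟩), rfl⟩
    · show (h : G) * (g * x * g⁻¹) * (h : G)⁻¹ = (h : G) * g * x * ((h : G) * g)⁻¹
      group
  have e : W' = V := huniq S (S1.isPGroup'.map _) hVS W' hW'S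
    (by rintro _ ⟨x, hx, rfl⟩; rw [← map_mul, hsq x hx, map_one])
    (by rw [hW', card_map_of_injective (MulEquiv.injective _), hcard])
  refine ⟨(h : G) * g, map_conj_mem e, mul_mem h.2.1 hgK, ?_⟩
  have hb' : (h : G) * b = b * h := mem_centralizer_singleton_iff.1 h.2.2
  calc (h : G) * g * a * ((h : G) * g)⁻¹ = (h : G) * b * (h : G)⁻¹ := by rw [hb]; group
    _ = b := by rw [hb', mul_inv_cancel_right]

variable {z : G} {V : Subgroup G} (C : Conf z V)

include C

theorem Conf.comm {a b : G} (ha : a ∈ V) (hb : b ∈ V) : a * b = b * a := comm_of_sq C.sq ha hb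

theorem Conf.inv_eq {a : G} (ha : a ∈ V) : a⁻¹ = a := inv_eq_of_mul_eq_one_right (C.sq a ha)

theorem Conf.le_centralizer {a : G} (ha : a ∈ V) : V ≤ centralizer ({a} : Set G) := fun _ hx =>
  mem_centralizer_singleton_iff.2 (C.comm hx ha)

theorem Conf.eq_of_le_normalizer {W : Subgroup G} (hW : W ≤ normalizer (V : Set G))
    (hsq : ∀ w ∈ W, w * w = 1) (hc : Nat.card W = 2 ^ 11) : W = V := by
  haveI : Fact (Nat.Prime 2) := ⟨Nat.prime_two⟩
  have hWp : IsPGroup 2 W := IsPGroup.of_card hc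
  have hVp : IsPGroup 2 V := IsPGroup.of_card C.card
  exact C.uniq (W ⊔ V) (hWp.to_sup_of_normal_right' hVp hW) le_sup_right W le_sup_left hsq hc

/-- Inside any overgroup of `V`, the normaliser controls fusion in `V`. -/
theorem Conf.fusion_in {K : Subgroup G} (hVK : V ≤ K) {a : G} (ha : a ∈ V) {g : G} (hgK : g ∈ K)
    (hga : g * a * g⁻¹ ∈ V) :
    ∃ m ∈ normalizer (V : Set G), m ∈ K ∧ m * a * m⁻¹ = g * a * g⁻¹ :=
  fusion_in_of C.sq C.card C.uniq hVK ha hgK hga

theorem Conf.fusion {a g : G} (ha : a ∈ V) (hga : g * a * g⁻¹ ∈ V) :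
    ∃ m ∈ normalizer (V : Set G), m * a * m⁻¹ = g * a * g⁻¹ := by
  obtain ⟨m, hm, -, e⟩ := C.fusion_in (K := ⊤) le_top ha (mem_top g) hga
  exact ⟨m, hm, e⟩

theorem Conf.not_conj_one : ¬ IsConj z (1 : G) := fun h => C.z_ne (isConj_one_left.1 h)

theorem Conf.nS_move {a b : G} (ha : a ∈ nS z V) (hb : b ∈ nS z V) :
    ∃ m ∈ normalizer (V : Set G), m * a * m⁻¹ = b := by
  obtain ⟨g, hg⟩ := isConj_iff.1 (C.other a ha b hb)
  obtain ⟨m, hm, e⟩ := C.fusion (mem_nS.1 ha).1 (g := g) (hg ▸ (mem_nS.1 hb).1)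
  exact ⟨m, hm, e.trans hg⟩

theorem Conf.z_move {c : G} (hc : c ∈ V) (hz : IsConj z c) :
    ∃ m ∈ normalizer (V : Set G), m * z * m⁻¹ = c := by
  obtain ⟨g, rfl⟩ := isConj_iff.1 hz
  exact C.fusion C.z_mem hc

theorem Conf.nS_map {m g : G} (hm : m ∈ normalizer (V : Set G)) : m * g * m⁻¹ ∈ nS z V ↔ g ∈ nS z V := by
  rw [mem_nS, mem_nS, conj_z_conj]
  refine and_congr (mem_normalizer_iff.1 hm g).symm (and_congr (not_congr ?_) Iff.rfl)
  exact conj_eq_one_iff

theorem Conf.card_nS : (nS z V).card = 276 := by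
  have h : elems V = insert 1 (nS z V ∪ (elems V).filter fun c => IsConj z c) := by
    ext g
    simp only [Finset.mem_insert, Finset.mem_union, Finset.mem_filter, mem_elems, mem_nS]
    constructor
    · intro hg; by_cases h1 : g = 1
      · exact Or.inl h1
      · by_cases h2 : IsConj z g
        exacts [Or.inr (Or.inr ⟨hg, h2⟩), Or.inr (Or.inl ⟨hg, h1, h2⟩)]
    · rintro (rfl | ⟨h, -⟩ | ⟨h, -⟩)
      exacts [one_mem _, h, h]
  have hd : Disjoint (nS z V) ((elems V).filter fun c => IsConj z c) :=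
    Finset.disjoint_left.2 fun g h h' => (mem_nS.1 h).2.2 (Finset.mem_filter.1 h').2
  have := congrArg Finset.card h
  rw [card_elems, C.card, Finset.card_insert_of_notMem, Finset.card_union_of_disjoint hd,
    C.count] at this
  · omega
  · simp only [Finset.mem_union, mem_nS, Finset.mem_filter]
    rintro (⟨-, h, -⟩ | ⟨-, h⟩)
    exacts [h rfl, C.not_conj_one h]

/-- Every conjugate of `z` is the product of 36 pairs. -/
theorem Conf.pairs {c : G} (hc : c ∈ V) (hz : IsConj z c) :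
    ((nS z V).filter fun u => u * c ∈ nS z V).card = 36 := by
  obtain ⟨m, hm, rfl⟩ := C.z_move hc hz
  rw [← C.pairs36]
  refine Finset.card_bij' (fun u _ => m⁻¹ * u * m) (fun u _ => m * u * m⁻¹) ?_ ?_ ?_ ?_
  · intro u hu'
    rw [Finset.mem_filter] at hu' ⊢
    refine ⟨?_, ?_⟩
    · rw [← C.nS_map hm, show m * (m⁻¹ * u * m) * m⁻¹ = u by group]; exact hu'.1
    · rw [← C.nS_map hm, show m * (m⁻¹ * u * m * z) * m⁻¹ = u * (m * z * m⁻¹) by group]; exact hu'.2
  · intro u hu'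
    rw [Finset.mem_filter] at hu' ⊢
    exact ⟨(C.nS_map hm).2 hu'.1, by rw [conj_mul]; exact (C.nS_map hm).2 hu'.2⟩
  · intro u _; group
  · intro u _; group

/-- Common neighbours of two elements with product conjugate to `z`. -/
theorem Conf.common {u w : G} (hu : u ∈ nS z V) (hw : w ∈ nS z V) (hz : IsConj z (u * w)) :
    ((nS z V).filter fun x => x * u ∈ nS z V ∧ x * w ∈ nS z V).card = 4 ∧
      ∀ t ∈ nS z V, t * u ∈ nS z V → t * w ∈ nS z V → t * u * w ∈ nS z V := by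
  have huV := (mem_nS.1 hu).1
  obtain ⟨m, hm, e⟩ := C.z_move (mul_mem huV (mem_nS.1 hw).1) hz
  set u' := m⁻¹ * u * m with hu'
  have eu : m * u' * m⁻¹ = u := by rw [hu']; group
  have ew : m * (u' * z) * m⁻¹ = w := by
    rw [← conj_mul, eu, e, ← mul_assoc, C.sq _ huV, one_mul]
  have h1 : u' ∈ nS z V := by rwa [← C.nS_map hm, eu]
  have h2 : u' * z ∈ nS z V := by rwa [← C.nS_map hm, ew]
  obtain ⟨hc, ht⟩ := C.common4 u' h1 h2
  constructor
  · rw [← hc]
    refine Finset.card_bij' (fun x _ => m⁻¹ * x * m) (fun x _ => m * x * m⁻¹) ?_ ?_ ?_ ?_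
    · intro x hx
      rw [Finset.mem_filter] at hx ⊢
      refine ⟨?_, ?_, ?_⟩ <;> rw [← C.nS_map hm]
      · rw [show m * (m⁻¹ * x * m) * m⁻¹ = x by group]; exact hx.1
      · rw [← conj_mul m, eu, show m * (m⁻¹ * x * m) * m⁻¹ = x by group]; exact hx.2.1
      · rw [← conj_mul m, ew, show m * (m⁻¹ * x * m) * m⁻¹ = x by group]; exact hx.2.2
    · intro x hx
      rw [Finset.mem_filter] at hx ⊢
      refine ⟨(C.nS_map hm).2 hx.1, ?_, ?_⟩
      · rw [← eu, conj_mul]; exact (C.nS_map hm).2 hx.2.1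
      · rw [← ew, conj_mul]; exact (C.nS_map hm).2 hx.2.2
    · intro x _; group
    · intro x _; group
  · intro t t1 t2 t3
    set t' := m⁻¹ * t * m with ht'
    have et : m * t' * m⁻¹ = t := by rw [ht']; group
    have h := ht t' (by rwa [← C.nS_map hm, et]) (by rwa [← C.nS_map hm, ← conj_mul, et, eu])
      (by rwa [← C.nS_map hm, ← conj_mul, et, ew])
    rw [← C.nS_map hm, ← conj_mul, et, e] at h
    rwa [mul_assoc]

theorem Conf.order_dvd : 2 ^ 21 * 135 * 1771 ∣ Nat.card (normalizer (V : Set G)) := by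
  set M := normalizer (V : Set G)
  letI : MulAction M G := MulAction.compHom G ((ConjAct.toConjAct (G := G)).toMonoidHom.comp M.subtype)
  have hsmul : ∀ (m : M) (a : G), m • a = (m : G) * a * (m : G)⁻¹ := fun m a => ConjAct.smul_def _ _
  have h : Nat.card (MulAction.orbit M z) = 1771 := by
    rw [← C.count, ← Nat.card_eq_finsetCard]
    refine Nat.card_congr (Equiv.subtypeEquivRight fun b => ?_)
    rw [MulAction.mem_orbit_iff, Finset.mem_filter, mem_elems]
    constructor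
    · rintro ⟨m, rfl⟩
      rw [hsmul]
      exact ⟨(mem_normalizer_iff.1 m.2 z).1 C.z_mem, isConj_iff.2 ⟨m, rfl⟩⟩
    · rintro ⟨hb, hc⟩
      obtain ⟨m, hm, e⟩ := C.z_move hb hc
      exact ⟨⟨m, hm⟩, by rw [hsmul]; exact e⟩
  have hs : Nat.card (MulAction.stabilizer M z) =
      Nat.card (M ⊓ centralizer ({z} : Set G) : Subgroup G) := by
    refine Nat.card_congr ⟨fun m => ⟨m.1.1, m.1.2, ?_⟩, fun m => ⟨⟨m.1, m.2.1⟩, ?_⟩, fun _ => rfl, fun _ => rfl⟩
    · have e := MulAction.mem_stabilizer_iff.1 m.2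
      rw [hsmul] at e
      exact mem_centralizer_singleton_iff.2 (mul_inv_eq_iff_eq_mul.1 e)
    · rw [MulAction.mem_stabilizer_iff, hsmul]
      exact mul_inv_eq_iff_eq_mul.2 (mem_centralizer_singleton_iff.1 m.2.2)
  have e := Subgroup.card_mul_index (MulAction.stabilizer M z)
  rw [Subgroup.index_eq_card, ← Nat.card_congr (MulAction.orbitEquivQuotientStabilizer M z), h, hs] at e
  exact e ▸ mul_dvd_mul_right C.stab 1771

end CfsgLib.J4Eleven
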