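import Cfsg.Agent.J4Local.Eleven.Count
import Cfsg.Agent.J4Local.CentStruct
import Cfsg.Agent.J4Local.Eleven.Big

/-!
The configuration on the standard elementary subgroup of order `2 ^ 11`.
-/

set_option autoImplicit false
set_option maxRecDepth 100000
set_option linter.style.haveILetI false
set_option linter.unusedSectionVars false

namespace CfsgLib.J4Eleven

open CfsgLib.J4Local CfsgLib.J4Local.M22Elem CfsgLib.J4Local.FixMod

attribute [local instance] Classical.propDecidable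

variable {G : Type*} [Group G] [Finite G] {z : G} {P : Subgroup G}
variable (hJ : Cfsg.IsOfJankoFourTypeWith z P) {A : Subgroup M} {s : M} (hA : Hexad A s)

include hJ hA

/-- The values of the indicator on the classes. -/
structure Values (p : G) (T : Set G) : Prop where
  small : SmallSet hJ A p T
  fT : ∀ x ∈ T, ¬ IsConj z x
  fB : ∀ x ∈ fixA hJ A, x ∉ Subgroup.zpowers z → x ∉ T → IsConj z x
  fL : ∀ a, ∀ ha : a ∈ liftTwo hJ A, a ∉ Subgroup.zpowers z → ∀ x ∈ lSub hJ hA ha,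
    ind z (a * x) + ind z (a * x * z) = 1
  fO : ∀ a, ∀ ha : a ∈ liftTwo hJ A, a ∉ Subgroup.zpowers z → ∀ x ∈ fixA hJ A, x ∉ lSub hJ hA ha →
    IsConj z (a * x)
  count : ((elems (vZero hJ A)).filter fun g => IsConj z g).card = 1771

theorem exists_values (hgoal : ∃ g : G, g * z * g⁻¹ ∈ cC z P ∧ g * z * g⁻¹ ≠ z) :
    ∃ (p : G) (T : Set G), Values hJ hA p T := by
  obtain ⟨p, T, hT⟩ := exists_smallSet hJ hA
  obtain ⟨a0, ha0, haz0, -⟩ := exists_degenerate hJ hA
  obtain ⟨t0, ht0⟩ : ∃ t, t ∈ T := Set.nonempty_of_ncard_ne_zero (by rw [hT.card]; norm_num)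
  obtain ⟨x0, hx0, hx0L⟩ : ∃ x ∈ fixA hJ A, x ∉ lSub hJ hA ha0 :=
    SetLike.exists_of_lt (lt_of_le_of_ne (lSub_le hJ hA ha0) fun e => by
      have := card_lSub_eq hJ hA ha0 haz0
      rw [e, card_fixA hJ hA.first] at this
      omega)
  obtain ⟨b0, hb0, hb0z, hb0T⟩ : ∃ b ∈ fixA hJ A, b ∉ Subgroup.zpowers z ∧ b ∉ T := by
    by_contra hno
    push Not at hno
    have hsub : (fixA hJ A : Set G) ⊆ (Subgroup.zpowers z : Set G) ∪ T := fun x hx =>
      (em (x ∈ Subgroup.zpowers z)).imp id (hno x hx)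
    have h := (Set.ncard_le_ncard hsub (Set.toFinite _)).trans (Set.ncard_union_le _ _)
    rw [hT.card, ← Nat.card_coe_set_eq, ← Nat.card_coe_set_eq, SetLike.coe_sort_coe, SetLike.coe_sort_coe,
      card_fixA hJ hA.first, card_zpowers_z hJ] at h
    omega
  have fT : ∀ x ∈ T, ind z x = ind z t0 := fun x hx =>
    (ind_eq_of_isConj (hT.trans x hx t0 ht0).isConj)
  have fB : ∀ x ∈ fixA hJ A, x ∉ Subgroup.zpowers z → x ∉ T → ind z x = ind z b0 := fun x hx hxz hxT =>
    ind_eq_of_isConj (hT.big x hx b0 hb0 hxz hb0z hxT hb0T).isConj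
  have fL : ∀ a, ∀ ha : a ∈ liftTwo hJ A, a ∉ Subgroup.zpowers z → ∀ x ∈ lSub hJ hA ha,
      ind z (a * x) + ind z (a * x * z) = ind z a0 + ind z (a0 * z) := fun a ha haz x hx =>
    (ind_pair hJ hA ha hx).trans (ind_move hJ hA ha ha0 haz haz0)
  have fO : ∀ a, ∀ ha : a ∈ liftTwo hJ A, a ∉ Subgroup.zpowers z → ∀ x ∈ fixA hJ A, x ∉ lSub hJ hA ha →
      ind z (a * x) = ind z (a0 * x0) := fun a ha haz x hx hxL =>
    ind_move_outside hJ hA ha ha0 haz haz0 hx hxL hx0 hx0L
  have hσ : 1 ≤ ind z a0 + ind z (a0 * z) := by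
    obtain ⟨g, hgC, hgz⟩ := hgoal
    have h2 : orderOf (g * z * g⁻¹) = 2 := by
      rw [← orderOf_z hJ]; exact MulEquiv.orderOf_eq (MulAut.conj g) z
    have ha2 : orderOf a0 = 2 := orderOf_eq_prime (by rw [pow_two]; exact liftTwo_sq hJ hA.first ha0)
      fun e => haz0 (e ▸ one_mem _)
    obtain ⟨c, -, h | h⟩ := isConj_two hJ hgC (liftTwo_le_C hJ A ha0) h2 ha2 hgz
      (fun e => haz0 (e ▸ Subgroup.mem_zpowers z))
    · rw [ind_of ((isConj_iff.2 ⟨g, rfl⟩).trans (isConj_iff.2 ⟨c, h⟩) : IsConj z a0)]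
      omega
    · rw [ind_of ((isConj_iff.2 ⟨g, rfl⟩).trans (isConj_iff.2 ⟨c, h⟩) : IsConj z (a0 * z))]
      omega
  have hc := count_eq hJ hA hT fT fB fL fO
  have hN := card_normalizer_eq hJ hA
  rw [hc] at hN
  have hdvd := dvd_gl_eleven (fun _ h => sq_vZero hJ hA h) (card_vZero hJ hA.first) (centralizer_vZero hJ hA)
  have hne := not_2047 (fun _ h => sq_vZero hJ hA h) (card_vZero hJ hA.first) (centralizer_vZero hJ hA)
  rw [← hN] at hdvd hne
  obtain ⟨e1, e2, e3, e4⟩ := options (ind_le t0) (ind_le b0) (ind_le (a0 * x0)) hσ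
    (by have := ind_le (z := z) a0; have := ind_le (z := z) (a0 * z); omega) hdvd hne
  refine ⟨p, T, hT, fun x hx h => ?_, fun x hx hxz hxT => isConj_of_ind ((fB x hx hxz hxT).trans e2),
    fun a ha haz x hx => (fL a ha haz x hx).trans e3,
    fun a ha haz x hx hxL => isConj_of_ind ((fO a ha haz x hx hxL).trans e4), ?_⟩
  · have := (ind_of h).symm.trans ((fT x hx).trans e1)
    omega
  · rw [hc, e1, e2, e3, e4]

variable {p : G} {T : Set G}

theorem Values.in_fixA (V : Values hJ hA p T) {v : G} (hv : v ∈ fixA hJ A) (h1 : v ≠ 1) (hS : ¬ IsConj z v) :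
    v ∈ T := by
  by_contra hT
  refine hS (V.fB v hv (fun h => ?_) hT)
  rcases (CfsgLib.Extra2.mem_zpowers_iff (z_sq hJ)).1 h with e | e
  · exact h1 e
  · exact hS (e ▸ IsConj.refl z)

theorem Values.coset (V : Values hJ hA p T) {v : G} (hv : v ∈ vZero hJ A) (hX : v ∉ fixA hJ A)
    (hS : ¬ IsConj z v) :
    ∃ a, ∃ ha : a ∈ liftTwo hJ A, a ∉ Subgroup.zpowers z ∧ ∃ x ∈ lSub hJ hA ha, v = a * x ∧
      IsConj z (v * z) := by
  obtain ⟨a, ha, x, hx, rfl⟩ := (mem_vZero hJ hA.first).1 hv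
  have haz : a ∉ Subgroup.zpowers z := fun h =>
    hX (mul_mem (Subgroup.zpowers_le.2 (z_mem_fixA hJ A) h) hx)
  have hxL : x ∈ lSub hJ hA ha := by
    by_contra h
    exact hS (V.fO a ha haz x hx h)
  refine ⟨a, ha, haz, x, hxL, rfl, isConj_of_ind ?_⟩
  have := V.fL a ha haz x hxL
  rw [ind_of_not hS] at this
  omega

theorem Values.outside_conj (V : Values hJ hA p T) {v w : G} (hv : v ∈ vZero hJ A) (hw : w ∈ vZero hJ A)
    (hvX : v ∉ fixA hJ A) (hwX : w ∉ fixA hJ A) (hvS : ¬ IsConj z v) (hwS : ¬ IsConj z w) : IsConj v w := by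
  obtain ⟨a0, ha0, haz0, -⟩ := exists_degenerate hJ hA
  have key : ∀ v, v ∈ vZero hJ A → v ∉ fixA hJ A → ¬ IsConj z v → IsConj v a0 ∨ IsConj v (a0 * z) := by
    intro v hv hX hS
    obtain ⟨a, ha, haz, x, hx, rfl, -⟩ := V.coset hJ hA hv hX hS
    have h1 : IsConj (a * x) a ∨ IsConj (a * x) (a * z) :=
      (pair_conj hJ hA ha hx).imp (fun h => h.1.symm) (fun h => h.2.symm)
    rcases h1 with h | h <;> rcases move_conj hJ hA ha ha0 haz haz0 with ⟨h2, h3⟩ | ⟨h2, h3⟩
    · exact Or.inl (h.trans h2)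
    · exact Or.inr (h.trans h2)
    · exact Or.inr (h.trans h3)
    · exact Or.inl (h.trans h3)
  have hsum := V.fL a0 ha0 haz0 1 (one_mem _)
  rw [mul_one] at hsum
  rcases key v hv hvX hvS with h | h <;> rcases key w hw hwX hwS with h' | h'
  · exact h.trans h'.symm
  · exfalso
    rw [← ind_eq_of_isConj h, ← ind_eq_of_isConj h', ind_of_not hvS, ind_of_not hwS] at hsum
    omega
  · exfalso
    rw [← ind_eq_of_isConj h, ← ind_eq_of_isConj h', ind_of_not hvS, ind_of_not hwS] at hsum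
    omega
  · exact h.trans h'.symm

theorem Values.ne_one (V : Values hJ hA p T) {x : G} (hx : x ∈ T) : x ≠ 1 :=
  fun e => (V.small.sub x hx).2 (e ▸ one_mem _)

theorem Values.mem_nS_T (V : Values hJ hA p T) {x : G} (hx : x ∈ T) : x ∈ nS z (vZero hJ A) :=
  mem_nS.2 ⟨Subgroup.mem_sup_right (V.small.sub x hx).1, V.ne_one hJ hA hx, V.fT x hx⟩

theorem Values.pair_T (V : Values hJ hA p T) {u : G} (hu : u ∈ nS z (vZero hJ A))
    (huz : u * z ∈ nS z (vZero hJ A)) : u ∈ T := by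
  obtain ⟨huV, hu1, huS⟩ := mem_nS.1 hu
  by_cases hX : u ∈ fixA hJ A
  · exact V.in_fixA hJ hA hX hu1 huS
  · obtain ⟨_, _, _, _, _, _, h⟩ := V.coset hJ hA huV hX huS
    exact absurd h (mem_nS.1 huz).2.2

/-- Some element of the small class is conjugate to an element outside the fixed subgroup. -/
theorem Values.exists_link (V : Values hJ hA p T) :
    ∃ t ∈ T, ∃ w ∈ vZero hJ A, w ∉ fixA hJ A ∧ ¬ IsConj z w ∧ IsConj t w := by
  by_contra hno
  push Not at hno
  set N := Subgroup.normalizer (vZero hJ A : Set G)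
  have hstay : ∀ m ∈ N, ∀ t ∈ T, m * t * m⁻¹ ∈ T := by
    intro m hm t ht
    have hV : m * t * m⁻¹ ∈ vZero hJ A :=
      (Subgroup.mem_normalizer_iff.1 hm t).1 (Subgroup.mem_sup_right (V.small.sub t ht).1)
    have hS : ¬ IsConj z (m * t * m⁻¹) := fun h => V.fT t ht ((conj_z_conj m t).1 h)
    by_cases hX : m * t * m⁻¹ ∈ fixA hJ A
    · exact V.in_fixA hJ hA hX (fun e => V.ne_one hJ hA ht (conj_eq_one_iff.1 e)) hS
    · exact absurd (isConj_iff.2 ⟨m, rfl⟩) (hno t ht _ hV hX hS)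
  set D := Subgroup.closure T with hD
  have hDX : D ≤ fixA hJ A := (Subgroup.closure_le _).2 fun x hx => (V.small.sub x hx).1
  obtain ⟨t0, ht0⟩ : ∃ t, t ∈ T := Set.nonempty_of_ncard_ne_zero (by rw [V.small.card]; norm_num)
  have hzD : z ∈ D := by
    have h := mul_mem (inv_mem (Subgroup.subset_closure ht0)) (Subgroup.subset_closure (V.small.z_closed t0 ht0))
    rwa [inv_mul_cancel_left] at h
  have hn : ∀ K : Subgroup G, (∀ m ∈ K, ∀ t ∈ T, m * t * m⁻¹ ∈ T) → K ≤ Subgroup.normalizer (D : Set G) := by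
    intro K hK
    refine le_normalizer_of_conj fun m hm x hx => ?_
    have h : D ≤ D.comap (MulAut.conj m).toMonoidHom :=
      (Subgroup.closure_le _).2 fun t ht => Subgroup.subset_closure (hK m hm t ht)
    exact h hx
  have hXD : D = fixA hJ A := by
    rcases card_of_nine hJ hA.first.nine (hDX.trans (fixA_le hJ A)) hzD (hn _ V.small.stable) with h | h | h
    · exfalso
      have he : Subgroup.zpowers z = D :=
        Subgroup.eq_of_le_of_card_ge (Subgroup.zpowers_le.2 hzD) (by rw [h, card_zpowers_z hJ])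
      exact (V.small.sub t0 ht0).2 (he.ge (Subgroup.subset_closure ht0))
    · exact Subgroup.eq_of_le_of_card_ge hDX (by rw [h, card_fixA hJ hA.first])
    · have := Subgroup.card_le_of_le hDX
      rw [h, card_fixA hJ hA.first] at this
      omega
  obtain ⟨a, ha, haz, -⟩ := exists_degenerate hJ hA
  have hsum := V.fL a ha haz 1 (one_mem _)
  rw [mul_one] at hsum
  obtain ⟨w, hw, hwX, hwS⟩ : ∃ w ∈ vZero hJ A, w ∉ fixA hJ A ∧ IsConj z w := by
    have haX : a ∉ fixA hJ A := fun h => haz (liftTwo_inf_fixA hJ hA.first ▸ ⟨ha, h⟩)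
    by_cases h : IsConj z a
    · exact ⟨a, Subgroup.mem_sup_left ha, haX, h⟩
    · rw [ind_of_not h] at hsum
      exact ⟨a * z, mul_mem (Subgroup.mem_sup_left ha) (z_mem_vZero hJ hA.first),
        fun h' => haX ((Subgroup.mul_mem_cancel_right _ (z_mem_fixA hJ A)).1 h'), isConj_of_ind (by omega)⟩
  obtain ⟨m, hm, rfl⟩ := fusion_vZero hJ hA (z_mem_vZero hJ hA.first) hw hwS
  have hmX := hXD ▸ hn _ hstay hm
  exact hwX ((Subgroup.mem_normalizer_iff.1 hmX z).1 (z_mem_fixA hJ A))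

theorem Values.other (V : Values hJ hA p T) {u v : G} (hu : u ∈ nS z (vZero hJ A))
    (hv : v ∈ nS z (vZero hJ A)) : IsConj u v := by
  obtain ⟨t, ht, w, hw, hwX, hwS, hc⟩ := V.exists_link hJ hA
  have key : ∀ u ∈ nS z (vZero hJ A), IsConj u t := by
    intro u hu
    obtain ⟨huV, hu1, huS⟩ := mem_nS.1 hu
    by_cases hX : u ∈ fixA hJ A
    · exact (V.small.trans u (V.in_fixA hJ hA hX hu1 huS) t ht).isConj
    · exact (V.outside_conj hJ hA huV hw hX hwX huS hwS).trans hc.symm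
  exact (key u hu).trans (key v hv).symm

theorem Values.pairs36 (V : Values hJ hA p T) :
    ((nS z (vZero hJ A)).filter fun u => u * z ∈ nS z (vZero hJ A)).card = 36 := by
  rw [← V.small.card, ← Set.ncard_coe_finset]
  congr 1
  ext u
  simp only [Finset.coe_filter]
  exact ⟨fun h => V.pair_T hJ hA h.1 h.2,
    fun h => ⟨V.mem_nS_T hJ hA h, V.mem_nS_T hJ hA (V.small.z_closed u h)⟩⟩

/-- The orbit sum of `p` on the small class is trivial. -/
theorem Values.orbit_sum (V : Values hJ hA p T) {u : G} (hu : u ∈ T) :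
    u * (p * u * p⁻¹) * (p * (p * u * p⁻¹) * p⁻¹) ∈ Subgroup.zpowers z := by
  have h1 := V.small.p_closed u hu
  have m0 := (V.small.sub u hu).1
  have m1 := (V.small.sub _ h1).1
  have m2 := (V.small.sub _ (V.small.p_closed _ h1)).1
  have hp3 : p * p * p = 1 := by
    have := P_cube hJ V.small.p_mem
    simpa [pow_succ] using this
  refine mem_zpowers_of_P_fixed hJ (fixA_le hJ A (mul_mem (mul_mem m0 m1) m2)) fun q hq => ?_
  have hfix : p * (u * (p * u * p⁻¹) * (p * (p * u * p⁻¹) * p⁻¹)) * p⁻¹ =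
      u * (p * u * p⁻¹) * (p * (p * u * p⁻¹) * p⁻¹) := by
    calc p * (u * (p * u * p⁻¹) * (p * (p * u * p⁻¹) * p⁻¹)) * p⁻¹
        = (p * u * p⁻¹) * (p * (p * u * p⁻¹) * p⁻¹) * ((p * p * p) * u * (p * p * p)⁻¹) := by group
      _ = (p * u * p⁻¹) * (p * (p * u * p⁻¹) * p⁻¹) * u := by rw [hp3, one_mul, inv_one, mul_one]
      _ = _ := by rw [fixA_comm hJ hA.first (mul_mem m1 m2) m0]; simp only [mul_assoc]
  generalize u * (p * u * p⁻¹) * (p * (p * u * p⁻¹) * p⁻¹) = w at hfix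
  rcases eq_one_or_of_card_three (card_P hJ) V.small.p_mem V.small.p_ne hq with e | e | e <;> rw [e]
  · simp
  · rw [hfix, mul_inv_cancel]; exact one_mem _
  · have hw : p⁻¹ * w * p⁻¹⁻¹ = w := by
      calc p⁻¹ * w * p⁻¹⁻¹ = p⁻¹ * (p * w * p⁻¹) * p⁻¹⁻¹ := by rw [hfix]
        _ = w := by group
    rw [hw, mul_inv_cancel]; exact one_mem _

theorem Values.common4 (V : Values hJ hA p T) {u : G} (hu : u ∈ nS z (vZero hJ A))
    (huz : u * z ∈ nS z (vZero hJ A)) :
    ((nS z (vZero hJ A)).filter fun x => x * u ∈ nS z (vZero hJ A) ∧ x * (u * z) ∈ nS z (vZero hJ A)).card = 4 ∧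
      ∀ t ∈ nS z (vZero hJ A), t * u ∈ nS z (vZero hJ A) → t * (u * z) ∈ nS z (vZero hJ A) →
        t * z ∈ nS z (vZero hJ A) := by
  have huT := V.pair_T hJ hA hu huz
  have huX := (V.small.sub u huT).1
  have hmem : ∀ x ∈ nS z (vZero hJ A), x * u ∈ nS z (vZero hJ A) → x * (u * z) ∈ nS z (vZero hJ A) →
      x ∈ T ∧ x * u ∈ T := by
    intro x hx h1 h2
    have hxu := V.pair_T hJ hA h1 (by rwa [mul_assoc])
    refine ⟨V.in_fixA hJ hA ?_ (mem_nS.1 hx).2.1 (mem_nS.1 hx).2.2, hxu⟩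
    exact (Subgroup.mul_mem_cancel_right _ huX).1 (V.small.sub _ hxu).1
  refine ⟨?_, fun t ht h1 h2 => V.mem_nS_T hJ hA (V.small.z_closed t (hmem t ht h1 h2).1)⟩
  set u1 := p * u * p⁻¹ with hu1
  set u2 := p * u1 * p⁻¹ with hu2
  have hT1 : u1 ∈ T := V.small.p_closed u huT
  have hT2 : u2 ∈ T := V.small.p_closed u1 hT1
  have hp3 : p * p * p = 1 := by
    have := P_cube hJ V.small.p_mem
    simpa [pow_succ] using this
  have hz : ∀ {x : G}, x ∈ Subgroup.zpowers z ↔ x = 1 ∨ x = z := CfsgLib.Extra2.mem_zpowers_iff (z_sq hJ)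
  have hne : z ≠ 1 := z_ne_one hJ
  have hsq : ∀ {x}, x ∈ T → x * x = 1 := fun hx => fixA_sq hJ hA.first (V.small.sub _ hx).1
  have hcomm : ∀ {x y}, x ∈ T → y ∈ T → x * y = y * x := fun hx hy =>
    fixA_comm hJ hA.first (V.small.sub _ hx).1 (V.small.sub _ hy).1
  have hzT : ∀ {x}, x ∈ T → x * z = z * x := fun hx =>
    ((gen_E hJ).comm_z _ (fixA_le hJ A (V.small.sub _ hx).1)).eq
  have hd : u2⁻¹ * u1 ∉ Subgroup.zpowers z := V.small.moved u1 hT1
  have hpair : ∀ {x}, x ∈ T → x * u ∈ T → x ∈ nS z (vZero hJ A) ∧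
      (x * u ∈ nS z (vZero hJ A) ∧ x * (u * z) ∈ nS z (vZero hJ A)) := fun hx hxu =>
    ⟨V.mem_nS_T hJ hA hx, V.mem_nS_T hJ hA hxu, by
      rw [← mul_assoc]; exact V.mem_nS_T hJ hA (V.small.z_closed _ hxu)⟩
  have hsum := hz.1 (V.orbit_sum hJ hA huT)
  rw [← hu1, ← hu2] at hsum
  have e1u : u1 * u = u2 ∨ u1 * u = u2 * z := by
    rw [← hcomm huT hT1]
    rcases hsum with h | h
    · exact Or.inl ((eq_inv_of_mul_eq_one_left h).trans (inv_eq_of_mul_eq_one_right (hsq hT2)))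
    · refine Or.inr ?_
      rw [hzT hT2, ← h, mul_assoc (u * u1), hsq hT2, mul_one]
  have h1u : u1 * u ∈ T := by
    rcases e1u with h | h <;> rw [h]
    · exact hT2
    · exact V.small.z_closed _ hT2
  have h2u : u2 * u ∈ T := by
    rcases e1u with h | h
    · rw [← h, mul_assoc, hsq huT, mul_one]; exact hT1
    · have e : u2 = u1 * u * z := by rw [h, mul_assoc, z_sq hJ, mul_one]
      rw [e, mul_assoc, ← hzT huT, ← mul_assoc, mul_assoc u1, hsq huT, mul_one]
      exact V.small.z_closed _ hT1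
  have hS : (nS z (vZero hJ A)).filter (fun x => x * u ∈ nS z (vZero hJ A) ∧ x * (u * z) ∈ nS z (vZero hJ A)) =
      {u1, u1 * z, u2, u2 * z} := by
    ext x
    simp only [Finset.mem_filter, Finset.mem_insert, Finset.mem_singleton]
    constructor
    · rintro ⟨hx, h1, h2⟩
      obtain ⟨hxT, hxuT⟩ := hmem x hx h1 h2
      have back : ∀ w, w = x ∨ w = x * z → x = w ∨ x = w * z := fun w hw => hw.imp Eq.symm fun e => by
        rw [e, mul_assoc, z_sq hJ, mul_one]
      have cube : ∀ y : G, p * (p * (p * y * p⁻¹) * p⁻¹) * p⁻¹ = y := fun y => by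
        calc p * (p * (p * y * p⁻¹) * p⁻¹) * p⁻¹ = (p * p * p) * y * (p * p * p)⁻¹ := by group
          _ = y := by rw [hp3]; group
      have hpz : p * z * p⁻¹ = z := by rw [mem_cH.1 (P_le_H hJ V.small.p_mem), mul_inv_cancel_right]
      rcases V.small.line x hxT u huT hxuT with h | h <;> rcases hz.1 h with e | e
      · rw [inv_mul_eq_one] at e
        exact Or.inr (Or.inr (Or.inl (by rw [hu2, hu1, ← e]; exact (cube x).symm)))
      · refine Or.inr (Or.inr (Or.inr ?_))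
        rw [hu2, hu1, inv_mul_eq_iff_eq_mul.1 e,
          show p * (p * (p * x * p⁻¹ * z) * p⁻¹) * p⁻¹ = p * (p * (p * x * p⁻¹) * p⁻¹) * p⁻¹ *
            (p * (p * z * p⁻¹) * p⁻¹) by group, hpz, hpz, cube, mul_assoc, z_sq hJ, mul_one]
      · rw [inv_mul_eq_one] at e
        exact Or.inl (by rw [hu1, ← e]; exact (cube x).symm)
      · refine Or.inr (Or.inl ?_)
        have e1 : u1 = x * z := by
          rw [hu1, inv_mul_eq_iff_eq_mul.1 e,
            show p * (p * (p * x * p⁻¹) * p⁻¹ * z) * p⁻¹ = p * (p * (p * x * p⁻¹) * p⁻¹) * p⁻¹ * (p * z * p⁻¹)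
              by group, hpz, cube]
        rw [e1, mul_assoc, z_sq hJ, mul_one]
    · rintro (rfl | rfl | rfl | rfl)
      · exact hpair hT1 h1u
      · refine hpair (V.small.z_closed _ hT1) ?_
        rw [mul_assoc, ← hzT huT, ← mul_assoc]; exact V.small.z_closed _ h1u
      · exact hpair hT2 h2u
      · refine hpair (V.small.z_closed _ hT2) ?_
        rw [mul_assoc, ← hzT huT, ← mul_assoc]; exact V.small.z_closed _ h2u
  rw [hS, Finset.card_eq_succ.2 ?_]
  refine ⟨u1, {u1 * z, u2, u2 * z}, ?_, rfl, ?_⟩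
  · simp only [Finset.mem_insert, Finset.mem_singleton, not_or]
    refine ⟨fun e => hne (left_eq_mul.1 e), fun e => hd (by rw [← e, inv_mul_cancel]; exact one_mem _),
      fun e => hd (by rw [e, inv_mul_cancel_left]; exact Subgroup.mem_zpowers z)⟩
  · rw [Finset.card_insert_of_notMem, Finset.card_insert_of_notMem, Finset.card_singleton]
    · simp only [Finset.mem_singleton]
      exact fun e => hne (left_eq_mul.1 e)
    · simp only [Finset.mem_insert, Finset.mem_singleton, not_or]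
      refine ⟨fun e => hd ?_, fun e => hd (by rw [mul_right_cancel e, inv_mul_cancel]; exact one_mem _)⟩
      rw [← e, mul_inv_rev, mul_assoc, inv_mul_cancel, mul_one]
      exact inv_mem (Subgroup.mem_zpowers z)

/-- The configuration of the standard subgroup. -/
theorem exists_conf0 (hgoal : ∃ g : G, g * z * g⁻¹ ∈ cC z P ∧ g * z * g⁻¹ ≠ z) :
    Conf z (vZero hJ A) := by
  obtain ⟨p, T, V⟩ := exists_values hJ hA hgoal
  exact
    { z_ne := z_ne_one hJ
      z_mem := z_mem_vZero hJ hA.first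
      sq := fun _ h => sq_vZero hJ hA h
      cent := centralizer_vZero hJ hA
      card := card_vZero hJ hA.first
      uniq := uniq_vZero hJ hA
      stab := (card_inf_normalizer hJ hA).symm.dvd
      count := V.count
      other := fun _ hu _ hv => V.other hJ hA hu hv
      pairs36 := V.pairs36 hJ hA
      common4 := fun _ hu huz => V.common4 hJ hA hu huz }

end CfsgLib.J4Eleven
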