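import Cfsg.Agent.J4Local.Eleven.Pairing

/-!
The subgroup of order 32 attached to an element of the lift of the first elementary subgroup, and the classes
under the normaliser of the elements of the cosets of the fixed subgroup.
-/

set_option autoImplicit false
set_option maxRecDepth 100000
set_option linter.style.haveILetI false
set_option linter.unusedSectionVars false

namespace CfsgLib.J4Eleven

open CfsgLib.J4Local CfsgLib.J4Local.M22Elem CfsgLib.J4Local.FixMod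

variable {G : Type*} [Group G] [Finite G] {z : G} {P : Subgroup G}

theorem conj_conj' (g a b : G) : g * a * g⁻¹ * (g * b * g⁻¹) = g * (a * b) * g⁻¹ := by group

/-- The elements of the fixed subgroup which are commutators with `a` modulo `z`. -/
noncomputable def lSub (hJ : Cfsg.IsOfJankoFourTypeWith z P) {A : Subgroup M} {s : M} (hA : Hexad A s) {a : G}
    (ha : a ∈ liftTwo hJ A) : Subgroup G :=
  (((bmap hJ hA ha).range.toSubgroup').comap (QuotientGroup.mk' ((sX hJ hA).K.subgroupOf (sX hJ hA).D))).map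
    (sX hJ hA).D.subtype

/-- The elements of `E` whose commutator with `a` is trivial modulo `z`. -/
noncomputable def kSub (hJ : Cfsg.IsOfJankoFourTypeWith z P) {A : Subgroup M} {s : M} (hA : Hexad A s) {a : G}
    (ha : a ∈ liftTwo hJ A) : Subgroup G :=
  (((bmap hJ hA ha).ker.toSubgroup').comap (QuotientGroup.mk' ((sE hJ A).K.subgroupOf (sE hJ A).D))).map
    (sE hJ A).D.subtype

variable (hJ : Cfsg.IsOfJankoFourTypeWith z P) {A : Subgroup M} {s : M} (hA : Hexad A s)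

include hJ hA

theorem mem_lSub {a x : G} {ha : a ∈ liftTwo hJ A} :
    x ∈ lSub hJ hA ha ↔ ∃ h : x ∈ (sX hJ hA).D, (sX hJ hA).cls x h ∈ (bmap hJ hA ha).range := by
  constructor
  · rintro ⟨⟨d, hd⟩, hd', rfl⟩; exact ⟨hd, hd'⟩
  · rintro ⟨h, h'⟩; exact ⟨⟨x, h⟩, h', rfl⟩

theorem mem_kSub {a e : G} {ha : a ∈ liftTwo hJ A} :
    e ∈ kSub hJ hA ha ↔ ∃ h : e ∈ (sE hJ A).D, bmap hJ hA ha ((sE hJ A).cls e h) = 0 := by
  constructor
  · rintro ⟨⟨d, hd⟩, hd', rfl⟩; exact ⟨hd, hd'⟩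
  · rintro ⟨h, h'⟩; exact ⟨⟨e, h⟩, h', rfl⟩

theorem lSub_le {a : G} (ha : a ∈ liftTwo hJ A) : lSub hJ hA ha ≤ fixA hJ A := Subgroup.map_subtype_le _

theorem kSub_le {a : G} (ha : a ∈ liftTwo hJ A) : kSub hJ hA ha ≤ cE z := Subgroup.map_subtype_le _

theorem z_mem_lSub {a : G} (ha : a ∈ liftTwo hJ A) : z ∈ lSub hJ hA ha := by
  have hz : z ∈ (sX hJ hA).D := z_mem_fixA hJ A
  refine (mem_lSub hJ hA).2 ⟨hz, ?_⟩
  rw [((sX hJ hA).mk_eq_zero _).2 (Subgroup.mem_zpowers z)]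
  exact zero_mem _

theorem fixA_le_kSub {a : G} (ha : a ∈ liftTwo hJ A) : fixA hJ A ≤ kSub hJ hA ha := fun e he => by
  have he' : e ∈ (sE hJ A).D := fixA_le hJ A he
  refine (mem_kSub hJ hA).2 ⟨he', ?_⟩
  rw [((sE hJ A).mk_eq_zero _).2 he, map_zero]

theorem card_lSub {a : G} (ha : a ∈ liftTwo hJ A) :
    Nat.card ↥(lSub hJ hA ha) = Nat.card (bmap hJ hA ha).range * 2 := by
  rw [← (sX hJ hA).card_image (lSub_le hJ hA ha) (Subgroup.zpowers_le.2 (z_mem_lSub hJ hA ha)),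
    show Nat.card (sX hJ hA).K = 2 from card_zpowers_z hJ]
  congr 1
  refine Nat.card_congr (Equiv.subtypeEquivRight fun q => ⟨?_, ?_⟩)
  · rintro ⟨w, hw, rfl⟩
    exact ((mem_lSub hJ hA).1 hw).2
  · intro hq
    obtain ⟨d, hd, rfl⟩ := (sX hJ hA).exists_mk q
    exact ⟨d, (mem_lSub hJ hA).2 ⟨hd, hq⟩, rfl⟩

theorem card_range_mul_ker {a : G} (ha : a ∈ liftTwo hJ A) :
    Nat.card (bmap hJ hA ha).range * Nat.card (bmap hJ hA ha).ker = 64 := by
  have h := (sE hJ A).card_Q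
  rw [card_sE hJ hA] at h
  rw [← AddSubgroup.index_ker, mul_comm, AddSubgroup.card_mul_index]
  exact Nat.eq_of_mul_eq_mul_right Nat.card_pos h

theorem card_kSub {a : G} (ha : a ∈ liftTwo hJ A) :
    Nat.card ↥(kSub hJ hA ha) = Nat.card (bmap hJ hA ha).ker * 128 := by
  rw [← (sE hJ A).card_image (kSub_le hJ hA ha) (fixA_le_kSub hJ hA ha),
    show Nat.card (sE hJ A).K = 128 from card_fixA hJ hA.first]
  congr 1
  refine Nat.card_congr (Equiv.subtypeEquivRight fun q => ⟨?_, ?_⟩)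
  · rintro ⟨w, hw, rfl⟩
    exact ((mem_kSub hJ hA).1 hw).2
  · intro hq
    obtain ⟨d, hd, rfl⟩ := (sE hJ A).exists_mk q
    exact ⟨d, (mem_kSub hJ hA).2 ⟨hd, hq⟩, rfl⟩

theorem P_le_normalizer_lSub {a : G} (ha : a ∈ liftTwo hJ A) :
    P ≤ Subgroup.normalizer (lSub hJ hA ha : Set G) :=
  le_normalizer_of_conj fun q hq x hx => by
    obtain ⟨hxD, u, hu⟩ := (mem_lSub hJ hA).1 hx
    have hqA : q ∈ preA hJ A := pre_le_preA hJ A (P_le_pre hJ _ hq)
    obtain ⟨n1, n2, n3, n4⟩ := preA_le_norms hJ hA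
    refine (mem_lSub hJ hA).2 ⟨(Subgroup.mem_normalizer_iff.1 (n1 hqA) x).1 hxD,
      (sE hJ A).act q (n3 hqA) (n4 hqA) u, ?_⟩
    rw [← (sX hJ hA).act_mk (n1 hqA) (n2 hqA) hxD, ← hu, bmap_conj hJ hA hqA ha]
    refine bmap_congr hJ hA ha _ ?_ _
    rw [K_central hJ (P_le_K hJ hq) (liftTwo_le_C hJ A ha), mul_inv_cancel_right, inv_mul_cancel]
    exact one_mem _

theorem exists_move_lift {a b : G} (ha : a ∈ liftTwo hJ A) (hb : b ∈ liftTwo hJ A)
    (haz : a ∉ Subgroup.zpowers z) (hbz : b ∉ Subgroup.zpowers z) :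
    ∃ k ∈ pre hJ (Subgroup.normalizer (A : Set M)), (k * a * k⁻¹)⁻¹ * b ∈ Subgroup.zpowers z := by
  obtain ⟨haC, haA⟩ := quo_liftTwo hJ hA ha
  obtain ⟨hbC, hbA⟩ := quo_liftTwo hJ hA hb
  obtain ⟨n, hn, e⟩ := hA.first.trans _ haA _ hbA (fun h => haz (mem_z_of_quo_one hJ hA ha haC h))
    (fun h => hbz (mem_z_of_quo_one hJ hA hb hbC h))
  obtain ⟨⟨k, hk⟩, rfl⟩ := quo_surjective hJ n
  have hkN : k ∈ pre hJ (Subgroup.normalizer (A : Set M)) := (mem_pre hJ).2 ⟨hk, hn⟩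
  refine ⟨k, hkN, ?_⟩
  have hd : (k * a * k⁻¹)⁻¹ * b ∈ liftTwo hJ A :=
    mul_mem (inv_mem (conj_liftTwo_preA hJ (pre_le_preA hJ A hkN) ha)) hb
  rw [← map_inv, ← map_mul, ← map_mul] at e
  exact mem_zpowers_of_K hJ ((quo_eq_iff hJ).1 e) ((liftTwo_spec hJ hA.first.card hA.first.exp).2 _ hd)

theorem lSub_conj {a b k : G} (ha : a ∈ liftTwo hJ A) (hb : b ∈ liftTwo hJ A) (hk : k ∈ preA hJ A)
    (hab : (k * a * k⁻¹)⁻¹ * b ∈ Subgroup.zpowers z) :
    (lSub hJ hA ha).map (MulAut.conj k).toMonoidHom ≤ lSub hJ hA hb := by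
  rintro _ ⟨x, hx, rfl⟩
  obtain ⟨hxD, u, hu⟩ := (mem_lSub hJ hA).1 hx
  obtain ⟨n1, n2, n3, n4⟩ := preA_le_norms hJ hA
  refine (mem_lSub hJ hA).2 ⟨(Subgroup.mem_normalizer_iff.1 (n1 hk) x).1 hxD,
    (sE hJ A).act k (n3 hk) (n4 hk) u, ?_⟩
  rw [← bmap_congr hJ hA (conj_liftTwo_preA hJ hk ha) hb hab, ← bmap_conj hJ hA hk ha, hu]
  rfl

theorem card_range_le {a b : G} (ha : a ∈ liftTwo hJ A) (hb : b ∈ liftTwo hJ A)
    (haz : a ∉ Subgroup.zpowers z) (hbz : b ∉ Subgroup.zpowers z) :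
    Nat.card (bmap hJ hA ha).range ≤ Nat.card (bmap hJ hA hb).range := by
  obtain ⟨k, hk, hab⟩ := exists_move_lift hJ hA ha hb haz hbz
  have h := Subgroup.card_le_of_le (lSub_conj hJ hA ha hb (pre_le_preA hJ A hk) hab)
  rw [Subgroup.card_map_of_injective (MulAut.conj k).injective, card_lSub, card_lSub] at h
  omega

theorem card_range_sixteen {a : G} (ha : a ∈ liftTwo hJ A) (haz : a ∉ Subgroup.zpowers z) :
    Nat.card (bmap hJ hA ha).range = 16 := by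
  classical
  have hcases : ∀ {b : G} (hb : b ∈ liftTwo hJ A), b ∉ Subgroup.zpowers z →
      Nat.card (bmap hJ hA hb).range = 4 ∨ Nat.card (bmap hJ hA hb).range = 16 := by
    intro b hb hbz
    have h3 := card_mod_three hJ ((lSub_le hJ hA hb).trans (fixA_le hJ A)) (z_mem_lSub hJ hA hb)
      (P_le_normalizer_lSub hJ hA hb)
    rw [card_lSub] at h3
    obtain ⟨a0, ha0, ha0z, q, hq0, hq⟩ := exists_degenerate hJ hA
    have hle : Nat.card (bmap hJ hA hb).range ≤ 32 := by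
      refine (card_range_le hJ hA hb ha0 hbz ha0z).trans ?_
      have h := card_range_mul_ker hJ hA ha0
      haveI : Nontrivial (bmap hJ hA ha0).ker :=
        ⟨⟨⟨q, hq⟩, 0, fun e => hq0 (congrArg Subtype.val e)⟩⟩
      have h2 := Finite.one_lt_card (α := (bmap hJ hA ha0).ker)
      have := Nat.mul_le_mul_left (Nat.card (bmap hJ hA ha0).range) (show 2 ≤ _ from h2)
      omega
    have hne : Nat.card (bmap hJ hA hb).range ≠ 1 := by
      intro h1
      have hbot : (bmap hJ hA hb).range = ⊥ := AddSubgroup.eq_bot_of_card_eq _ h1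
      have hE : b ∈ cE z := by
        refine mem_E_of_trivial hJ (liftTwo_le_H hJ A hb) fun e he => ?_
        have : bmap hJ hA hb ((sE hJ A).cls e he) = 0 := by
          rw [← AddSubgroup.mem_bot, ← hbot]; exact ⟨_, rfl⟩
        have h := ((sX hJ hA).mk_eq_zero _).1 this
        rw [show b * e * b⁻¹ * e⁻¹ = (e * b * e⁻¹ * b⁻¹)⁻¹ by group]
        exact inv_mem h
      exact hbz (E_inf_liftTwo hJ A ▸ ⟨hE, hb⟩)
    have hd : Nat.card (bmap hJ hA hb).range ∣ 2 ^ 6 := Dvd.intro _ (card_range_mul_ker hJ hA hb)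
    obtain ⟨i, hi, e⟩ := (Nat.dvd_prime_pow Nat.prime_two).1 hd
    rw [e] at h3 hle hne ⊢
    exact (by decide : ∀ i < 7, 2 ^ i * 2 % 3 = 2 → 2 ^ i ≤ 32 → 2 ^ i ≠ 1 → 2 ^ i = 4 ∨ 2 ^ i = 16)
      i (by omega) h3 hle hne
  rcases hcases ha haz with h4 | h
  swap
  · exact h
  exfalso
  have hall : ∀ {b : G} (hb : b ∈ liftTwo hJ A), b ∉ Subgroup.zpowers z →
      Nat.card (bmap hJ hA hb).range = 4 := by
    intro b hb hbz
    have h1 := card_range_le hJ hA hb ha hbz haz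
    rcases hcases hb hbz with h | h <;> omega
  let T := {b : G // b ∈ liftTwo hJ A ∧ b ∉ Subgroup.zpowers z}
  have hl8 : ∀ t : T, Nat.card ↥(lSub hJ hA t.2.1) = 8 := fun t => by rw [card_lSub, hall t.2.1 t.2.2]
  have cover : ∀ t u : T, lSub hJ hA t.2.1 = lSub hJ hA u.2.1 ∨
      (bmap hJ hA t.2.1).ker = (bmap hJ hA u.2.1).ker := by
    intro t u
    by_cases htu : t.1⁻¹ * u.1 ∈ Subgroup.zpowers z
    · right
      ext q
      rw [AddMonoidHom.mem_ker, AddMonoidHom.mem_ker, bmap_congr hJ hA t.2.1 u.2.1 htu]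
    by_cases hLeq : lSub hJ hA t.2.1 = lSub hJ hA u.2.1
    · exact Or.inl hLeq
    right
    have hc : t.1 * u.1 ∉ Subgroup.zpowers z := by
      rwa [inv_eq_of_mul_eq_one_right (liftTwo_sq hJ hA.first t.2.1)] at htu
    set W := lSub hJ hA t.2.1 ⊓ lSub hJ hA u.2.1 with hW
    have hzW : z ∈ W := Subgroup.mem_inf.2 ⟨z_mem_lSub hJ hA _, z_mem_lSub hJ hA _⟩
    have hW2 : W = Subgroup.zpowers z := by
      have hd := Subgroup.card_dvd_of_le (inf_le_left : W ≤ lSub hJ hA t.2.1)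
      rw [hl8, show (8 : ℕ) = 2 ^ 3 from rfl] at hd
      obtain ⟨i, hi, e⟩ := (Nat.dvd_prime_pow Nat.prime_two).1 hd
      have h3 := card_mod_three hJ ((inf_le_left : W ≤ lSub hJ hA t.2.1).trans
        ((lSub_le hJ hA _).trans (fixA_le hJ A))) hzW
        (le_normalizer_of_conj fun q hq x hx => Subgroup.mem_inf.2
          ⟨(Subgroup.mem_normalizer_iff.1 (P_le_normalizer_lSub hJ hA _ hq) x).1 (Subgroup.mem_inf.1 hx).1,
            (Subgroup.mem_normalizer_iff.1 (P_le_normalizer_lSub hJ hA _ hq) x).1 (Subgroup.mem_inf.1 hx).2⟩)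
      rw [e] at h3
      have hcase : 2 ^ i = 2 ∨ 2 ^ i = 8 :=
        (by decide : ∀ i < 4, 2 ^ i % 3 = 2 → 2 ^ i = 2 ∨ 2 ^ i = 8) i (by omega) h3
      rcases hcase with e' | e'
      · exact (Subgroup.eq_of_le_of_card_ge (Subgroup.zpowers_le.2 hzW)
          (by rw [e, e', card_zpowers_z hJ])).symm
      · refine absurd ?_ hLeq
        have e1 : W = lSub hJ hA t.2.1 := Subgroup.eq_of_le_of_card_ge inf_le_left (by rw [e, e', hl8])
        exact Subgroup.eq_of_le_of_card_ge (e1 ▸ inf_le_right) (by rw [hl8, hl8])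
    have hker : (bmap hJ hA (mul_mem t.2.1 u.2.1)).ker ≤
        (bmap hJ hA t.2.1).ker ⊓ (bmap hJ hA u.2.1).ker := by
      intro q hq
      rw [AddMonoidHom.mem_ker, bmap_mul hJ hA t.2.1 u.2.1] at hq
      have e : bmap hJ hA t.2.1 q = bmap hJ hA u.2.1 q := by
        rw [eq_neg_of_add_eq_zero_left hq, neg_eq_of_add_eq_zero_right ((sX hJ hA).two _)]
      obtain ⟨d, hd, hd'⟩ := (sX hJ hA).exists_mk (bmap hJ hA t.2.1 q)
      have hdW : d ∈ W := Subgroup.mem_inf.2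
        ⟨(mem_lSub hJ hA).2 ⟨hd, q, hd'.symm⟩, (mem_lSub hJ hA).2 ⟨hd, q, by rw [← e, hd']⟩⟩
      have h0 : bmap hJ hA t.2.1 q = 0 := by
        rw [← hd', Sect.mk_eq_zero]
        exact hW2.le hdW
      exact ⟨h0, e.symm.trans h0⟩
    have hcard : ∀ {b : G} (hb : b ∈ liftTwo hJ A), b ∉ Subgroup.zpowers z →
        Nat.card (bmap hJ hA hb).ker = 16 := fun hb hbz => by
      have := card_range_mul_ker hJ hA hb
      rw [hall hb hbz] at this
      omega
    have e1 := AddSubgroup.eq_of_le_of_card_ge (hker.trans inf_le_left)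
      (by rw [hcard t.2.1 t.2.2, hcard _ hc])
    have e2 := AddSubgroup.eq_of_le_of_card_ge (hker.trans inf_le_right)
      (by rw [hcard u.2.1 u.2.2, hcard _ hc])
    exact e1.symm.trans e2
  rcases two_relations (fun t u : T => lSub hJ hA t.2.1 = lSub hJ hA u.2.1)
    (fun t u : T => (bmap hJ hA t.2.1).ker = (bmap hJ hA u.2.1).ker)
    (fun _ _ h => h.symm) (fun _ _ _ h h' => h.trans h') (fun _ _ h => h.symm) (fun _ _ _ h h' => h.trans h')
    cover with h | h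
  · have hN : pre hJ (Subgroup.normalizer (A : Set M)) ≤ Subgroup.normalizer (lSub hJ hA ha : Set G) :=
      le_normalizer_of_conj fun k hk x hx => by
        have hkA := pre_le_preA hJ A hk
        have hkz : k * a * k⁻¹ ∉ Subgroup.zpowers z := fun hz' => haz (by
          have := (Subgroup.mem_normalizer_iff.1 (H_le_normalizer_z (preA_le_H hJ A hkA)) a).2 hz'
          exact this)
        rw [h ⟨a, ha, haz⟩ ⟨_, conj_liftTwo_preA hJ hkA ha, hkz⟩]
        exact lSub_conj hJ hA ha (conj_liftTwo_preA hJ hkA ha) hkA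
          (by rw [inv_mul_cancel]; exact one_mem _) ⟨x, hx, rfl⟩
    have := hl8 ⟨a, ha, haz⟩
    rcases card_of_nine hJ hA.first.nine ((lSub_le hJ hA ha).trans (fixA_le hJ A)) (z_mem_lSub hJ hA ha) hN
      with e | e | e <;> omega
  · have hk : Nat.card (bmap hJ hA ha).ker = 16 := by
      have := card_range_mul_ker hJ hA ha
      rw [h4] at this
      omega
    haveI : Nontrivial (bmap hJ hA ha).ker := Finite.one_lt_card_iff_nontrivial.1 (by rw [hk]; norm_num)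
    obtain ⟨⟨q, hq⟩, hq0⟩ := exists_ne (0 : (bmap hJ hA ha).ker)
    obtain ⟨e, he, rfl⟩ := (sE hJ A).exists_mk q
    refine hq0 (Subtype.ext (((sE hJ A).mk_eq_zero he).2 ?_))
    refine mem_fixE.2 ⟨he, fun b hb => ?_⟩
    by_cases hbz : b ∈ Subgroup.zpowers z
    · have hbe : b * e = e * b := by
        rcases (CfsgLib.Extra2.mem_zpowers_iff (z_sq hJ)).1 hbz with rfl | rfl
        · simp
        · exact ((gen_E hJ).comm_z e he).eq.symm
      rw [hbe, mul_inv_cancel_right, mul_inv_cancel]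
      exact one_mem _
    · have h1 : bmap hJ hA hb ((sE hJ A).cls e he) = 0 :=
        (h ⟨a, ha, haz⟩ ⟨b, hb, hbz⟩).le hq
      have h2 := ((sX hJ hA).mk_eq_zero _).1 h1
      rw [show b * e * b⁻¹ * e⁻¹ = (e * b * e⁻¹ * b⁻¹)⁻¹ by group]
      exact inv_mem h2

theorem card_lSub_eq {a : G} (ha : a ∈ liftTwo hJ A) (haz : a ∉ Subgroup.zpowers z) :
    Nat.card ↥(lSub hJ hA ha) = 32 := by
  rw [card_lSub, card_range_sixteen hJ hA ha haz]

/-- An element of `E` fixing `a` modulo `z` fixes it. -/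
theorem kSub_commute {a e : G} (ha : a ∈ liftTwo hJ A) (he : e ∈ kSub hJ hA ha) : e * a * e⁻¹ = a := by
  obtain ⟨p, y, r, hpP, hp1, hp3, hy3, hr3, hyN, hrN, hry, -⟩ := exists_frame27 hJ hA
  obtain ⟨n1, n2, n3, n4⟩ := preA_le_norms hJ hA
  have hpA : p ∈ preA hJ A := pre_le_preA hJ A (P_le_pre hJ _ hpP)
  have hyA := pre_le_preA hJ A hyN
  have hrA := pre_le_preA hJ A hrN
  have hpy : p * y = y * p := K_central hJ (P_le_K hJ hpP) (pre_le hJ _ hyN)
  have hpr : p * r = r * p := K_central hJ (P_le_K hJ hpP) (pre_le hJ _ hrN)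
  have F := (sE hJ A).frame hp3 hy3 hr3 hpy hpr hry (n3 hpA) (n4 hpA) (n3 hyA) (n4 hyA) (n3 hrA)
    (n4 hrA) (fix_sE hJ hA hpP hp1) (card_sE hJ hA)
  have hpa : p * a = a * p := K_central hJ (P_le_K hJ hpP) (liftTwo_le_C hJ A ha)
  have hpz : p * z = z * p := mem_cH.1 (P_le_H hJ hpP)
  have key : ∀ e ∈ kSub hJ hA ha, e * a * e⁻¹ * a⁻¹ ∈ Subgroup.zpowers z ∧
      p * e * p⁻¹ ∈ kSub hJ hA ha ∧
      (p * e * p⁻¹) * a * (p * e * p⁻¹)⁻¹ * a⁻¹ = e * a * e⁻¹ * a⁻¹ := by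
    intro e he
    obtain ⟨heD, h⟩ := (mem_kSub hJ hA).1 he
    have h' : e * a * e⁻¹ * a⁻¹ ∈ Subgroup.zpowers z := ((sX hJ hA).mk_eq_zero _).1 h
    have e2 : (p * e * p⁻¹) * a * (p * e * p⁻¹)⁻¹ * a⁻¹ = e * a * e⁻¹ * a⁻¹ := by
      have hp' : p * (e * a * e⁻¹ * a⁻¹) * p⁻¹ = e * a * e⁻¹ * a⁻¹ := by
        rcases (CfsgLib.Extra2.mem_zpowers_iff (z_sq hJ)).1 h' with e' | e' <;> rw [e']
        · group
        · rw [hpz, mul_inv_cancel_right]
      conv_rhs => rw [← hp']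
      have hpa' : p * a * p⁻¹ = a := by rw [hpa, mul_inv_cancel_right]
      conv_lhs => rw [← hpa']
      group
    refine ⟨h', (mem_kSub hJ hA).2 ⟨(Subgroup.mem_normalizer_iff.1 (n3 hpA) e).1 heD, ?_⟩, e2⟩
    refine ((sX hJ hA).mk_eq_zero _).2 ?_
    show (p * e * p⁻¹) * a * (p * e * p⁻¹)⁻¹ * a⁻¹ ∈ Subgroup.zpowers z
    rw [e2]; exact h'
  obtain ⟨hc, hk1, h1⟩ := key e he
  obtain ⟨-, hk2, h2⟩ := key _ hk1
  have hmul : ∀ u ∈ kSub hJ hA ha, ∀ v ∈ kSub hJ hA ha,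
      (u * v) * a * (u * v)⁻¹ * a⁻¹ = (v * a * v⁻¹ * a⁻¹) * (u * a * u⁻¹ * a⁻¹) := by
    intro u hu v hv
    have huv : u * (v * a * v⁻¹ * a⁻¹) = (v * a * v⁻¹ * a⁻¹) * u := by
      rcases (CfsgLib.Extra2.mem_zpowers_iff (z_sq hJ)).1 (key v hv).1 with e' | e' <;> rw [e']
      · simp
      · exact ((gen_E hJ).comm_z u (kSub_le hJ hA ha hu)).eq
    calc (u * v) * a * (u * v)⁻¹ * a⁻¹ = (u * (v * a * v⁻¹ * a⁻¹)) * (a * u⁻¹ * a⁻¹) := by group
      _ = _ := by rw [huv]; group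
  set e' := p * e * p⁻¹ with he'
  set e'' := p * e' * p⁻¹ with he''
  obtain ⟨heD, -⟩ := (mem_kSub hJ hA).1 he
  obtain ⟨he1D, -⟩ := (mem_kSub hJ hA).1 hk1
  obtain ⟨he2D, -⟩ := (mem_kSub hJ hA).1 hk2
  have hw : e * e' * e'' ∈ fixA hJ A := by
    refine ((sE hJ A).mk_eq_zero (mul_mem (mul_mem heD he1D) he2D)).1 ?_
    rw [(sE hJ A).mk_mul (mul_mem heD he1D) he2D, (sE hJ A).mk_mul heD he1D]
    exact F.sum3 ((sE hJ A).cls e heD)
  have h := hmul _ (mul_mem he hk1) _ hk2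
  rw [hmul _ he _ hk1, h2, h1] at h
  have hone : (e * e' * e'') * a * (e * e' * e'')⁻¹ * a⁻¹ = 1 := by
    rw [← fixA_commute_liftTwo hJ hA.first hw ha]; group
  rw [hone] at h
  have hc2 : (e * a * e⁻¹ * a⁻¹) * (e * a * e⁻¹ * a⁻¹) = 1 := by
    rcases (CfsgLib.Extra2.mem_zpowers_iff (z_sq hJ)).1 hc with e' | e' <;> rw [e']
    · exact one_mul 1
    · exact z_sq hJ
  rw [hc2, mul_one] at h
  exact mul_inv_eq_one.1 h.symm

/-- Elements of the fixed subgroup centralising all of `kSub` lie in `lSub`. -/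
theorem mem_lSub_of_centralizes {a x : G} (ha : a ∈ liftTwo hJ A) (haz : a ∉ Subgroup.zpowers z)
    (hx : x ∈ fixA hJ A) (hc : ∀ e ∈ kSub hJ hA ha, e * x = x * e) : x ∈ lSub hJ hA ha := by
  set K := kSub hJ hA ha with hK
  have hKE : K ≤ cE z := kSub_le hJ hA ha
  have h16 := card_range_sixteen hJ hA ha haz
  have h64 := card_range_mul_ker hJ hA ha
  rw [h16] at h64
  have hKc : Nat.card K = 512 := by
    rw [hK, card_kSub]
    have : Nat.card (bmap hJ hA ha).ker = 4 := by omega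
    rw [this]
  have h := CfsgLib.Extra2.card_mul_card_centralizer (gen_E hJ)
    (fixA_le_kSub hJ hA ha (z_mem_fixA hJ A)) hKE
  rw [hKc, card_E hJ] at h
  have hle : lSub hJ hA ha ≤ cE z ⊓ Subgroup.centralizer (K : Set G) := by
    intro y hy
    have hyX := lSub_le hJ hA ha hy
    refine Subgroup.mem_inf.2 ⟨fixA_le hJ A hyX, Subgroup.mem_centralizer_iff.2 fun e he => ?_⟩
    obtain ⟨hyD, u, hu⟩ := (mem_lSub hJ hA).1 hy
    obtain ⟨f, hf, rfl⟩ := (sE hJ A).exists_mk u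
    have hd : (f * a * f⁻¹ * a⁻¹)⁻¹ * y ∈ Subgroup.zpowers z := ((sX hJ hA).mk_eq _ _).1 hu
    have hs := bmap_symm hJ hA ha (hKE he) hf
    have h1 : e * a * e⁻¹ * a⁻¹ = 1 := by rw [kSub_commute hJ hA ha he, mul_inv_cancel]
    rw [h1, one_mul, inv_one, mul_one, mul_inv_cancel] at hs
    set v := f * a * f⁻¹ * a⁻¹ with hv
    have hev : e * v = v * e := mul_inv_eq_iff_eq_mul.1 (mul_inv_eq_one.1 hs.symm)
    have hyv : y = v * (v⁻¹ * y) := by group
    have hz' : e * (v⁻¹ * y) = (v⁻¹ * y) * e := by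
      rcases (CfsgLib.Extra2.mem_zpowers_iff (z_sq hJ)).1 hd with e' | e' <;> rw [e']
      · simp
      · exact ((gen_E hJ).comm_z e (hKE he)).eq
    rw [hyv, ← mul_assoc, hev, mul_assoc, hz', ← mul_assoc]
  have he := Subgroup.eq_of_le_of_card_ge hle (by
    rw [card_lSub_eq hJ hA ha haz]
    exact (Nat.eq_of_mul_eq_mul_left (show 0 < 512 by norm_num)
      (h.trans (show 2 * 2 ^ 13 = 512 * 32 by norm_num))).le)
  exact he.ge (Subgroup.mem_inf.2 ⟨fixA_le hJ A hx, Subgroup.mem_centralizer_iff.2 fun e he => hc e he⟩)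

theorem exists_conj_lSub {a x : G} (ha : a ∈ liftTwo hJ A) (hx : x ∈ lSub hJ hA ha) :
    ∃ e ∈ cE z, e * a * e⁻¹ = a * x ∨ e * a * e⁻¹ = a * x * z := by
  obtain ⟨hxD, u, hu⟩ := (mem_lSub hJ hA).1 hx
  obtain ⟨e, he, rfl⟩ := (sE hJ A).exists_mk u
  refine ⟨e, he, ?_⟩
  have hd : (e * a * e⁻¹ * a⁻¹)⁻¹ * x ∈ Subgroup.zpowers z := ((sX hJ hA).mk_eq _ _).1 hu
  set v := e * a * e⁻¹ * a⁻¹ with hv
  have hva : e * a * e⁻¹ = a * v := by
    rw [fixA_commute_liftTwo hJ hA.first (comm_mem_fixA hJ hA he ha) ha, inv_mul_cancel_right]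
  rw [hva]
  rcases (CfsgLib.Extra2.mem_zpowers_iff (z_sq hJ)).1 hd with h | h
  · exact Or.inl (by rw [inv_mul_eq_one.1 h])
  · right
    rw [inv_mul_eq_iff_eq_mul.1 h, mul_assoc, mul_assoc, z_sq hJ, mul_one]

theorem exists_conj_not_lSub {a x : G} (ha : a ∈ liftTwo hJ A) (haz : a ∉ Subgroup.zpowers z)
    (hx : x ∈ fixA hJ A) (hxL : x ∉ lSub hJ hA ha) : ∃ e ∈ cE z, e * (a * x) * e⁻¹ = a * x * z := by
  by_contra hne
  push Not at hne
  refine hxL (mem_lSub_of_centralizes hJ hA ha haz hx fun e he => ?_)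
  have heE := kSub_le hJ hA ha he
  have hxE := fixA_le hJ A hx
  rcases CfsgLib.Extra2.conj_eq (gen_E hJ) heE hxE with h | h
  · exact mul_inv_eq_iff_eq_mul.1 h
  · refine absurd ?_ (hne e heE)
    rw [show e * (a * x) * e⁻¹ = (e * a * e⁻¹) * (e * x * e⁻¹) by group, kSub_commute hJ hA ha he, h,
      ((gen_E hJ).comm_z x hxE).eq.symm, mul_assoc]

theorem exists_conj_coset {a x y : G} (ha : a ∈ liftTwo hJ A) (haz : a ∉ Subgroup.zpowers z)
    (hx : x ∈ fixA hJ A) (hxL : x ∉ lSub hJ hA ha) (hy : y ∈ fixA hJ A) (hyL : y ∉ lSub hJ hA ha) :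
    ∃ g ∈ Subgroup.normalizer (vZero hJ A : Set G) ⊓ cH z,
      g * (a * x) * g⁻¹ = a * y ∨ g * (a * x) * g⁻¹ = a * y * z := by
  classical
  haveI : Fact (Nat.Prime 3) := ⟨Nat.prime_three⟩
  set L := lSub hJ hA ha with hL
  have hLX : L ≤ fixA hJ A := lSub_le hJ hA ha
  have hXn : fixA hJ A ≤ Subgroup.normalizer (L : Set G) :=
    (fixA_le hJ A).trans (le_normalizer_of_z_mem hJ (hLX.trans (fixA_le hJ A)) (z_mem_lSub hJ hA ha))
  let S : Sect G := ⟨fixA hJ A, L, hLX, hXn, fun d hd => by rw [fixA_sq hJ hA.first hd]; exact one_mem _⟩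
  have hQ : Nat.card S.Q = 4 := by
    have h := S.card_Q
    rw [show Nat.card S.K = 32 from card_lSub_eq hJ hA ha haz,
      show Nat.card S.D = 128 from card_fixA hJ hA.first] at h
    omega
  obtain ⟨p, -, -, hpP, hp1, hp3, -⟩ := exists_frame27 hJ hA
  have hpA : p ∈ preA hJ A := pre_le_preA hJ A (P_le_pre hJ _ hpP)
  have hpX := preA_le_normalizer_fixA hJ A hpA
  have hpL : p ∈ Subgroup.normalizer (L : Set G) := P_le_normalizer_lSub hJ hA ha hpP
  set φ := S.act p hpX hpL with hφ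
  have hfix : ∀ q, φ q = q → q = 0 := by
    intro q hq
    obtain ⟨d, hd, rfl⟩ := S.exists_mk q
    rw [hφ, Sect.act_mk, Sect.mk_eq] at hq
    rw [S.mk_eq_zero]
    have hq2 : p * d * p⁻¹ * d⁻¹ ∈ L := by
      have h3 := (Subgroup.mem_normalizer_iff.1 (hXn hd) _).1 (inv_mem hq)
      rwa [show d * ((p * d * p⁻¹)⁻¹ * d)⁻¹ * d⁻¹ = p * d * p⁻¹ * d⁻¹ by group] at h3
    obtain ⟨k, hk, hc⟩ := exists_fixed_mul (isPGroup_P hJ) (P_le_normalizer_lSub hJ hA ha)
      (by rw [card_lSub_eq hJ hA ha haz]; norm_num) (fixedMod_of_gen hJ hpP hp1 hpL hq2)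
    have hm : k * d ∈ Subgroup.zpowers z :=
      E_inf_centralizer hJ ▸ ⟨mul_mem (fixA_le hJ A (hLX hk)) (fixA_le hJ A hd), hc⟩
    exact (Subgroup.mul_mem_cancel_left _ hk).1 (Subgroup.zpowers_le.2 (z_mem_lSub hJ hA ha) hm)
  set qx := S.cls x hx with hqx
  set qy := S.cls y hy with hqy
  have hx0 : qx ≠ 0 := fun h => hxL ((S.mk_eq_zero hx).1 h)
  have hy0 : qy ≠ 0 := fun h => hyL ((S.mk_eq_zero hy).1 h)
  have hinj : Function.Injective φ := (injective_iff_map_eq_zero φ).2 fun q hq => by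
    obtain ⟨d, hd, rfl⟩ := S.exists_mk q
    rw [hφ, Sect.act_mk, Sect.mk_eq_zero] at hq
    exact (S.mk_eq_zero hd).2 ((Subgroup.mem_normalizer_iff.1 hpL d).2 hq)
  have hlist : qy = qx ∨ qy = φ qx ∨ qy = φ (φ qx) := by
    by_contra hno
    push Not at hno
    have d1 : φ qx ≠ qx := fun h => hx0 (hfix _ h)
    have d2 : φ (φ qx) ≠ φ qx := fun h => d1 (hinj h)
    have d3 : φ (φ qx) ≠ qx := by
      intro h
      have h3 : φ (φ (φ qx)) = qx := by
        simp only [hφ, hqx, Sect.act_mk]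
        exact S.mk_congr _ _ (by
          calc p * (p * (p * x * p⁻¹) * p⁻¹) * p⁻¹ = p ^ 3 * x * (p ^ 3)⁻¹ := by
                simp only [pow_succ, pow_zero, one_mul]; group
            _ = x := by rw [hp3, one_mul, inv_one, mul_one])
      rw [h] at h3
      exact d1 h3
    have e1 : φ qx ≠ 0 := fun h => hx0 (hinj (by rw [h, map_zero]))
    have e2 : φ (φ qx) ≠ 0 := fun h => e1 (hinj (by rw [h, map_zero]))
    letI := Fintype.ofFinite S.Q
    have hc := Finset.card_le_univ ({0, qx, φ qx, φ (φ qx), qy} : Finset S.Q)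
    rw [Finset.card_insert_of_notMem (by simp [hx0.symm, e1.symm, e2.symm, hy0.symm]),
      Finset.card_insert_of_notMem (by simp [d1.symm, d3.symm, hno.1.symm]),
      Finset.card_insert_of_notMem (by simp [d2.symm, hno.2.1.symm]),
      Finset.card_insert_of_notMem (by simp [hno.2.2.symm]), Finset.card_singleton,
      ← Nat.card_eq_fintype_card, hQ] at hc
    omega
  obtain ⟨u, hu, hut, huy⟩ : ∃ u ∈ preA hJ A, u * a * u⁻¹ = a ∧ (u * x * u⁻¹)⁻¹ * y ∈ L := by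
    have hpa : p * a * p⁻¹ = a := by
      rw [K_central hJ (P_le_K hJ hpP) (liftTwo_le_C hJ A ha), mul_inv_cancel_right]
    rcases hlist with h | h | h
    · exact ⟨1, one_mem _, by group, by simpa using (S.mk_eq _ _).1 h.symm⟩
    · exact ⟨p, hpA, hpa, (S.mk_eq _ _).1 h.symm⟩
    · refine ⟨p * p, mul_mem hpA hpA, ?_, ?_⟩
      · rw [show p * p * a * (p * p)⁻¹ = p * (p * a * p⁻¹) * p⁻¹ by group, hpa, hpa]
      · have h' : (p * (p * x * p⁻¹) * p⁻¹)⁻¹ * y ∈ L := (S.mk_eq _ _).1 h.symm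
        rwa [show p * (p * x * p⁻¹) * p⁻¹ = p * p * x * (p * p)⁻¹ by group] at h'
  set x' := u * x * u⁻¹ with hx'
  have hx'X : x' ∈ fixA hJ A := (Subgroup.mem_normalizer_iff.1 (preA_le_normalizer_fixA hJ A hu) x).1 hx
  obtain ⟨e, he, hea⟩ := exists_conj_lSub hJ hA ha huy
  have heN : e ∈ Subgroup.normalizer (vZero hJ A : Set G) ⊓ cH z :=
    ⟨E_le_normalizer_vZero hJ hA he, E_le_H he⟩
  refine ⟨e * u, mul_mem heN ⟨preA_le_normalizer_vZero hJ hA hu, preA_le_H hJ A hu⟩, ?_⟩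
  rw [show e * u * (a * x) * (e * u)⁻¹ = (e * (u * a * u⁻¹) * e⁻¹) * (e * x' * e⁻¹) by rw [hx']; group, hut]
  have hxy : a * (x'⁻¹ * y) * x' = a * y := by
    rw [mul_assoc, fixA_comm hJ hA.first (mul_mem (inv_mem hx'X) hy) hx'X, mul_inv_cancel_left]
  have hzc : ∀ w ∈ fixA hJ A, w * z = z * w := fun w hw => ((gen_E hJ).comm_z w (fixA_le hJ A hw)).eq
  rcases hea with h1 | h1 <;> rcases CfsgLib.Extra2.conj_eq (gen_E hJ) he (fixA_le hJ A hx'X) with h2 | h2 <;>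
    rw [h1, h2]
  · left; exact hxy
  · right; rw [← hzc x' hx'X, ← mul_assoc, hxy]
  · right; rw [mul_assoc (a * _) z x', ← hzc x' hx'X, ← mul_assoc, hxy]
  · left; rw [mul_assoc (a * _) z (z * x'), ← mul_assoc z z, z_sq hJ, one_mul, hxy]

end CfsgLib.J4Eleven
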