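import Cfsg.Agent.J4Local.Eleven.Fusion

/-!
The conjugates of `z` in the standard elementary subgroup of order `2 ^ 11`: they are 1771 in number, and
the configuration of the remaining 276 involutions holds.
-/

set_option autoImplicit false
set_option maxRecDepth 100000
set_option linter.style.haveILetI false
set_option linter.unusedSectionVars false

namespace CfsgLib.J4Eleven

open CfsgLib.J4Local CfsgLib.J4Local.M22Elem CfsgLib.J4Local.FixMod

attribute [local instance] Classical.propDecidable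

variable {G : Type*} [Group G] [Finite G] {z : G} {P : Subgroup G}

/-- The indicator of the class of `z`. -/
noncomputable def ind (z v : G) : ℕ := if IsConj z v then 1 else 0

theorem ind_eq_of_isConj {v w : G} (h : IsConj v w) : ind z v = ind z w :=
  if_congr ⟨fun h' => h'.trans h, fun h' => h'.trans h.symm⟩ rfl rfl

theorem ind_le (v : G) : ind z v ≤ 1 := by rw [ind]; split <;> omega

theorem ind_of {v : G} (h : IsConj z v) : ind z v = 1 := if_pos h

theorem ind_of_not {v : G} (h : ¬ IsConj z v) : ind z v = 0 := if_neg h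

theorem isConj_of_ind {v : G} (h : ind z v = 1) : IsConj z v := by
  by_contra hn
  rw [ind_of_not hn] at h
  omega

variable (hJ : Cfsg.IsOfJankoFourTypeWith z P) {A : Subgroup M} {s : M} (hA : Hexad A s)

include hJ hA

theorem conj_z_of_E {e : G} (he : e ∈ cE z) : e * z * e⁻¹ = z := by
  rw [mem_cH.1 (E_le_H he), mul_inv_cancel_right]

/-- The elements of a coset in the commutator part come in pairs conjugate to `a`, `az`. -/
theorem pair_conj {a x : G} (ha : a ∈ liftTwo hJ A) (hx : x ∈ lSub hJ hA ha) :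
    (IsConj a (a * x) ∧ IsConj (a * z) (a * x * z)) ∨ (IsConj a (a * x * z) ∧ IsConj (a * z) (a * x)) := by
  obtain ⟨e, he, h⟩ := exists_conj_lSub hJ hA ha hx
  have h2 : e * (a * z) * e⁻¹ = e * a * e⁻¹ * z := by
    calc e * (a * z) * e⁻¹ = e * a * e⁻¹ * (e * z * e⁻¹) := by group
      _ = _ := by rw [conj_z_of_E hJ hA he]
  rcases h with h | h
  · exact Or.inl ⟨isConj_iff.2 ⟨e, h⟩, isConj_iff.2 ⟨e, by rw [h2, h]⟩⟩
  · refine Or.inr ⟨isConj_iff.2 ⟨e, h⟩, isConj_iff.2 ⟨e, ?_⟩⟩
    rw [h2, h, mul_assoc (a * x), z_sq hJ, mul_one]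

theorem ind_pair {a x : G} (ha : a ∈ liftTwo hJ A) (hx : x ∈ lSub hJ hA ha) :
    ind z (a * x) + ind z (a * x * z) = ind z a + ind z (a * z) := by
  rcases pair_conj hJ hA ha hx with ⟨h1, h2⟩ | ⟨h1, h2⟩ <;>
    rw [ind_eq_of_isConj h1, ind_eq_of_isConj h2]
  exact add_comm _ _

theorem mem_lSub_mul_z {a x : G} (ha : a ∈ liftTwo hJ A) : x * z ∈ lSub hJ hA ha ↔ x ∈ lSub hJ hA ha :=
  Subgroup.mul_mem_cancel_right _ (z_mem_lSub hJ hA ha)

/-- Outside the commutator part a coset is one class. -/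
theorem ind_outside {a x y : G} (ha : a ∈ liftTwo hJ A) (haz : a ∉ Subgroup.zpowers z)
    (hx : x ∈ fixA hJ A) (hxL : x ∉ lSub hJ hA ha) (hy : y ∈ fixA hJ A) (hyL : y ∉ lSub hJ hA ha) :
    ind z (a * x) = ind z (a * y) := by
  obtain ⟨g, -, h | h⟩ := exists_conj_coset hJ hA ha haz hx hxL hy hyL
  · exact ind_eq_of_isConj (isConj_iff.2 ⟨g, h⟩)
  · obtain ⟨e, -, h'⟩ := exists_conj_not_lSub hJ hA ha haz hy hyL
    exact (ind_eq_of_isConj (isConj_iff.2 ⟨g, h⟩)).trans (ind_eq_of_isConj (isConj_iff.2 ⟨e, h'⟩)).symm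

/-- The conjugation moving one coset to another. -/
theorem move_conj {a b : G} (ha : a ∈ liftTwo hJ A) (hb : b ∈ liftTwo hJ A)
    (haz : a ∉ Subgroup.zpowers z) (hbz : b ∉ Subgroup.zpowers z) :
    (IsConj a b ∧ IsConj (a * z) (b * z)) ∨ (IsConj a (b * z) ∧ IsConj (a * z) b) := by
  obtain ⟨k, hk, hab⟩ := exists_move_lift hJ hA ha hb haz hbz
  have hkz : k * z * k⁻¹ = z := by rw [mem_cH.1 (pre_le_H hJ _ hk), mul_inv_cancel_right]
  have h2 : k * (a * z) * k⁻¹ = k * a * k⁻¹ * z := by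
    calc k * (a * z) * k⁻¹ = k * a * k⁻¹ * (k * z * k⁻¹) := by group
      _ = _ := by rw [hkz]
  rcases (CfsgLib.Extra2.mem_zpowers_iff (z_sq hJ)).1 hab with h | h
  · exact Or.inl ⟨isConj_iff.2 ⟨k, inv_mul_eq_one.1 h⟩, isConj_iff.2 ⟨k, by rw [h2, inv_mul_eq_one.1 h]⟩⟩
  · have e : b = k * a * k⁻¹ * z := inv_mul_eq_iff_eq_mul.1 h
    refine Or.inr ⟨isConj_iff.2 ⟨k, ?_⟩, isConj_iff.2 ⟨k, by rw [h2, e]⟩⟩
    rw [e, mul_assoc (k * a * k⁻¹), z_sq hJ, mul_one]

theorem ind_move {a b : G} (ha : a ∈ liftTwo hJ A) (hb : b ∈ liftTwo hJ A)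
    (haz : a ∉ Subgroup.zpowers z) (hbz : b ∉ Subgroup.zpowers z) :
    ind z a + ind z (a * z) = ind z b + ind z (b * z) := by
  rcases move_conj hJ hA ha hb haz hbz with ⟨h1, h2⟩ | ⟨h1, h2⟩ <;>
    rw [ind_eq_of_isConj h1, ind_eq_of_isConj h2]
  exact add_comm _ _

theorem ind_move_outside {a b x y : G} (ha : a ∈ liftTwo hJ A) (hb : b ∈ liftTwo hJ A)
    (haz : a ∉ Subgroup.zpowers z) (hbz : b ∉ Subgroup.zpowers z)
    (hx : x ∈ fixA hJ A) (hxL : x ∉ lSub hJ hA ha) (hy : y ∈ fixA hJ A) (hyL : y ∉ lSub hJ hA hb) :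
    ind z (a * x) = ind z (b * y) := by
  obtain ⟨k, hk, hab⟩ := exists_move_lift hJ hA ha hb haz hbz
  have hkA : k ∈ preA hJ A := pre_le_preA hJ A hk
  set d := (k * a * k⁻¹)⁻¹ * b with hd
  set y' := d⁻¹ * (k * x * k⁻¹) with hy'
  have hdX : d ∈ fixA hJ A := Subgroup.zpowers_le.2 (z_mem_fixA hJ A) hab
  have hkx : k * x * k⁻¹ ∈ fixA hJ A :=
    (Subgroup.mem_normalizer_iff.1 (preA_le_normalizer_fixA hJ A hkA) x).1 hx
  have hy'X : y' ∈ fixA hJ A := mul_mem (inv_mem hdX) hkx
  have hy'L : y' ∉ lSub hJ hA hb := by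
    intro h
    have hkxL : k * x * k⁻¹ ∈ lSub hJ hA hb :=
      (Subgroup.mul_mem_cancel_left _ (inv_mem (Subgroup.zpowers_le.2 (z_mem_lSub hJ hA hb) hab))).1 h
    have he : (lSub hJ hA ha).map (MulAut.conj k).toMonoidHom = lSub hJ hA hb :=
      Subgroup.eq_of_le_of_card_ge (lSub_conj hJ hA ha hb hkA hab) (by
        rw [Subgroup.card_map_of_injective (MulAut.conj k).injective, card_lSub_eq hJ hA ha haz,
          card_lSub_eq hJ hA hb hbz])
    obtain ⟨w, hw, e⟩ := Subgroup.mem_map.1 (he.ge hkxL)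
    exact hxL ((MulAut.conj k).injective e ▸ hw)
  rw [ind_outside hJ hA hb hbz hy hyL hy'X hy'L]
  refine ind_eq_of_isConj (isConj_iff.2 ⟨k, ?_⟩)
  rw [hy', hd]
  group

omit hJ hA in
theorem sum_two {H : Type*} [Group H] [Finite H] (L : Subgroup H) {c : H} (hc : c ∈ L) (f : H → ℕ) :
    ∑ x ∈ elems L, f (x * c) = ∑ x ∈ elems L, f x := by
  refine Finset.sum_nbij' (fun x => x * c) (fun x => x * c⁻¹) ?_ ?_ ?_ ?_ ?_
  · intro x hx; exact mem_elems.2 (mul_mem (mem_elems.1 hx) hc)
  · intro x hx; exact mem_elems.2 (mul_mem (mem_elems.1 hx) (inv_mem hc))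
  · intro x _; exact mul_inv_cancel_right x c
  · intro x _; exact inv_mul_cancel_right x c
  · intro x _; rfl

/-- The count in terms of the values on the classes under the normaliser in the centraliser of `z`. -/
theorem count_eq {p : G} {T : Set G} (hT : SmallSet hJ A p T) {α β σ ε : ℕ}
    (fT : ∀ x ∈ T, ind z x = α)
    (fB : ∀ x ∈ fixA hJ A, x ∉ Subgroup.zpowers z → x ∉ T → ind z x = β)
    (fL : ∀ a, ∀ ha : a ∈ liftTwo hJ A, a ∉ Subgroup.zpowers z → ∀ x ∈ lSub hJ hA ha,
      ind z (a * x) + ind z (a * x * z) = σ)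
    (fO : ∀ a, ∀ ha : a ∈ liftTwo hJ A, a ∉ Subgroup.zpowers z → ∀ x ∈ fixA hJ A, x ∉ lSub hJ hA ha →
      ind z (a * x) = ε) :
    ((elems (vZero hJ A)).filter fun g => IsConj z g).card = 1 + 36 * α + 90 * β + 15 * (16 * σ + 96 * ε) := by
  set X := fixA hJ A with hX
  set V0 := vZero hJ A with hV
  have hXV : X ≤ V0 := le_sup_right
  have hXc : (elems X).card = 128 := by rw [card_elems, card_fixA hJ hA.first]
  set f : G → G ⧸ X := fun v => QuotientGroup.mk v with hf
  set I := (elems V0).image f with hI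
  have hfib : ∀ v ∈ V0, (elems V0).filter (fun w => f w = f v) = (elems X).image (fun x => v * x) := by
    intro v hv
    ext w
    simp only [Finset.mem_filter, Finset.mem_image, mem_elems, hf, QuotientGroup.eq]
    constructor
    · rintro ⟨-, h⟩
      exact ⟨(w⁻¹ * v)⁻¹, inv_mem h, by group⟩
    · rintro ⟨x, hx, rfl⟩
      exact ⟨mul_mem hv (hXV hx), by simpa [mul_assoc] using inv_mem hx⟩
  have hfc : ∀ v ∈ V0, ((elems V0).filter (fun w => f w = f v)).card = 128 := fun v hv => by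
    rw [hfib v hv, Finset.card_image_of_injective _ (mul_right_injective v), hXc]
  have hI16 : I.card = 16 := by
    have h := Finset.card_eq_sum_card_fiberwise (f := f) (s := elems V0) (t := I)
      (fun v hv => Finset.mem_image_of_mem f hv)
    rw [Finset.sum_congr rfl (g := fun _ => 128) ?_, Finset.sum_const, smul_eq_mul, card_elems,
      card_vZero hJ hA.first] at h
    · omega
    · intro q hq
      obtain ⟨v, hv, rfl⟩ := Finset.mem_image.1 hq
      exact hfc v (mem_elems.1 hv)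
  have h1I : f 1 ∈ I := Finset.mem_image_of_mem f (mem_elems.2 (one_mem _))
  have hcount : ∀ v ∈ V0, (((elems V0).filter fun g => IsConj z g).filter (fun w => f w = f v)).card =
      ∑ x ∈ elems X, ind z (v * x) := by
    intro v hv
    rw [Finset.filter_comm, hfib v hv, Finset.filter_image,
      Finset.card_image_of_injective _ (mul_right_injective v), Finset.card_filter]
    rfl
  have hcoset : ∀ q ∈ I.erase (f 1),
      (((elems V0).filter fun g => IsConj z g).filter (fun w => f w = q)).card = 16 * σ + 96 * ε := by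
    intro q hq
    obtain ⟨hq1, hqI⟩ := Finset.mem_erase.1 hq
    obtain ⟨v, hv, rfl⟩ := Finset.mem_image.1 hqI
    obtain ⟨a, ha, x, hx, rfl⟩ := (mem_vZero hJ hA.first).1 (mem_elems.1 hv)
    have e : f (a * x) = f a := by
      simp only [hf, QuotientGroup.eq]
      simpa [mul_assoc] using hx
    rw [e] at hq1 ⊢
    have haz : a ∉ Subgroup.zpowers z := fun h => hq1 <| by
      simp only [hf, QuotientGroup.eq, mul_one]
      exact inv_mem (Subgroup.zpowers_le.2 (z_mem_fixA hJ A) h)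
    rw [hcount a (Subgroup.mem_sup_left ha)]
    set L := lSub hJ hA ha with hL
    have hLX : elems L ⊆ elems X := fun w hw => mem_elems.2 (lSub_le hJ hA ha (mem_elems.1 hw))
    have hLc : (elems L).card = 32 := by rw [card_elems, card_lSub_eq hJ hA ha haz]
    rw [← Finset.sum_sdiff hLX]
    have h1 : ∑ w ∈ elems X \ elems L, ind z (a * w) = 96 * ε := by
      rw [Finset.sum_congr rfl (g := fun _ => ε) fun w hw => ?_, Finset.sum_const, smul_eq_mul,
        Finset.card_sdiff_of_subset hLX, hXc, hLc]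
      obtain ⟨hwX, hwL⟩ := Finset.mem_sdiff.1 hw
      exact fO a ha haz w (mem_elems.1 hwX) fun h => hwL (mem_elems.2 h)
    have h2 : ∑ w ∈ elems L, ind z (a * w) + ∑ w ∈ elems L, ind z (a * w) = 32 * σ := by
      conv_lhs => arg 2; rw [← sum_two L (z_mem_lSub hJ hA ha) (fun w => ind z (a * w))]
      rw [← Finset.sum_add_distrib, Finset.sum_congr rfl (g := fun _ => σ) fun w hw => ?_, Finset.sum_const,
        smul_eq_mul, hLc]
      rw [← mul_assoc a w z]
      exact fL a ha haz w (mem_elems.1 hw)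
    omega
  have hfirst : (((elems V0).filter fun g => IsConj z g).filter (fun w => f w = f 1)).card =
      1 + 36 * α + 90 * β := by
    rw [hcount 1 (one_mem _)]
    simp only [one_mul]
    have hZX : elems (Subgroup.zpowers z) ⊆ elems X := fun w hw =>
      mem_elems.2 (Subgroup.zpowers_le.2 (z_mem_fixA hJ A) (mem_elems.1 hw))
    rw [← Finset.sum_sdiff hZX]
    have hz2 : elems (Subgroup.zpowers z) = {1, z} := by
      ext w
      rw [mem_elems, Finset.mem_insert, Finset.mem_singleton, CfsgLib.Extra2.mem_zpowers_iff (z_sq hJ)]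
    have h1 : ∑ w ∈ elems (Subgroup.zpowers z), ind z w = 1 := by
      rw [hz2, Finset.sum_pair (z_ne_one hJ).symm, ind_of (IsConj.refl z), ind_of_not]
      exact fun h => z_ne_one hJ (isConj_one_left.1 h)
    set R := elems X \ elems (Subgroup.zpowers z) with hR
    have hRc : R.card = 126 := by
      rw [hR, Finset.card_sdiff_of_subset hZX, hXc, card_elems, card_zpowers_z hJ]
    have hTc : (R.filter (· ∈ T)).card = 36 := by
      rw [← hT.card, ← Set.ncard_coe_finset]
      congr 1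
      ext w
      simp only [hR, Finset.coe_filter, Finset.mem_sdiff, mem_elems]
      exact ⟨fun h => h.2, fun h => ⟨hT.sub w h, h⟩⟩
    have h2 : ∑ w ∈ R, ind z w = 36 * α + 90 * β := by
      rw [← Finset.sum_filter_add_sum_filter_not R (· ∈ T),
        Finset.sum_congr rfl (g := fun _ => α) fun w hw => fT w (Finset.mem_filter.1 hw).2,
        Finset.sum_congr (rfl : R.filter (fun w => ¬ w ∈ T) = _) (g := fun _ => β) fun w hw => ?_,
        Finset.sum_const, Finset.sum_const, smul_eq_mul, smul_eq_mul]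
      · have := Finset.card_filter_add_card_filter_not (s := R) (p := (· ∈ T))
        rw [hTc, hRc] at this
        rw [hTc, show (R.filter fun w => ¬ w ∈ T).card = 90 by omega]
      · obtain ⟨hwR, hwT⟩ := Finset.mem_filter.1 hw
        obtain ⟨hwX, hwZ⟩ := Finset.mem_sdiff.1 hwR
        exact fB w (mem_elems.1 hwX) (fun h => hwZ (mem_elems.2 h)) hwT
    omega
  rw [Finset.card_eq_sum_card_fiberwise (f := f) (t := I)
      (fun v hv => Finset.mem_image_of_mem f (Finset.mem_filter.1 hv).1),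
    ← Finset.add_sum_erase I _ h1I, Finset.sum_congr rfl hcoset, Finset.sum_const, smul_eq_mul,
    Finset.card_erase_of_mem h1I, hI16, hfirst]

omit hJ hA in
/-- The values compatible with the order of the general linear group. -/
theorem options {α β σ ε : ℕ} (hα : α ≤ 1) (hβ : β ≤ 1) (hε : ε ≤ 1) (h1 : 1 ≤ σ) (h2 : σ ≤ 2)
    (hdvd : (1 + 36 * α + 90 * β + 15 * (16 * σ + 96 * ε)) * (2 ^ 21 * 135) ∣
      2 ^ 11 * ∏ i ∈ Finset.range 11, (2 ^ 11 - 2 ^ i))
    (hne : (1 + 36 * α + 90 * β + 15 * (16 * σ + 96 * ε)) * (2 ^ 21 * 135) ≠ 2 ^ 21 * 135 * 2047) :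
    α = 0 ∧ β = 1 ∧ σ = 1 ∧ ε = 1 := by
  simp only [Finset.prod_range_succ, Finset.prod_range_zero] at hdvd
  interval_cases α <;> interval_cases β <;> interval_cases ε <;> interval_cases σ <;>
    first | omega | norm_num at hdvd | norm_num at hne

end CfsgLib.J4Eleven
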