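/-!
Position lists for the normaliser of the elementary subgroup of order `2 ^ 11` in a group of
Janko-four type.
-/

set_option autoImplicit false

namespace CfsgLib.J4Eleven.Data

/-- An outer element normalising both hexad subgroups. -/
def outA : List Nat :=
  [23, 1, 2, 5, 12, 3, 6, 21, 22, 9, 20, 16, 4, 18, 14, 15, 11, 17, 13, 19, 10, 7, 8, 0]

/-- An involution normalising both hexad subgroups. -/
def innI : List Nat :=
  [0, 1, 2, 3, 18, 5, 15, 20, 22, 19, 21, 16, 13, 12, 14, 6, 11, 17, 4, 9, 7, 10, 8, 23]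

/-- A second one. -/
def innJ : List Nat :=
  [0, 6, 19, 5, 4, 3, 1, 7, 22, 17, 20, 11, 12, 18, 15, 14, 16, 9, 13, 2, 10, 21, 8, 23]

/-- An element of order three commuting with the outer element. -/
def threeC : List Nat :=
  [0, 1, 2, 10, 22, 20, 14, 5, 18, 19, 21, 11, 8, 4, 15, 6, 16, 9, 12, 17, 7, 3, 13, 23]

/-- An element of order three commuting with the product of the outer element and the first involution. -/
def threeI : List Nat :=
  [0, 1, 2, 4, 18, 13, 6, 19, 17, 20, 9, 14, 5, 12, 16, 15, 11, 22, 3, 21, 10, 7, 8, 23]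

/-- The same for the second involution. -/
def threeJ : List Nat :=
  [0, 11, 2, 10, 21, 5, 16, 9, 13, 12, 18, 15, 7, 20, 6, 1, 14, 4, 3, 19, 8, 17, 22, 23]

/-- A conjugator to the second hexad. -/
def hexG : List Nat :=
  [0, 3, 1, 2, 6, 17, 4, 11, 21, 7, 9, 12, 22, 8, 5, 18, 13, 14, 15, 20, 16, 19, 10, 23]

/-- Words for a group of order nine generated by the two hexad subgroups. -/
def wordX : List Nat := [7, 2, 5, 2]

/-- The second word. -/
def wordY : List Nat := [7, 3, 4, 3]

end CfsgLib.J4Eleven.Data
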