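import Cfsg.Agent.J4Local.M22Elem
import Cfsg.Agent.J4Local.M22Facts
import Cfsg.Agent.J4Local.Eleven.DataLists
import Cfsg.Agent.Golay.OutTwo22

/-!
Facts about the first elementary subgroup of order sixteen of M₂₂, its normaliser in the automorphism
group, and a second conjugate of it.
-/

set_option autoImplicit false
set_option maxRecDepth 100000
set_option linter.style.haveILetI false

namespace CfsgLib.J4Eleven

open Cfsg CfsgLib.Golay CfsgLib.Golay.SylowCert CfsgLib.J4Local.M22Elem

/-- What is used about the first elementary subgroup of order sixteen. -/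
structure Hexad (A : Subgroup M) (s : M) : Prop where
  first : FirstKind A s
  second : ∃ (B : Subgroup M) (t y : M), SecondKind B t y ∧ (∃ (h : M) (k : ℕ), h * t * h⁻¹ = s ^ k) ∧
    ∃ T : Sylow 2 M, A ≤ (T : Subgroup M) ∧
      (∀ D : Subgroup M, D ≤ (T : Subgroup M) → (∀ a ∈ D, a * a = 1) → 16 ≤ Nat.card D → D = A ∨ D = B) ∧
        Nat.card ↥(A ⊓ B) ≤ 4
  self_cent : Subgroup.centralizer (A : Set M) = A
  dvd : 5760 ∣ Nat.card ↥(Subgroup.normalizer (A : Set M))
  outer : ∃ α : MulAut M, α ∉ Cfsg.Inn M ∧ ∀ a ∈ A, α a ∈ A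
  nine : ∃ x ∈ Subgroup.normalizer (A : Set M), ∃ y ∈ Subgroup.normalizer (A : Set M), NinePair x y ∧
    ∀ a ∈ A, x * a * x⁻¹ = a → a = 1

/-- A list swapping the two base points and preserving the code. -/
def Out22 (L : List ℕ) : Prop :=
  Good L ∧ L.length = 24 ∧ PreservesCode L ∧
    L.getD (idx none) 0 = idx (some 0) ∧ L.getD (idx (some 0)) 0 = idx none

instance (L : List ℕ) : Decidable (Out22 L) := by unfold Out22 PreservesCode; infer_instance

theorem permL_apply {L : List ℕ} (h : Good L) (hl : L.length = 24) {p q : GolayPt}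
    (e : L.getD (idx p) 0 = idx q) : permL L p = q :=
  idx_injective (by rw [← toList_getD_idx, toList_permL h hl, e])

theorem permL_out {L : List ℕ} (h : Out22 L) :
    permL L ∈ M24 ∧ permL L none = some 0 ∧ permL L (some 0) = none :=
  ⟨permL_mem_M24 h.1 h.2.1 h.2.2.1, permL_apply h.1 h.2.1 h.2.2.2.1, permL_apply h.1 h.2.1 h.2.2.2.2⟩

theorem conj_out_mem {π : Equiv.Perm GolayPt} (hM : π ∈ M24) (h0 : π none = some 0) (h1 : π (some 0) = none)
    {g : Equiv.Perm GolayPt} (hg : g ∈ Spor.M22) : π * g * π⁻¹ ∈ Spor.M22 := by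
  obtain ⟨hgM, g0, g1⟩ := Cert.mem_m22.mp hg
  refine Cert.mem_m22.mpr ⟨mul_mem (mul_mem hM hgM) (inv_mem hM), ?_, ?_⟩ <;>
    simp [Equiv.Perm.mul_apply, Equiv.Perm.inv_def, π.symm_apply_eq.mpr h0.symm,
      π.symm_apply_eq.mpr h1.symm, g0, g1, h0, h1]

/-- The automorphism of a list swapping the base points. -/
noncomputable def autL (L : List ℕ) : MulAut M :=
  if h : Out22 L then
    { toFun := fun g => ⟨permL L * g.1 * (permL L)⁻¹,
        conj_out_mem (permL_out h).1 (permL_out h).2.1 (permL_out h).2.2 g.2⟩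
      invFun := fun g => ⟨(permL L)⁻¹ * g.1 * permL L, by
        have e0 : (permL L)⁻¹ none = some 0 := by
          rw [Equiv.Perm.inv_def, Equiv.symm_apply_eq, (permL_out h).2.2]
        have e1 : (permL L)⁻¹ (some 0) = none := by
          rw [Equiv.Perm.inv_def, Equiv.symm_apply_eq, (permL_out h).2.1]
        simpa using conj_out_mem (inv_mem (permL_out h).1) e0 e1 g.2⟩
      left_inv := fun g => Subtype.ext (by simp [mul_assoc])
      right_inv := fun g => Subtype.ext (by simp [mul_assoc])
      map_mul' := fun a b => Subtype.ext (by simp [mul_assoc]) }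
  else 1

theorem coe_autL {L : List ℕ} (h : Out22 L) (g : M) : (autL L g).1 = permL L * g.1 * (permL L)⁻¹ := by
  rw [autL, dif_pos h]; rfl

theorem toL_autL {L : List ℕ} (h : Out22 L) (g : M) : toL (autL L g) = conjL L (toL g) := by
  show toList (autL L g).1 = _
  rw [coe_autL h, toList_mul, toList_mul, toList_inv, toList_permL h.1 h.2.1]
  rfl

theorem autL_not_inn {L : List ℕ} (h : Out22 L) : autL L ∉ Cfsg.Inn M := by
  obtain ⟨hM, h0, h1⟩ := permL_out h
  rintro ⟨m, hm⟩
  obtain ⟨hmM, m0, m1⟩ := Cert.mem_m22.mp m.2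
  set d : Equiv.Perm GolayPt := m.1⁻¹ * permL L with hd
  have hcomm : ∀ g : M, d * g.1 = g.1 * d := by
    intro g
    have e : m.1 * g.1 * m.1⁻¹ = permL L * g.1 * (permL L)⁻¹ := by
      rw [← coe_autL h, ← hm]; rfl
    calc d * g.1 = m.1⁻¹ * (permL L * g.1 * (permL L)⁻¹) * permL L := by rw [hd]; group
      _ = g.1 * d := by rw [← e, hd]; group
  have d0 : d none = some 0 := by
    rw [hd, Equiv.Perm.mul_apply, h0, Equiv.Perm.inv_def, Equiv.symm_apply_eq, m1]
  have d1 : d (some 0) = none := by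
    rw [hd, Equiv.Perm.mul_apply, h1, Equiv.Perm.inv_def, Equiv.symm_apply_eq, m0]
  have hfix : ∀ q ∉ ({none, some 0} : Finset GolayPt), d q = q := by
    intro q hq
    simp only [Finset.mem_insert, Finset.mem_singleton, not_or] at hq
    refine (Cert.m22_sep hq ⟨fun e => ?_, fun e => ?_⟩ fun g hg => ?_).symm
    · exact hq.2 (d.injective (e.trans d1.symm))
    · exact hq.1 (d.injective (e.trans d0.symm))
    · have := congrArg (fun σ : Equiv.Perm GolayPt => σ q) (hcomm g)
      simp only [Equiv.Perm.mul_apply, hg] at this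
      exact this.symm
  have he := Cert.eq_one_of_small (g := ⟨d, mul_mem (inv_mem hmM) hM⟩) (S := {none, some 0})
    (Finset.card_le_two.trans (by norm_num)) hfix
  have hd1 : d = 1 := congrArg Subtype.val he
  rw [hd1] at d0
  cases d0

theorem out_ok : Out22 Data.outA ∧ ∀ L ∈ elsA, conjL Data.outA L ∈ elsA := by decide +kernel

theorem autL_mem_sub {L : List ℕ} (h : Out22 L) (hA : ∀ K ∈ elsA, conjL L K ∈ elsA) (a : M)
    (ha : a ∈ subA) : autL L a ∈ subA :=
  (mem_sub pcA _).2 (by rw [toL_autL h]; exact hA _ ((mem_sub pcA a).1 ha))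

theorem norm_ok : ∀ K ∈ m22Pc, ∀ L ∈ elsA, conjL K L ∈ elsA := by decide +kernel

theorem cent_ok : elsT.all (fun K => !(sixteenA.all fun L => compL K L == compL L K) || elsA.contains K) =
    true := by decide +kernel

theorem nineX_fpf : ∀ L ∈ elsA, conjL nineX L = L → L = List.range 24 := by decide +kernel

theorem sylow_le_normalizer : sub m22Pc ≤ Subgroup.normalizer (subA : Set M) := by
  intro g hg
  have hle := pcGroup_le pc22 (T := (Subgroup.normalizer (subA : Set M)).map Cfsg.Spor.M22.subtype)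
    fun L hL => ⟨el L, mem_normalizer pcA (toL_el (in22 L hL)) (norm_ok L hL),
      toList_injective ((toL_el (in22 L hL)).trans (toList_permL (in22 L hL).1 (in22 L hL).2.1).symm)⟩
  obtain ⟨x, hx, e⟩ := hle hg
  exact (Subtype.ext e : x = g) ▸ hx

theorem inter_ok : (elsA.filter fun L => elsB.contains L).length ≤ 4 := by decide +kernel

theorem card_inter : Nat.card ↥(subA ⊓ subB) ≤ 4 := by
  classical
  refine le_trans ?_ inter_ok
  refine le_trans (Nat.card_le_card_of_injective
    (fun g : ↥(subA ⊓ subB) => (⟨toL g.1, ?_⟩ : {L // L ∈ (elsA.filter fun L => elsB.contains L).toFinset})) ?_) ?_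
  · rw [List.mem_toFinset, List.mem_filter, List.contains_iff_mem]
    exact ⟨(mem_sub pcA _).1 g.2.1, (mem_sub pcB _).1 g.2.2⟩
  · intro a b h
    exact Subtype.ext (eq_of_toL rfl (congrArg Subtype.val h).symm rfl)
  · rw [Nat.card_eq_fintype_card, Fintype.card_coe]
    exact List.toFinset_card_le _

theorem hexad : Hexad subA elFA := by
  haveI : Fact (Nat.Prime 2) := ⟨Nat.prime_two⟩
  haveI : Fact (Nat.Prime 3) := ⟨Nat.prime_three⟩
  set N := Subgroup.normalizer (subA : Set M) with hN
  have hc : Nat.card (sub m22Pc) = 2 ^ (Nat.card M).factorization 2 := by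
    rw [card_sub pc22 in22, Golay.SylowCert.factorization_two (a := 7) (m := 3465)
      (show Nat.card M = 2 ^ 7 * 3465 by rw [show Nat.card M = _ from card_M22]; norm_num)
      (by norm_num)]
    rfl
  have hTA : subA ≤ sub m22Pc := fun g hg => (mem_sub pc22 g).2
    ((by decide +kernel : ∀ L ∈ elsA, L ∈ elsT) _ ((mem_sub pcA g).1 hg))
  have h128 : Nat.card (sub m22Pc) = 128 := by rw [card_sub pc22 in22]; rfl
  obtain ⟨hx, hy, -, -, -, -, -, -⟩ := inElts
  obtain ⟨nx, ny, -, -⟩ := normA
  refine ⟨firstKind, ⟨subB, elFB, el fourB, secondKind, fused.imp fun h e => ⟨fusK, e⟩,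
    Sylow.ofCard _ hc, by rw [Sylow.coe_ofCard]; exact hTA,
    fun D hD => classify D (by rwa [Sylow.coe_ofCard] at hD), card_inter⟩, ?_, ?_,
    ⟨autL Data.outA, autL_not_inn out_ok.1, autL_mem_sub out_ok.1 out_ok.2⟩,
    el nineX, mem_normalizer pcA (toL_el hx) nx, el nineY, mem_normalizer pcA (toL_el hy) ny,
    ninePair_of (toL_el hx) (toL_el hy) (by decide +kernel), fun a ha he => ?_⟩
  · set C := Subgroup.centralizer (subA : Set M) with hC
    have hCN : C ≤ N := Subgroup.centralizer_le_normalizer _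
    have hnor : ∀ n ∈ N, ∀ c ∈ C, n * c * n⁻¹ ∈ C := fun n hn c hc => by
      refine Subgroup.mem_centralizer_iff.2 fun q hq => ?_
      have h1 := Subgroup.mem_centralizer_iff.1 hc (n⁻¹ * q * n) (by
        simpa using (Subgroup.mem_normalizer_iff.1 (inv_mem hn) q).1 hq)
      calc q * (n * c * n⁻¹) = n * ((n⁻¹ * q * n) * c) * n⁻¹ := by group
        _ = n * c * n⁻¹ * q := by rw [h1]; group
    have hin : C ⊓ sub m22Pc = subA := by
      refine le_antisymm (fun g hg => ?_) (le_inf ?_ hTA)
      · refine (mem_sub pcA g).2 ?_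
        have hch := List.all_eq_true.1 cent_ok _ ((mem_sub pc22 g).1 hg.2)
        simp only [Bool.or_eq_true, Bool.not_eq_eq_eq_not, Bool.not_true, List.all_eq_false, beq_iff_eq,
          List.contains_iff_mem] at hch
        refine hch.resolve_left ?_
        rintro ⟨L, hL, hne⟩
        refine hne ?_
        have hLA : el L ∈ subA := (mem_sub pcA _).2 (by
          rw [toL_el (inA L hL)]; exact (by decide +kernel : ∀ L ∈ sixteenA, L ∈ elsA) L hL)
        have := congrArg toL (Subgroup.mem_centralizer_iff.1 hg.1 _ hLA)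
        rw [toL_mul, toL_mul, toL_el (inA L hL)] at this
        exact this.symm
      · intro a ha
        refine Subgroup.mem_centralizer_iff.2 fun b hb => ?_
        have i : ∀ x ∈ subA, x⁻¹ = x := fun x hx => inv_eq_of_mul_eq_one_right (firstKind.exp x hx)
        rw [← i _ (mul_mem ha hb), mul_inv_rev, i a ha, i b hb]
    -- every 2-element of `C` is conjugate into the Sylow subgroup inside `N`
    let S : Sylow 2 N := Sylow.ofCard ((sub m22Pc).subgroupOf N) (by
      rw [Nat.card_congr (Subgroup.subgroupOfEquivOfLe sylow_le_normalizer).toEquiv, hc]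
      refine congrArg (2 ^ ·) (le_antisymm ?_ ?_)
      · have h1 : 2 ^ (Nat.card M).factorization 2 ∣ Nat.card N :=
          hc ▸ Subgroup.card_dvd_of_le sylow_le_normalizer
        exact (Nat.prime_two.pow_dvd_iff_le_factorization Nat.card_pos.ne').1 h1
      · exact (Nat.factorization_le_iff_dvd Nat.card_pos.ne' Nat.card_pos.ne').2
          (Subgroup.card_subgroup_dvd_card N) 2)
    have htwo : ∀ g ∈ C, (∃ k, g ^ 2 ^ k = 1) → g ∈ subA := by
      intro g hg hk
      have hp : IsPGroup 2 ↥(Subgroup.zpowers (⟨g, hCN hg⟩ : N)) := by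
        obtain ⟨k, hk⟩ := hk
        have hd : orderOf (⟨g, hCN hg⟩ : N) ∣ 2 ^ k := orderOf_dvd_of_pow_eq_one (Subtype.ext hk)
        obtain ⟨i, -, hi⟩ := (Nat.dvd_prime_pow Nat.prime_two).1 hd
        exact IsPGroup.of_card (n := i) (by rw [Nat.card_zpowers, hi])
      obtain ⟨Q, hQ⟩ := hp.exists_le_sylow
      obtain ⟨n, hn⟩ := MulAction.exists_smul_eq N Q S
      have hm : n * (⟨g, hCN hg⟩ : N) * n⁻¹ ∈ (S : Subgroup N) := by
        rw [← hn, Sylow.coe_subgroup_smul, Subgroup.mem_pointwise_smul_iff_inv_smul_mem]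
        simpa [MulAut.smul_def, mul_assoc] using hQ (Subgroup.mem_zpowers _)
      have := hin.le ⟨hnor n n.2 g hg, hm⟩
      exact (Subgroup.mem_normalizer_iff.1 n.2 g).2 this
    refine le_antisymm ?_ (hin.ge.trans inf_le_left)
    by_contra hne
    obtain ⟨g, hg, hgA⟩ := SetLike.not_le_iff_exists.1 hne
    -- an element of odd prime order centralising the subgroup
    obtain ⟨k, m, hm, hk⟩ := Nat.exists_eq_two_pow_mul_odd (orderOf_pos g).ne'
    have h2 : g ^ m ∈ subA := htwo _ (pow_mem hg m) ⟨k, by rw [← pow_mul, mul_comm, ← hk, pow_orderOf_eq_one]⟩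
    have hm1 : m ≠ 1 := fun e => hgA (by rw [e, pow_one] at h2; exact h2)
    obtain ⟨q, hq, hqm⟩ := Nat.exists_prime_and_dvd hm1
    haveI := Fact.mk hq
    obtain ⟨c, hc'⟩ := exists_prime_orderOf_dvd_card' (G := Subgroup.zpowers g) q
      (by rw [Nat.card_zpowers]; exact dvd_trans hqm (hk ▸ dvd_mul_left m _))
    have hco : orderOf c.1 = q := by rw [Subgroup.orderOf_coe, hc']
    have hcC : c.1 ∈ C := Subgroup.zpowers_le.2 hg c.2
    have hq2 : q ≠ 2 := fun e => by
      rw [e] at hqm
      exact (Nat.not_even_iff_odd.2 hm) (even_iff_two_dvd.2 hqm)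
    have h16 : 16 ∣ Nat.card ↥(Subgroup.centralizer ({c.1} : Set M)) := by
      refine firstKind.card ▸ Subgroup.card_dvd_of_le fun a ha => ?_
      exact Subgroup.mem_centralizer_singleton_iff.2 (Subgroup.mem_centralizer_iff.1 hcC a ha)
    have hqd : q ∣ 443520 := by
      rw [← hco, ← show Nat.card M = 443520 from card_M22]; exact orderOf_dvd_natCard _
    have hqs : q = 3 ∨ q = 5 ∨ q = 7 ∨ q = 11 := by
      have hle : q ≤ 443520 := Nat.le_of_dvd (by norm_num) hqd
      rw [show (443520 : ℕ) = 2 ^ 7 * 3 ^ 2 * 5 * 7 * 11 by norm_num] at hqd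
      rcases hq.dvd_mul.mp hqd with h | h
      · rcases hq.dvd_mul.mp h with h | h
        · rcases hq.dvd_mul.mp h with h | h
          · rcases hq.dvd_mul.mp h with h | h
            · exact absurd ((Nat.prime_dvd_prime_iff_eq hq Nat.prime_two).mp (hq.dvd_of_dvd_pow h)) hq2
            · exact Or.inl ((Nat.prime_dvd_prime_iff_eq hq Nat.prime_three).mp (hq.dvd_of_dvd_pow h))
          · exact Or.inr (Or.inl ((Nat.prime_dvd_prime_iff_eq hq (by norm_num)).mp h))
        · exact Or.inr (Or.inr (Or.inl ((Nat.prime_dvd_prime_iff_eq hq (by norm_num)).mp h)))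
      · exact Or.inr (Or.inr (Or.inr ((Nat.prime_dvd_prime_iff_eq hq (by norm_num)).mp h)))
    rcases hqs with rfl | rfl | rfl | rfl
    · rw [CfsgLib.J4M22.card_centralizer_three hco] at h16; norm_num at h16
    · rw [CfsgLib.J4M22.card_centralizer_five hco] at h16; norm_num at h16
    · rw [CfsgLib.J4M22.card_centralizer_seven hco] at h16; norm_num at h16
    · rw [CfsgLib.J4M22.card_centralizer_eleven hco] at h16; norm_num at h16
  · have h2 : 128 ∣ Nat.card N := h128 ▸ Subgroup.card_dvd_of_le sylow_le_normalizer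
    have h5 : 5 ∣ Nat.card N := firstKind.five ▸ Subgroup.orderOf_dvd_natCard N firstKind.five_mem
    have h9 : 9 ∣ Nat.card N := by
      obtain ⟨x, hxN, y, hyN, hx3, hy3, hxy, hx1, hy1, hne, hne2⟩ := firstKind.nine
      have hn : Subgroup.zpowers x ≤ Subgroup.normalizer (Subgroup.zpowers y : Set M) :=
        Subgroup.zpowers_le.2 (Subgroup.centralizer_le_normalizer _ (by
          rintro _ ⟨i, rfl⟩
          exact ((show Commute y x from hxy.symm).zpow_left i).eq))
      have hd : Subgroup.zpowers x ⊓ Subgroup.zpowers y = ⊥ := by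
        by_contra hne0
        have hcx : Nat.card ↥(Subgroup.zpowers x) = 3 := by
          rw [Nat.card_zpowers, orderOf_eq_prime hx3 hx1]
        have hcy : Nat.card ↥(Subgroup.zpowers y) = 3 := by
          rw [Nat.card_zpowers, orderOf_eq_prime hy3 hy1]
        have hd3 : Nat.card ↥(Subgroup.zpowers x ⊓ Subgroup.zpowers y) ∣ 3 :=
          hcy ▸ Subgroup.card_dvd_of_le inf_le_right
        have h3 : Nat.card ↥(Subgroup.zpowers x ⊓ Subgroup.zpowers y) = 3 :=
          ((Nat.dvd_prime Nat.prime_three).1 hd3).resolve_left fun h => hne0 (Subgroup.eq_bot_of_card_eq _ h)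
        have hmem : x ∈ Subgroup.zpowers y := (Subgroup.eq_of_le_of_card_ge
          (inf_le_left : Subgroup.zpowers x ⊓ Subgroup.zpowers y ≤ _) (by rw [h3, hcx])).ge
          (Subgroup.mem_zpowers x) |>.2
        rw [mem_zpowers_iff_mem_range_orderOf, orderOf_eq_prime hy3 hy1] at hmem
        simp only [Finset.mem_image, Finset.mem_range] at hmem
        obtain ⟨n, hn', e⟩ := hmem
        interval_cases n
        · exact hx1 (by rw [← e, pow_zero])
        · exact hne (by rw [← e, pow_one])
        · exact hne2 (by rw [← e, pow_two])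
      have := CfsgLib.Solvable.card_sup_of_disjoint hn hd
      rw [Nat.card_zpowers, Nat.card_zpowers, orderOf_eq_prime hx3 hx1, orderOf_eq_prime hy3 hy1] at this
      exact dvd_trans (dvd_of_eq this.symm) (Subgroup.card_dvd_of_le
        (sup_le (Subgroup.zpowers_le.2 hxN) (Subgroup.zpowers_le.2 hyN)))
    exact (Nat.Coprime.mul_dvd_of_dvd_of_dvd (by norm_num : Nat.Coprime 128 45) h2
      (Nat.Coprime.mul_dvd_of_dvd_of_dvd (by norm_num : Nat.Coprime 5 9) h5 h9) : 128 * 45 ∣ _)
  · have h := congrArg toL he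
    rw [toL_conj, toL_el hx] at h
    exact eq_of_toL rfl toL_one (nineX_fpf _ ((mem_sub pcA a).1 ha) h)

end CfsgLib.J4Eleven
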