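import Cfsg.Agent.DuadCode.Code
import Cfsg.Agent.Golay.Mathieu

/-!
The map into the Mathieu group together with the labelling of the stars by the 24 points.
-/

set_option autoImplicit false

namespace CfsgLib.DuadCode

open Finset Cfsg
open scoped Pointwise

variable {A : Type*} [AddCommGroup A] [DecidableEq A] {S : Finset A} (h : Geom S)

include h

/-- The map and the labelling, compatible on duads. -/
theorem Geom.exists_labels {H : Type*} [Group H] (ρ : H → A ≃+ A)
    (hmul : ∀ g k a, ρ (g * k) a = ρ g (ρ k a)) (hone : ∀ a, ρ 1 a = a)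
    (hρ : ∀ g, ∀ a ∈ S, ρ g a ∈ S) :
    ∃ (φ : H →* Cfsg.M24) (e : Pt S ≃ Cfsg.GolayPt), (∀ g, φ g = 1 ↔ ∀ a, ρ g a = a) ∧
      ∀ g p q, duad (e.symm ((φ g : Equiv.Perm Cfsg.GolayPt) p))
        (e.symm ((φ g : Equiv.Perm Cfsg.GolayPt) q)) = ρ g (duad (e.symm p) (e.symm q)) := by
  classical
  obtain ⟨o⟩ := h.exists_pt
  obtain ⟨e, he⟩ := Steiner.exists_iso24 (h.steiner o) h.card_Pt
  let π : H → Equiv.Perm (Pt S) := fun g => Equiv.ofBijective (h.mapPt (ρ g) (hρ g))
    ((Fintype.bijective_iff_injective_and_card _).2 ⟨h.mapPt_injective _ _, rfl⟩)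
  have hπ : ∀ g K, (π g K).1 = K.1.image (ρ g) := fun g K => rfl
  let πh : H →* Equiv.Perm (Pt S) :=
    { toFun := π
      map_one' := by
        refine Equiv.ext fun K => Subtype.ext ?_
        rw [hπ, show (⇑(ρ 1)) = id from funext hone, image_id]; rfl
      map_mul' := fun g k => by
        refine Equiv.ext fun K => Subtype.ext ?_
        rw [Equiv.Perm.mul_apply, hπ, hπ, hπ, image_image]
        exact image_congr fun a _ => hmul g k a }
  have hd : ∀ g a b, duad (π g a) (π g b) = ρ g (duad a b) := fun g a b =>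
    h.map_duad (ρ g) (hρ g) a b
  have haut : ∀ g, πh g ∈ setSystemAut (blocks o) := by
    intro g
    rw [Steiner.mem_aut_iff]
    rintro b ⟨hb8, hb0⟩
    refine ⟨by rw [card_image_of_injective _ (πh g).injective, hb8], ?_⟩
    have h1 : val o (b.image (πh g)) = ∑ a ∈ b, (duad o (π g o) + ρ g (duad o a)) := by
      rw [val, sum_image (πh g).injective.injOn]
      exact sum_congr rfl fun a _ => by rw [← hd, h.duad_add]; rfl
    rw [h1, sum_add_distrib, sum_const, h.smul_even (by rw [hb8]; decide), zero_add, ← map_sum]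
    show ρ g (val o b) = 0
    rw [hb0, map_zero]
  let φ : H →* Cfsg.M24 :=
    ((Steiner.autEquiv e he).trans (MulEquiv.subgroupCongr Golay.M24_eq_octAut.symm)).toMonoidHom.comp
      (πh.codRestrict (setSystemAut (blocks o)) haut)
  have hφ : ∀ g K, (φ g : Equiv.Perm Cfsg.GolayPt) (e K) = e (π g K) := fun g K =>
    Steiner.autEquiv_apply e he _ K
  have hfix : ∀ g, φ g = 1 ↔ ∀ a, ρ g a = a := by
    intro g
    constructor
    · intro hg
      have hK : ∀ K, π g K = K := fun K => e.injective (by rw [← hφ, hg]; rfl)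
      have hd' : ∀ a b, ρ g (duad a b) = duad a b := fun a b => by rw [← hd, hK, hK]
      intro a
      have hS : ∀ a ∈ S, ρ g a = a := by
        intro t ht
        obtain ⟨u, hu⟩ := h.exists_nbr ht
        obtain ⟨e2, hne⟩ := h.two_stars ht hu
        let K1 : Pt S := ⟨star S t u, mem_stars.2 ⟨t, ht, u, hu, rfl⟩⟩
        let K2 : Pt S := ⟨star S t (t + u), mem_stars.2 ⟨t, ht, _, h.partner ht hu, rfl⟩⟩
        rw [h.eq_duad (a := K1) (b := K2) (fun e => hne (congrArg Subtype.val e))
          (mem_insert_self _ _) (mem_insert_self _ _)]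
        exact hd' _ _
      by_cases ha0 : a = 0
      · rw [ha0, map_zero]
      by_cases haS : a ∈ S
      · exact hS a haS
      obtain ⟨s, -, rfl⟩ := (h.pt_four o).1 a haS ha0
      rw [val, map_sum]
      exact sum_congr rfl fun b _ => hd' o b
    · intro hg
      refine Subtype.ext (Equiv.ext fun p => ?_)
      obtain ⟨K, rfl⟩ := e.surjective p
      rw [hφ, show π g K = K from Subtype.ext
        (by rw [hπ, show (⇑(ρ g)) = id from funext hg, image_id])]
      rfl
  refine ⟨φ, e, hfix, fun g p q => ?_⟩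
  obtain ⟨a, rfl⟩ := e.surjective p
  obtain ⟨b, rfl⟩ := e.surjective q
  rw [hφ, hφ]
  simp only [Equiv.symm_apply_apply]
  exact hd g a b

end CfsgLib.DuadCode
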