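import Cfsg.Agent.Golay.Mathieu
import Cfsg.Agent.J4Local.M22Classes
import Cfsg.Agent.J4Local.M22Elem

/-!
Involutions and elementary abelian subgroups of the Mathieu group of degree 24 in the stabiliser of two points.
-/

set_option autoImplicit false
set_option linter.style.haveILetI false

namespace CfsgLib.J4Eleven

open Cfsg MulAction

attribute [local instance] Classical.propDecidable

/-- The fixed points of a permutation. -/
noncomputable def fixSet (x : Equiv.Perm GolayPt) : Finset GolayPt := Finset.univ.filter fun r => x r = r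

theorem mem_fixSet {x : Equiv.Perm GolayPt} {r : GolayPt} : r ∈ fixSet x ↔ x r = r := by simp [fixSet]

theorem card_fixSet_conj (c x : Equiv.Perm GolayPt) : (fixSet (c * x * c⁻¹)).card = (fixSet x).card := by
  refine Finset.card_bij' (fun r _ => c⁻¹ r) (fun r _ => c r) ?_ ?_ (fun r _ => by simp) (fun r _ => by simp)
  · intro r hr
    rw [mem_fixSet] at hr ⊢
    calc x (c⁻¹ r) = c⁻¹ ((c * x * c⁻¹) r) := by simp
      _ = c⁻¹ r := by rw [hr]
  · intro r hr
    rw [mem_fixSet] at hr ⊢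
    simp [hr]

theorem sig_fixed : ((List.range 24).filter fun i => (J4M22.sigL).getD i 0 == i).length = 8 := by
  decide +kernel

theorem sig_ok : J4M22.okL J4M22.sigL = true ∧ CfsgLib.Golay.Cert.ordB 2 J4M22.sigL = true := by decide +kernel

open CfsgLib.Golay CfsgLib.Golay.Cert in
theorem card_fixSet_M22 {x : J4M22.M} (hx : orderOf x = 2) : (fixSet x.1).card = 8 := by
  obtain ⟨c, hc⟩ := isConj_iff.1 (J4M22.isConj_two hx (y := J4M22.el J4M22.sigL) (by
    have h2 := sig_ok.2
    simp only [CfsgLib.Golay.Cert.ordB, Bool.and_eq_true, bne_iff_ne, ne_eq, beq_iff_eq] at h2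
    refine orderOf_eq_prime ?_ fun e => h2.1 ?_
    · refine J4M22.lst_injective ?_
      rw [J4M22.lst_pow, J4M22.lst_one, J4M22.lst_el sig_ok.1]
      exact h2.2
    · rw [← J4M22.lst_el sig_ok.1, e, J4M22.lst_one]))
  rw [← card_fixSet_conj c.1 x.1, show c.1 * x.1 * c.1⁻¹ = (c * x * c⁻¹ : J4M22.M).1 from rfl, hc,
    ← sig_fixed, ← List.toFinset_card_of_nodup (List.nodup_range.filter _)]
  refine Finset.card_bij' (fun r _ => idx r) (fun i _ => pt i) ?_ ?_ (fun r _ => pt_idx r) ?_
  · intro r hr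
    rw [mem_fixSet] at hr
    simp only [List.mem_toFinset, List.mem_filter, List.mem_range, beq_iff_eq]
    refine ⟨idx_lt r, ?_⟩
    have h := (J4M22.moved_iff (J4M22.el J4M22.sigL) (idx_lt r)).1 (by rw [pt_idx]; exact hr)
    rwa [J4M22.lst_el sig_ok.1] at h
  · intro i hi
    simp only [List.mem_toFinset, List.mem_filter, List.mem_range, beq_iff_eq] at hi
    rw [mem_fixSet]
    refine (J4M22.moved_iff (J4M22.el J4M22.sigL) hi.1).2 ?_
    rw [J4M22.lst_el sig_ok.1]
    exact hi.2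
  · intro i hi
    simp only [List.mem_toFinset, List.mem_filter, List.mem_range] at hi
    exact idx_pt i hi.1

theorem exists_move {p q : GolayPt} (h : p ≠ q) :
    ∃ c : ↥M24, (c : Equiv.Perm GolayPt) p = none ∧ (c : Equiv.Perm GolayPt) q = some 0 := by
  obtain ⟨c, h1, h2⟩ := (MulAction.is_two_pretransitive_iff.1 Golay.two_transitive) h
    (show (none : GolayPt) ≠ some 0 by simp)
  exact ⟨c, h1, h2⟩

theorem mem_M22_of_fix {c x : ↥M24} {p q : GolayPt} (h1 : (c : Equiv.Perm GolayPt) p = none)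
    (h2 : (c : Equiv.Perm GolayPt) q = some 0) (h3 : (x : Equiv.Perm GolayPt) p = p)
    (h4 : (x : Equiv.Perm GolayPt) q = q) : ((c * x * c⁻¹ : ↥M24) : Equiv.Perm GolayPt) ∈ Spor.M22 := by
  refine ⟨⟨(c * x * c⁻¹ : ↥M24).2, ?_⟩, ?_⟩
  · show ((c : Equiv.Perm GolayPt) * x * (c : Equiv.Perm GolayPt)⁻¹) none = none
    rw [← h1]
    simp [h3]
  · show ((c : Equiv.Perm GolayPt) * x * (c : Equiv.Perm GolayPt)⁻¹) (some 0) = some 0
    rw [← h2]
    simp [h4]

/-- An involution fixing two points fixes eight. -/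
theorem card_fixSet {x : ↥M24} (hx1 : x ≠ 1) (hx : x * x = 1) {p q : GolayPt} (hpq : p ≠ q)
    (hp : (x : Equiv.Perm GolayPt) p = p) (hq : (x : Equiv.Perm GolayPt) q = q) :
    (fixSet (x : Equiv.Perm GolayPt)).card = 8 := by
  obtain ⟨c, h1, h2⟩ := exists_move hpq
  let y : J4M22.M := ⟨_, mem_M22_of_fix h1 h2 hp hq⟩
  have hxx : orderOf (x : Equiv.Perm GolayPt) = 2 :=
    orderOf_eq_prime (by rw [pow_two]; exact congrArg Subtype.val hx) fun e => hx1 (Subtype.ext e)
  have hy : orderOf y = 2 := by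
    rw [← Subgroup.orderOf_coe]
    show orderOf ((c : Equiv.Perm GolayPt) * x * (c : Equiv.Perm GolayPt)⁻¹) = 2
    rw [show (c : Equiv.Perm GolayPt) * x * (c : Equiv.Perm GolayPt)⁻¹ = MulAut.conj (c : Equiv.Perm GolayPt) x from rfl,
      MulEquiv.orderOf_eq, hxx]
  have := card_fixSet_M22 hy
  rwa [show y.1 = (c : Equiv.Perm GolayPt) * x * (c : Equiv.Perm GolayPt)⁻¹ from rfl, card_fixSet_conj] at this

theorem card_le_sixteen_M22 {D : Subgroup J4M22.M} (hD : ∀ a ∈ D, a * a = 1) : Nat.card D ≤ 16 := by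
  haveI : Fact (Nat.Prime 2) := ⟨Nat.prime_two⟩
  obtain ⟨T, A, B, s, t, y, hA, hB, -, -, hcl⟩ := J4Local.M22Elem.exists_sixteen
  by_contra h
  push Not at h
  have hp : IsPGroup 2 D := fun a => ⟨1, Subtype.ext (by rw [pow_one, SubgroupClass.coe_pow, pow_two]; exact hD _ a.2)⟩
  obtain ⟨T', hT'⟩ := hp.exists_le_sylow
  obtain ⟨g, hg⟩ := MulAction.exists_smul_eq J4M22.M T' T
  have hcard : Nat.card (D.map (MulAut.conj g).toMonoidHom) = Nat.card D :=
    Subgroup.card_map_of_injective (MulEquiv.injective _)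
  rcases hcl (D.map (MulAut.conj g).toMonoidHom) (by rw [← hg]; exact Subgroup.map_mono hT')
    (by rintro _ ⟨a, ha, rfl⟩; rw [← map_mul, hD a ha, map_one]) (le_of_le_of_eq h.le hcard.symm) with e | e <;>
    rw [e] at hcard
  · exact absurd (hA.card.symm.trans hcard) (Nat.ne_of_lt h)
  · exact absurd (hB.card.symm.trans hcard) (Nat.ne_of_lt h)

/-- An elementary abelian 2-subgroup fixing two points has order at most sixteen. -/
theorem card_le_sixteen {D : Subgroup ↥M24} (hD : ∀ a ∈ D, a * a = 1) {p q : GolayPt} (hpq : p ≠ q)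
    (hfix : ∀ a ∈ D, (a : Equiv.Perm GolayPt) p = p ∧ (a : Equiv.Perm GolayPt) q = q) : Nat.card D ≤ 16 := by
  obtain ⟨c, h1, h2⟩ := exists_move hpq
  let f : D →* J4M22.M :=
    { toFun := fun a => ⟨_, mem_M22_of_fix h1 h2 (hfix _ a.2).1 (hfix _ a.2).2⟩
      map_one' := Subtype.ext (by simp)
      map_mul' := fun a b => Subtype.ext (by simp [mul_assoc]) }
  have hf : Function.Injective f := fun a b e => by
    have h := congrArg Subtype.val e
    exact Subtype.ext (mul_left_cancel (mul_right_cancel (Subtype.ext h : c * (a : ↥M24) * c⁻¹ = c * b * c⁻¹)))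
  rw [Nat.card_congr (MonoidHom.ofInjective hf).toEquiv]
  refine card_le_sixteen_M22 ?_
  rintro _ ⟨a, rfl⟩
  rw [← map_mul, show a * a = 1 from Subtype.ext (hD _ a.2), map_one]

/-- An elementary abelian 2-subgroup stabilising a pair has order at most thirty-two. -/
theorem card_le_thirtyTwo {D : Subgroup ↥M24} (hD : ∀ a ∈ D, a * a = 1) {p q : GolayPt} (hpq : p ≠ q)
    (hfix : ∀ a ∈ D, ((a : Equiv.Perm GolayPt) p = p ∧ (a : Equiv.Perm GolayPt) q = q) ∨
      ((a : Equiv.Perm GolayPt) p = q ∧ (a : Equiv.Perm GolayPt) q = p)) : Nat.card D ≤ 32 := by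
  set D0 : Subgroup ↥M24 := D ⊓ (stabilizer ↥M24 p ⊓ stabilizer ↥M24 q)
  have h16 : Nat.card D0 ≤ 16 := card_le_sixteen (fun a ha => hD a ha.1) hpq fun a ha => ha.2
  by_cases hs : ∀ a ∈ D, (a : Equiv.Perm GolayPt) p = p
  · have : D ≤ D0 := fun a ha => ⟨ha, hs a ha, by
      rcases hfix a ha with h | h
      · exact h.2
      · exact absurd ((hs a ha).symm.trans h.1) hpq⟩
    exact (Subgroup.card_le_of_le this).trans (h16.trans (by norm_num))
  push Not at hs
  obtain ⟨e, he, hep⟩ := hs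
  have he' : (e : Equiv.Perm GolayPt) p = q ∧ (e : Equiv.Perm GolayPt) q = p :=
    (hfix e he).resolve_left fun h => hep h.1
  let f : D → D0 ⊕ D0 := fun a =>
    if h : (a : ↥M24) ∈ D0 then Sum.inl ⟨a, h⟩ else Sum.inr ⟨e * a, mul_mem he a.2, by
      have ha : ((a : ↥M24) : Equiv.Perm GolayPt) p = q ∧ ((a : ↥M24) : Equiv.Perm GolayPt) q = p :=
        (hfix _ a.2).resolve_left fun h' => h ⟨a.2, h'⟩
      constructor
      · show ((e : ↥M24) : Equiv.Perm GolayPt) (((a : ↥M24) : Equiv.Perm GolayPt) p) = p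
        rw [ha.1, he'.2]
      · show ((e : ↥M24) : Equiv.Perm GolayPt) (((a : ↥M24) : Equiv.Perm GolayPt) q) = q
        rw [ha.2, he'.1]⟩
  have hf : Function.Injective f := fun a b h => by
    simp only [f] at h
    split_ifs at h with h1 h2 h3
    · simp only [Sum.inl.injEq, Subtype.mk.injEq] at h; exact Subtype.ext h
    · simp only [Sum.inr.injEq] at h; exact Subtype.ext (mul_left_cancel (congrArg Subtype.val h))
  have := Nat.card_le_card_of_injective f hf
  rw [Nat.card_sum] at this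
  omega

end CfsgLib.J4Eleven
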