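import Cfsg.Agent.J4Local.Eleven.Mathieu
import Cfsg.Agent.J4Local.Eleven.M24Invol

/-!
Consequences of the labelling by duads: small subgroups without conjugates of `z`, and fixed spaces of
involutions.
-/

set_option autoImplicit false
set_option maxRecDepth 100000
set_option linter.style.haveILetI false
set_option linter.unusedSectionVars false

namespace CfsgLib.J4Eleven

open Subgroup Cfsg

attribute [local instance] Classical.propDecidable

variable {G : Type*} [Group G] [Finite G] {z : G} {V : Subgroup G}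
  {φ : ↥(normalizer (V : Set G)) →* M24} {d : GolayPt → GolayPt → G}
  (C : Conf z V) (L : Labels z V φ d)

include C L

theorem Labels.memV (p q : GolayPt) : d p q ∈ V := by
  by_cases h : p = q
  · rw [h, L.self]; exact one_mem _
  · exact (mem_nS.1 (L.mem p q h)).1

theorem Labels.share {a b c e : GolayPt} (hab : a ≠ b) (hce : c ≠ e) (h : d a b * d c e ∈ nS z V ∨ d a b = d c e) :
    c = a ∨ c = b ∨ e = a ∨ e = b := by
  by_contra hh
  push Not at hh
  have hz := L.disj a b c e hab hce (Ne.symm hh.1) (Ne.symm hh.2.2.1) (Ne.symm hh.2.1) (Ne.symm hh.2.2.2)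
  rcases h with h | h
  · exact (mem_nS.1 h).2.2 hz
  · rw [← h, C.sq _ (L.memV C a b)] at hz
    exact C.not_conj_one hz

theorem Labels.pair_eq {a b c e : GolayPt} (hab : a ≠ b) (hce : c ≠ e) (h : d a b = d c e) :
    (c = a ∧ e = b) ∨ (c = b ∧ e = a) := by
  rcases L.share C hab hce (Or.inr h) with rfl | rfl | rfl | rfl
  · exact Or.inl ⟨rfl, by_contra fun hne => L.inj c b e hab hce (Ne.symm hne) h⟩
  · refine Or.inr ⟨rfl, by_contra fun hne => L.inj c a e (Ne.symm hab) hce (Ne.symm hne) ?_⟩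
    rwa [L.symm c a]
  · refine Or.inr ⟨by_contra fun hne => L.inj e b c hab (Ne.symm hce) (Ne.symm hne) ?_, rfl⟩
    rwa [L.symm e c]
  · refine Or.inl ⟨by_contra fun hne => L.inj e a c (Ne.symm hab) (Ne.symm hce) (Ne.symm hne) ?_, rfl⟩
    rwa [L.symm e a, L.symm e c]

theorem Labels.stab_pair {a b : GolayPt} (hab : a ≠ b) {m : normalizer (V : Set G)}
    (hm : (m : G) * d a b = d a b * m) :
    ((φ m : Equiv.Perm GolayPt) a = a ∧ (φ m : Equiv.Perm GolayPt) b = b) ∨
      ((φ m : Equiv.Perm GolayPt) a = b ∧ (φ m : Equiv.Perm GolayPt) b = a) := by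
  refine L.pair_eq C hab (fun h => hab ((φ m : Equiv.Perm GolayPt).injective h)) ?_
  rw [L.equiv, hm, mul_inv_cancel_right]

/-- A subgroup of `V` without conjugates of `z` has order at most four. -/
theorem Labels.card_le_four {D : Subgroup G} (hD : ∀ x ∈ D, x ≠ 1 → x ∈ nS z V) : Nat.card D ≤ 4 := by
  by_contra hc
  push Not at hc
  have key : ∀ l : Finset G, l.card ≤ 4 → ∃ x ∈ D, x ∉ l := by
    intro l hl
    by_contra hne
    push Not at hne
    have h := Finset.card_le_card (show elems D ⊆ l from fun x hx => hne x (mem_elems.1 hx))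
    rw [card_elems] at h
    omega
  obtain ⟨t, ht, ht'⟩ := key {1} (by simp)
  simp only [Finset.mem_singleton] at ht'
  obtain ⟨u, hu, hu'⟩ := key {1, t} (Finset.card_le_two.trans (by norm_num))
  simp only [Finset.mem_insert, Finset.mem_singleton, not_or] at hu'
  obtain ⟨a, b, hab, rfl⟩ := L.cover t (hD t ht ht')
  have hsqu := C.sq u (mem_nS.1 (hD u hu hu'.1)).1
  have htu : d a b * u ≠ 1 := fun e => hu'.2 (mul_left_cancel (e.trans (C.sq _ (L.memV C a b)).symm))
  obtain ⟨c, e, hce, rfl⟩ := L.cover u (hD u hu hu'.1)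
  -- normalise the second duad
  obtain ⟨a, b, c, hab, hac, hbc, h1, h2⟩ : ∃ a' b' c' : GolayPt, a' ≠ b' ∧ a' ≠ c' ∧ b' ≠ c' ∧
      d a b = d a' b' ∧ d c e = d a' c' := by
    rcases L.share C hab hce (Or.inl (hD _ (mul_mem ht hu) htu)) with rfl | rfl | rfl | rfl
    · exact ⟨c, b, e, hab, hce, fun h => hu'.2 (by rw [h]), rfl, rfl⟩
    · exact ⟨c, a, e, Ne.symm hab, hce, fun h => hu'.2 (by rw [h, L.symm]), L.symm _ _, rfl⟩
    · exact ⟨e, b, c, hab, Ne.symm hce, fun h => hu'.2 (by rw [h, L.symm]), rfl, L.symm _ _⟩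
    · exact ⟨e, a, c, Ne.symm hab, Ne.symm hce, fun h => hu'.2 (by rw [h]), L.symm _ _, L.symm _ _⟩
  rw [h1] at ht
  rw [h2] at hu
  have htu' : d a b * d a c = d b c := by rw [L.symm a b, L.tri]
  obtain ⟨w, hw, hw'⟩ := key {1, d a b, d a c, d b c} Finset.card_le_four
  simp only [Finset.mem_insert, Finset.mem_singleton, not_or] at hw'
  obtain ⟨hw1, hw2, hw3, hw4⟩ := hw'
  obtain ⟨p, q, hpq, rfl⟩ := L.cover w (hD w hw hw1)
  have meet : ∀ x y, x ≠ y → d x y ∈ D → d p q ≠ d x y → p = x ∨ p = y ∨ q = x ∨ q = y := by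
    intro x y hxy hxD hne
    refine L.share C hxy hpq (Or.inl (hD _ (mul_mem hxD hw) fun e => hne ?_))
    exact mul_left_cancel (e.trans (C.sq _ (L.memV C x y)).symm)
  have s1 := meet a b hab ht hw2
  have s2 := meet a c hac hu hw3
  have s3 := meet b c hbc (htu' ▸ mul_mem ht hu) hw4
  have n1 : ∀ x y, d p q ≠ d x y → ¬ (p = x ∧ q = y) ∧ ¬ (p = y ∧ q = x) := fun x y h =>
    ⟨fun e => h (by rw [e.1, e.2]), fun e => h (by rw [e.1, e.2, L.symm])⟩
  have m1 := n1 a b hw2
  have m2 := n1 a c hw3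
  have m3 := n1 b c hw4
  grind

omit L in
/-- The fixed space of an element inducing an involution has order at least 64. -/
theorem Conf.sixtyFour_le {m : G} (hm : m ∈ normalizer (V : Set G)) (hm2 : m * m ∈ V) :
    64 ≤ Nat.card (V ⊓ centralizer ({m} : Set G) : Subgroup G) := by
  set F : Subgroup G := V ⊓ centralizer ({m} : Set G)
  have hmv : ∀ v : V, m * v * m⁻¹ ∈ V := fun v => (mem_normalizer_iff.1 hm v).1 v.2
  let f : V →* V :=
    { toFun := fun v => ⟨v * (m * v * m⁻¹), mul_mem v.2 (hmv v)⟩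
      map_one' := Subtype.ext (by simp)
      map_mul' := fun v w => Subtype.ext (by
        show (v : G) * w * (m * ((v : G) * w) * m⁻¹) = v * (m * v * m⁻¹) * (w * (m * w * m⁻¹))
        rw [← conj_mul, mul_assoc (v : G) w, ← mul_assoc (w : G), C.comm w.2 (hmv v)]
        simp only [mul_assoc]) }
  have hker : Nat.card f.ker ≤ Nat.card F := by
    refine Nat.card_le_card_of_injective (fun v => ⟨(v.1 : G), v.1.2, ?_⟩) fun a b e =>
      Subtype.ext (Subtype.ext (congrArg (fun x : F => (x : G)) e))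
    have h : (v.1 : G) * (m * v.1 * m⁻¹) = 1 := congrArg Subtype.val (MonoidHom.mem_ker.1 v.2)
    have h' : m * v.1 * m⁻¹ = v.1 := mul_left_cancel (h.trans (C.sq _ v.1.2).symm)
    exact mem_centralizer_singleton_iff.2 (mul_inv_eq_iff_eq_mul.1 h').symm
  have hran : Nat.card f.range ≤ Nat.card F := by
    refine Nat.card_le_card_of_injective (fun v => ⟨(v.1 : G), v.1.2, ?_⟩) fun a b e =>
      Subtype.ext (Subtype.ext (congrArg (fun x : F => (x : G)) e))
    obtain ⟨x, ⟨⟨v, hv⟩, rfl⟩⟩ := v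
    refine mem_centralizer_singleton_iff.2 (mul_inv_eq_iff_eq_mul.1 ?_).symm
    show m * (v * (m * v * m⁻¹)) * m⁻¹ = v * (m * v * m⁻¹)
    rw [← conj_mul, show m * (m * v * m⁻¹) * m⁻¹ = m * m * v * (m * m)⁻¹ by group,
      C.comm hm2 hv, mul_inv_cancel_right, C.comm (hmv ⟨v, hv⟩) hv]
  have h := f.ker.card_mul_index
  rw [Subgroup.index_ker, C.card] at h
  have hsq : 2 ^ 11 ≤ Nat.card F * Nat.card F := h ▸ Nat.mul_le_mul hker hran
  obtain ⟨j, -, hj⟩ := (Nat.dvd_prime_pow Nat.prime_two).1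
    (C.card ▸ Subgroup.card_dvd_of_le inf_le_left : Nat.card F ∣ 2 ^ 11)
  rw [hj] at hsq ⊢
  by_contra hlt
  push Not at hlt
  have hj5 : j ≤ 5 := Nat.le_of_lt_succ ((Nat.pow_lt_pow_iff_right (le_refl 2)).1 (hlt : 2 ^ j < 2 ^ 6))
  rw [← pow_add] at hsq
  have := (Nat.pow_le_pow_iff_right (le_refl 2)).1 hsq
  omega

end CfsgLib.J4Eleven
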