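import Cfsg.Agent.J4Local.Eleven.Duads

/-!
An involution with two fixed points has more than 64 fixed vectors.
-/

set_option autoImplicit false
set_option maxRecDepth 100000
set_option linter.style.haveILetI false
set_option linter.unusedSectionVars false

namespace CfsgLib.J4Eleven

open Subgroup Cfsg

attribute [local instance] Classical.propDecidable

variable {G : Type*} [Group G] [Finite G] {z : G} {V : Subgroup G}
  {φ : ↥(normalizer (V : Set G)) →* M24} {d : GolayPt → GolayPt → G}
  (C : Conf z V) (L : Labels z V φ d)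

include C L

theorem Labels.sixtyFour_lt {m : normalizer (V : Set G)} (hmV : (m : G) ∉ V) (hm2 : (m : G) * m ∈ V)
    {a b : GolayPt} (hab : a ≠ b) (ha : (φ m : Equiv.Perm GolayPt) a = a)
    (hb : (φ m : Equiv.Perm GolayPt) b = b) :
    64 < Nat.card (V ⊓ centralizer ({(m : G)} : Set G) : Subgroup G) := by
  set x : Equiv.Perm GolayPt := (φ m : Equiv.Perm GolayPt) with hxdef
  have hx1 : φ m ≠ 1 := fun e => hmV ((L.ker m).1 e)
  have hx2 : φ m * φ m = 1 := by rw [← map_mul]; exact (L.ker _).2 hm2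
  have hxx : ∀ r, x (x r) = r := fun r => by
    have h := congrArg (fun u : ↥M24 => (u : Equiv.Perm GolayPt) r) hx2
    simpa [hxdef] using h
  have h8 : (fixSet x).card = 8 := card_fixSet hx1 hx2 hab ha hb
  set F : Subgroup G := V ⊓ centralizer ({(m : G)} : Set G)
  have memF : ∀ r s, d (x r) (x s) = d r s → d r s ∈ F := fun r s h =>
    ⟨L.memV C r s, mem_centralizer_singleton_iff.2 (mul_inv_eq_iff_eq_mul.1 ((L.equiv m r s).symm.trans h)).symm⟩
  set Mv : Finset GolayPt := Finset.univ.filter fun r => x r ≠ r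
  have hMv : ∀ r, r ∈ Mv ↔ x r ≠ r := fun r => by simp [Mv]
  set W1 : Finset G := Mv.image fun r => d r (x r)
  have hW1F : ∀ w ∈ W1, w ∈ F := by
    intro w hw
    obtain ⟨r, -, rfl⟩ := Finset.mem_image.1 hw
    exact memF r (x r) (by rw [hxx, L.symm])
  have h16 : Mv.card = 16 := by
    have h := Finset.card_filter_add_card_filter_not (s := (Finset.univ : Finset GolayPt)) (fun r => x r = r)
    have h24 : (Finset.univ : Finset GolayPt).card = 24 := by
      rw [Finset.card_univ, ← Nat.card_eq_fintype_card, Golay.natCard_golayPt]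
    have e : (Finset.univ.filter fun r => x r = r).card = 8 := h8
    simp only [ne_eq, Mv]
    omega
  have hW8 : 8 ≤ W1.card := by
    have := Finset.card_le_mul_card_image (f := fun r => d r (x r)) Mv 2 fun w hw => by
      obtain ⟨r0, hr0, rfl⟩ := Finset.mem_image.1 hw
      refine (Finset.card_le_card (t := {r0, x r0}) fun r hr => ?_).trans Finset.card_le_two
      rw [Finset.mem_filter] at hr
      simp only [Finset.mem_insert, Finset.mem_singleton]
      rcases L.pair_eq C (Ne.symm ((hMv r0).1 hr0)) (Ne.symm ((hMv r).1 hr.1)) hr.2.symm with h | h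
      · exact Or.inl h.1
      · exact Or.inr h.1
    have h' : Mv.card ≤ 2 * W1.card := by convert this
    omega
  set Fp : Finset GolayPt := (fixSet x).erase a
  have h7 : Fp.card = 7 := by rw [Finset.card_erase_of_mem (mem_fixSet.2 ha), h8]
  have hFp : ∀ p, p ∈ Fp ↔ p ≠ a ∧ x p = p := fun p => by simp [Fp, mem_fixSet]
  set W2 : Finset G := (Fp ×ˢ W1).image fun pw => d a pw.1 * pw.2
  have four : ∀ p ∈ Fp, ∀ w ∈ W1, IsConj z (d a p * w) := by
    intro p hp w hw
    obtain ⟨r, hr, rfl⟩ := Finset.mem_image.1 hw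
    rw [hFp] at hp
    rw [hMv] at hr
    refine L.disj a p r (x r) (Ne.symm hp.1) (Ne.symm hr) ?_ ?_ ?_ ?_
    · rintro rfl; exact hr ha
    · intro e; exact hr ((x.injective (ha.trans e) : a = r) ▸ ha)
    · rintro rfl; exact hr hp.2
    · intro e; exact hr ((x.injective (hp.2.trans e) : p = r) ▸ hp.2)
  have hW2 : W2.card = 7 * W1.card := by
    rw [Finset.card_image_of_injOn, Finset.card_product, h7]
    rintro ⟨p, w⟩ hpw ⟨p', w'⟩ hpw' e
    rw [Finset.mem_coe, Finset.mem_product] at hpw hpw'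
    simp only at e hpw hpw'
    by_cases hp : p = p'
    · subst hp; rw [mul_left_cancel e]
    exfalso
    obtain ⟨r, hr, rfl⟩ := Finset.mem_image.1 hpw.2
    obtain ⟨s, hs, rfl⟩ := Finset.mem_image.1 hpw'.2
    have e2 : d p p' = d r (x r) * d s (x s) := by
      rw [← L.tri p a p', L.symm p a]
      have h1 : d a p * d r (x r) * d s (x s) = d a p' := by
        rw [e, mul_assoc, C.sq _ (L.memV C _ _), mul_one]
      rw [← h1, ← mul_assoc, ← mul_assoc, C.sq _ (L.memV C _ _), one_mul]
    rw [hMv] at hr hs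
    by_cases hrs : d r (x r) = d s (x s)
    · rw [hrs, C.sq _ (L.memV C _ _)] at e2
      exact (mem_nS.1 (L.mem p p' hp)).2.1 e2
    · have hz : IsConj z (d r (x r) * d s (x s)) := by
        refine L.disj r (x r) s (x s) (Ne.symm hr) (Ne.symm hs) ?_ ?_ ?_ ?_
        · rintro rfl; exact hrs rfl
        · intro h; exact hrs (by rw [h, hxx, L.symm])
        · intro h; exact hrs (by rw [← h, hxx, L.symm r (x r)])
        · intro h; exact hrs (by rw [x.injective h])
      rw [← e2] at hz
      exact (mem_nS.1 (L.mem p p' hp)).2.2 hz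
  have hW1S : ∀ w ∈ W1, w ∈ nS z V := by
    intro w hw
    obtain ⟨r, hr, rfl⟩ := Finset.mem_image.1 hw
    exact L.mem _ _ (Ne.symm ((hMv r).1 hr))
  have hW2Z : ∀ w ∈ W2, w ∈ F ∧ IsConj z w := by
    intro w hw
    obtain ⟨⟨p, w'⟩, hpw, rfl⟩ := Finset.mem_image.1 hw
    rw [Finset.mem_product] at hpw
    refine ⟨mul_mem (memF a p ?_) (hW1F _ hpw.2), four _ hpw.1 _ hpw.2⟩
    rw [hxdef] at *
    rw [ha, ((hFp p).1 hpw.1).2]
  have hd : Disjoint W1 W2 := Finset.disjoint_left.2 fun w h1 h2 => (mem_nS.1 (hW1S w h1)).2.2 (hW2Z w h2).2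
  have h1 : (1 : G) ∉ W1 ∪ W2 := by
    rw [Finset.mem_union]
    rintro (h | h)
    exacts [(mem_nS.1 (hW1S _ h)).2.1 rfl, C.not_conj_one (hW2Z _ h).2]
  have hle : insert 1 (W1 ∪ W2) ⊆ elems F := by
    intro w hw
    rw [Finset.mem_insert, Finset.mem_union] at hw
    rw [mem_elems]
    rcases hw with rfl | h | h
    exacts [one_mem _, hW1F w h, (hW2Z w h).1]
  have := Finset.card_le_card hle
  rw [card_elems, Finset.card_insert_of_notMem h1, Finset.card_union_of_disjoint hd, hW2] at this
  omega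

end CfsgLib.J4Eleven
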