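import Mathlib

/-!
An elementary abelian group of order 64 with the action of a nonabelian group of order 27: coordinates,
and the orbits of an overgroup with an element of order five.
-/

set_option autoImplicit false
set_option maxRecDepth 100000
set_option linter.style.haveILetI false
set_option synthInstance.maxSize 4096
set_option synthInstance.maxHeartbeats 400000

namespace CfsgLib.J4Eleven.Frame27

/-- The field of four elements as a group. -/
abbrev K4 : Type := ZMod 2 × ZMod 2

/-- The model space. -/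
abbrev V6 : Type := K4 × K4 × K4

/-- Multiplication by a primitive cube root of one. -/
def mw (a : K4) : K4 := (a.2, a.1 + a.2)

/-- The scalar. -/
def mP (v : V6) : V6 := (mw v.1, mw v.2.1, mw v.2.2)

/-- The diagonal element. -/
def mY (v : V6) : V6 := (v.1, mw v.2.1, mw (mw v.2.2))

/-- The permuting element. -/
def mR (v : V6) : V6 := (v.2.1, v.2.2, v.1)

/-- A word. -/
def mWord (i j k : Fin 3) (v : V6) : V6 := mP^[i.val] (mY^[j.val] (mR^[k.val] v))

/-- The representatives of the five classes. -/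
def rep : Fin 5 → V6 :=
  ![((1, 0), (0, 0), (0, 0)), ((1, 0), (1, 0), (1, 0)), ((1, 0), (1, 0), (0, 1)), ((1, 0), (0, 1), (0, 1)),
    ((1, 0), (1, 0), (0, 0))]

/-- The product of two scalars. -/
def mul4 (a b : K4) : K4 := (a.1 * b.1 + a.2 * b.2, a.1 * b.2 + a.2 * b.1 + a.2 * b.2)

/-- The class of a vector. -/
def cls (v : V6) : Fin 5 :=
  if (v.1 ≠ 0 ∧ v.2.1 = 0 ∧ v.2.2 = 0) ∨ (v.1 = 0 ∧ v.2.1 ≠ 0 ∧ v.2.2 = 0) ∨
      (v.1 = 0 ∧ v.2.1 = 0 ∧ v.2.2 ≠ 0) then 0
  else if v.1 = 0 ∨ v.2.1 = 0 ∨ v.2.2 = 0 then 4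
  else if mul4 v.1 (mul4 v.2.1 v.2.2) = (1, 0) then 1
  else if mul4 v.1 (mul4 v.2.1 v.2.2) = (0, 1) then 2 else 3

theorem cls_word : ∀ v : V6, v ≠ 0 → ∃ i j k : Fin 3, mWord i j k (rep (cls v)) = v := by decide +kernel

/-- The number of vectors of the classes of a mask. -/
def size (m : Fin 5 → Bool) : ℕ :=
  (if m 0 then 9 else 0) + (if m 1 then 9 else 0) + (if m 2 then 9 else 0) + (if m 3 then 9 else 0) +
    (if m 4 then 27 else 0)

theorem card_mask : ∀ m : Fin 5 → Bool,
    (Finset.univ.filter fun v : V6 => v ≠ 0 ∧ m (cls v) = true).card = size m := by decide +kernel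

theorem small_mask : ∀ m : Fin 5 → Bool, size m % 5 = 3 → ¬ 7 ∣ size m → size m = 18 ∧ m 4 = false ∧
    ∀ m' : Fin 5 → Bool, (∀ i, m i = true → m' i = false) → size m' ≠ 0 → size m' % 5 = 0 →
      size m' = 45 ∧ ∀ i, m i = false → m' i = true := by
  decide +kernel

theorem no_line : ∀ v w : V6, v ≠ 0 → cls v ≠ 4 → w ≠ 0 → cls w ≠ 4 → v + w ≠ 0 →
    (cls (v + w) = cls v ∨ cls (v + w) = cls w) → w = mP v ∨ w = mP (mP v) := by
  decide +kernel

theorem orth_coord : ∀ a : K4, a = 0 ∨ a + mw a + mw (mw a) = 0 := by decide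

variable {Y : Type*} [AddCommGroup Y]

/-- The hypotheses. -/
structure Frame (p y r : Y →+ Y) : Prop where
  two : ∀ v : Y, v + v = 0
  card : Nat.card Y = 64
  p3 : ∀ v, p (p (p v)) = v
  y3 : ∀ v, y (y (y v)) = v
  r3 : ∀ v, r (r (r v)) = v
  pfix : ∀ v, p v = v → v = 0
  py : ∀ v, p (y v) = y (p v)
  pr : ∀ v, p (r v) = r (p v)
  comm : ∀ v, r (y v) = p (y (r v))

/-- Coordinates. -/
structure Coords (p y r : Y →+ Y) (θ : V6 →+ Y) : Prop where
  bij : Function.Bijective θ
  hp : ∀ v, p (θ v) = θ (mP v)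
  hy : ∀ v, y (θ v) = θ (mY v)
  hr : ∀ v, r (θ v) = θ (mR v)

variable {p y r : Y →+ Y}

theorem Frame.sum3 (F : Frame p y r) (v : Y) : v + p v + p (p v) = 0 := by
  refine F.pfix _ ?_
  rw [map_add, map_add, F.p3]
  abel

theorem Frame.pp (F : Frame p y r) (v : Y) : p (p v) = v + p v := by
  have h := F.sum3 v
  calc p (p v) = (v + p v + p (p v)) + (v + p v) := by
        rw [show (v + p v + p (p v)) + (v + p v) = (v + v) + (p v + p v) + p (p v) by abel,
          F.two, F.two, zero_add, zero_add]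
    _ = v + p v := by rw [h, zero_add]

theorem Frame.exists_coords [Finite Y] (F : Frame p y r) : ∃ θ : V6 →+ Y, Coords p y r θ := by
  classical
  have yr : ∀ v, y (r v) = p (p (r (y v))) := fun v => by rw [F.comm, F.p3]
  obtain ⟨e, he, he1⟩ : ∃ e, y e = e ∧ e ≠ 0 := by
    by_contra hne
    push Not at hne
    have h1 : ∀ v, y v = p v → v = 0 := by
      intro v hv
      have : y (r v) = r v := by rw [yr, hv, ← F.pr, F.p3]
      have h := congrArg r (congrArg r (hne _ this))
      rwa [F.r3, map_zero, map_zero] at h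
    have h2 : ∀ v, y v = p (p v) → v = 0 := by
      intro v hv
      have : y (r v) = p (r v) := by rw [yr, hv, ← F.pr, ← F.pr, F.p3]
      have h := congrArg r (congrArg r (h1 _ this))
      rwa [F.r3, map_zero, map_zero] at h
    have hall : ∀ v : Y, v = 0 := by
      intro v
      have e0 : v + y v + y (y v) = 0 := hne _ (by rw [map_add, map_add, F.y3]; abel)
      have e1 : v + p (p (y v)) + p (y (y v)) = 0 := h1 _ (by
        rw [map_add, map_add, ← F.py, ← F.py, ← F.py, F.y3, map_add, map_add, F.p3]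
        abel)
      have e2 : v + p (y v) + p (p (y (y v))) = 0 := h2 _ (by
        rw [map_add, map_add, ← F.py, ← F.py, ← F.py, F.y3, map_add, map_add, map_add, map_add, F.p3, F.p3]
        abel)
      have h := congrArg₂ (· + ·) (congrArg₂ (· + ·) e0 e1) e2
      simp only [add_zero] at h
      rw [show v + y v + y (y v) + (v + p (p (y v)) + p (y (y v))) + (v + p (y v) + p (p (y (y v)))) =
        (v + v) + v + (y v + p (y v) + p (p (y v))) + (y (y v) + p (y (y v)) + p (p (y (y v)))) by abel,
        F.two, F.sum3, F.sum3, zero_add, add_zero, add_zero] at h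
      exact h
    have : Subsingleton Y := ⟨fun a b => (hall a).trans (hall b).symm⟩
    have := F.card
    rw [Nat.card_of_subsingleton (0 : Y)] at this
    omega
  let κ : Y → K4 →+ Y := fun e => AddMonoidHom.mk'
    (fun a => (if a.1 = 0 then 0 else e) + (if a.2 = 0 then 0 else p e)) (by
      have sel : ∀ (u : Y) (k k' : ZMod 2),
          (if k + k' = 0 then 0 else u) = (if k = 0 then 0 else u) + (if k' = 0 then 0 else u) := by
        intro u k k'
        have cz : ∀ k : ZMod 2, k = 0 ∨ k = 1 := by decide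
        rcases cz k with rfl | rfl <;> rcases cz k' with rfl | rfl <;>
          simp [show (1 : ZMod 2) + 1 = 0 by decide, F.two]
      rintro ⟨a, b⟩ ⟨c, d⟩
      show (if a + c = 0 then 0 else e) + (if b + d = 0 then 0 else p e) = _
      rw [sel, sel]
      abel)
  have hκ : ∀ e a, κ e a = (if a.1 = 0 then 0 else e) + (if a.2 = 0 then 0 else p e) := fun _ _ => rfl
  have kp : ∀ e a, p (κ e a) = κ e (mw a) := by
    rintro e ⟨a, b⟩
    have cz : ∀ k : ZMod 2, k = 0 ∨ k = 1 := by decide
    rw [hκ, hκ]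
    rcases cz a with rfl | rfl <;> rcases cz b with rfl | rfl <;>
      simp [mw, show (1 : ZMod 2) + 1 = 0 by decide, F.pp, add_comm, F.two, add_assoc, add_left_comm]
  have kf : ∀ (f : Y →+ Y) (e e' : Y), f e = e' → f (p e) = p e' → ∀ a, f (κ e a) = κ e' a := by
    intro f e e' h h' a
    rw [hκ, hκ]
    split_ifs <;> simp [map_add, h, h']
  set f1 := r (r e) with hf1
  set f2 := r e with hf2
  have hy2 : y f2 = p (p f2) := by rw [hf2, yr, he]
  have hy1 : y f1 = p f1 := by
    rw [hf1, yr, hy2, ← F.pr, ← F.pr, F.p3]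
  let fst : V6 →+ K4 := AddMonoidHom.fst K4 (K4 × K4)
  let mid : V6 →+ K4 := (AddMonoidHom.fst K4 K4).comp (AddMonoidHom.snd K4 (K4 × K4))
  let last : V6 →+ K4 := (AddMonoidHom.snd K4 K4).comp (AddMonoidHom.snd K4 (K4 × K4))
  let θ : V6 →+ Y := (κ e).comp fst + (κ f1).comp mid + (κ f2).comp last
  have hθ : ∀ v, θ v = κ e v.1 + κ f1 v.2.1 + κ f2 v.2.2 := fun _ => rfl
  have hp : ∀ v, p (θ v) = θ (mP v) := fun v => by
    rw [hθ, hθ, map_add, map_add, kp, kp, kp]; rfl
  have ke : ∀ a, y (κ e a) = κ e a := kf y e e he (by rw [← F.py, he])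
  have k1 : ∀ a, y (κ f1 a) = κ f1 (mw a) := fun a => by
    rw [kf y f1 (p f1) hy1 (by rw [← F.py, hy1]) a, ← kp, kf p f1 (p f1) rfl rfl a]
  have k2 : ∀ a, y (κ f2 a) = κ f2 (mw (mw a)) := fun a => by
    rw [kf y f2 (p (p f2)) hy2 (by rw [← F.py, hy2]) a, ← kp, ← kp, kf p f2 (p f2) rfl rfl a,
      kf p (p f2) (p (p f2)) rfl rfl a]
  have hy : ∀ v, y (θ v) = θ (mY v) := fun v => by
    rw [hθ, hθ, map_add, map_add, ke, k1, k2]; rfl
  have hr : ∀ v, r (θ v) = θ (mR v) := fun v => by
    rw [hθ, hθ, map_add, map_add, kf r e f2 rfl (F.pr e).symm, kf r f1 e (F.r3 e) (by rw [← F.pr, hf1, F.r3]),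
      kf r f2 f1 rfl (F.pr _).symm]
    show κ f2 v.1 + κ e v.2.1 + κ f1 v.2.2 = κ e v.2.1 + κ f1 v.2.2 + κ f2 v.1
    abel
  have hzero : ∀ f, f ≠ 0 → ∀ a, κ f a = 0 → a = 0 := by
    rintro f hf ⟨a, b⟩ h
    have cz : ∀ k : ZMod 2, k = 0 ∨ k = 1 := by decide
    rw [hκ] at h
    rcases cz a with rfl | rfl <;> rcases cz b with rfl | rfl <;> simp at h
    · rfl
    · exact absurd (by
        have := congrArg p (congrArg p h)
        rwa [F.p3, map_zero, map_zero] at this) hf
    · exact absurd h hf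
    · exact absurd (F.pfix f (by
        calc p f = (f + f) + p f := by rw [F.two, zero_add]
          _ = f + (f + p f) := by abel
          _ = f := by rw [h, add_zero])) hf
  have hne1 : f2 ≠ 0 := fun h => he1 (by
    have := congrArg r (congrArg r h)
    rwa [hf2, F.r3, map_zero, map_zero] at this)
  have hne2 : f1 ≠ 0 := fun h => hne1 (by
    have := congrArg r (congrArg r h)
    rwa [hf1, F.r3, map_zero, map_zero] at this)
  have hinj : Function.Injective θ := by
    rw [injective_iff_map_eq_zero]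
    rintro ⟨a, b, c⟩ h
    have h1 := congrArg y h
    have h2 := congrArg y h1
    rw [map_zero] at h1
    rw [map_zero, map_zero] at h2
    simp only [hθ, map_add, ke, k1, k2] at h h1 h2
    rw [← kp, ← kp, ← kp] at h1
    rw [← kp, ← kp, ← kp, ← kp, ← kp, ← kp, F.p3] at h2
    set A := κ e a
    set B := κ f1 b
    set C := κ f2 c
    have hA : A = 0 := by
      have hs := congrArg₂ (· + ·) (congrArg₂ (· + ·) h h1) h2
      simp only [add_zero] at hs
      rw [show A + B + C + (A + p B + p (p C)) + (A + p (p B) + p C) =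
        (A + A) + A + (B + p B + p (p B)) + (C + p C + p (p C)) by abel, F.two, F.sum3, F.sum3,
        zero_add, add_zero, add_zero] at hs
      exact hs
    rw [hA, zero_add] at h h1
    have hBC : B = C := by
      calc B = B + (C + C) := by rw [F.two, add_zero]
        _ = (B + C) + C := by abel
        _ = C := by rw [h, zero_add]
    rw [hBC, F.pp] at h1
    have hC : C = 0 := by
      rw [show p C + (C + p C) = C + (p C + p C) by abel, F.two, add_zero] at h1
      exact h1
    have := hzero _ he1 _ hA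
    have := hzero _ hne2 _ (hBC.trans hC)
    have := hzero _ hne1 _ hC
    simp_all
  refine ⟨θ, (Nat.bijective_iff_injective_and_card _).2 ⟨hinj, ?_⟩, hp, hy, hr⟩
  rw [F.card]
  simp

section Orbits

variable {Γ : Type*} [Group Γ] [DistribMulAction Γ Y] [Finite Y] [Finite Γ]

attribute [local instance] Fintype.ofFinite

/-- The orbits: eighteen vectors without lines and the other forty-five. -/
theorem exists_small (gp gy gr gl : Γ) (F : Frame p y r) (hgp : ∀ v, gp • v = p v)
    (hgy : ∀ v, gy • v = y v) (hgr : ∀ v, gr • v = r v) (hl : gl ^ 5 = 1)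
    (hlp : ∀ v, gl • p v = p (gl • v)) (hfix : Nat.card {v : Y // gl • v = v} = 4)
    (h7 : ¬ 7 ∣ Nat.card Γ) :
    ∃ w : Y, w ≠ 0 ∧ (MulAction.orbit Γ w).ncard = 18 ∧
      (∀ v, v ≠ 0 → v ∉ MulAction.orbit Γ w → (MulAction.orbit Γ v).ncard = 45 ∧
        ∀ u, u ≠ 0 → u ∉ MulAction.orbit Γ w → u ∈ MulAction.orbit Γ v) ∧
      ∀ x ∈ MulAction.orbit Γ w, ∀ u ∈ MulAction.orbit Γ w, x + u ∈ MulAction.orbit Γ w →
        u = p x ∨ u = p (p x) := by
  classical
  obtain ⟨θ, hb, hP, hY, hR⟩ := F.exists_coords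
  obtain ⟨f, hf, hf0⟩ : ∃ f : Y, gl • f = f ∧ f ≠ 0 := by
    haveI : Nontrivial {v : Y // gl • v = v} :=
      Finite.one_lt_card_iff_nontrivial.1 (by rw [hfix]; norm_num)
    obtain ⟨⟨f, hf⟩, h⟩ := exists_ne (⟨0, smul_zero gl⟩ : {v : Y // gl • v = v})
    exact ⟨f, hf, fun e => h (Subtype.ext e)⟩
  have hne0 : ∀ {w v : Y}, w ≠ 0 → v ∈ MulAction.orbit Γ w → v ≠ 0 := by
    rintro w v hw ⟨g, rfl⟩ h
    exact hw ((smul_eq_zero_iff_eq g).1 h)
  have hstep : ∀ (w : Y) (v : V6), θ v ∈ MulAction.orbit Γ w → θ (mP v) ∈ MulAction.orbit Γ w ∧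
      θ (mY v) ∈ MulAction.orbit Γ w ∧ θ (mR v) ∈ MulAction.orbit Γ w := by
    intro w v hv
    refine ⟨?_, ?_, ?_⟩
    · rw [← hP, ← hgp]; exact MulAction.mem_orbit_of_mem_orbit gp hv
    · rw [← hY, ← hgy]; exact MulAction.mem_orbit_of_mem_orbit gy hv
    · rw [← hR, ← hgr]; exact MulAction.mem_orbit_of_mem_orbit gr hv
  have hword : ∀ (w : Y) (i j k : Fin 3) (v : V6), θ v ∈ MulAction.orbit Γ w →
      θ (mWord i j k v) ∈ MulAction.orbit Γ w := by
    intro w i j k v hv
    fin_cases i <;> fin_cases j <;> fin_cases k <;>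
      simp only [mWord, Function.iterate_zero, Function.iterate_succ, Function.comp, id_eq] <;>
      repeat' first | exact hv | refine (hstep w _ ?_).1 | refine (hstep w _ ?_).2.1 | refine (hstep w _ ?_).2.2
  have hwordinv : ∀ (w : Y) (i j k : Fin 3) (v : V6), θ (mWord i j k v) ∈ MulAction.orbit Γ w →
      θ v ∈ MulAction.orbit Γ w := by
    intro w i j k v hv
    have hg : θ (mWord i j k v) = (gp ^ i.val * gy ^ j.val * gr ^ k.val) • θ v := by
      fin_cases i <;> fin_cases j <;> fin_cases k <;>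
        simp [mWord, Function.iterate_succ, Function.comp, pow_two, mul_smul, hgp, hgy, hgr, hP, hY, hR]
    rw [hg] at hv
    have := MulAction.mem_orbit_of_mem_orbit (gp ^ i.val * gy ^ j.val * gr ^ k.val)⁻¹ hv
    rwa [inv_smul_smul] at this
  let mask : Y → Fin 5 → Bool := fun w c => decide (θ (rep c) ∈ MulAction.orbit Γ w)
  have hmem : ∀ w (v : V6), v ≠ 0 → (θ v ∈ MulAction.orbit Γ w ↔ mask w (cls v) = true) := by
    intro w v hv
    obtain ⟨i, j, k, e⟩ := cls_word v hv
    simp only [mask, decide_eq_true_eq]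
    constructor
    · intro h; rw [← e] at h; exact hwordinv w i j k _ h
    · intro h; rw [← e]; exact hword w i j k _ h
  have hcard : ∀ w, w ≠ 0 → (MulAction.orbit Γ w).ncard = size (mask w) := by
    intro w hw
    rw [← card_mask (mask w)]
    have : MulAction.orbit Γ w = θ '' ↑(Finset.univ.filter fun v : V6 => v ≠ 0 ∧ mask w (cls v) = true) := by
      ext u
      obtain ⟨v, rfl⟩ := hb.2 u
      rw [hb.1.mem_set_image, Finset.mem_coe, Finset.mem_filter]
      constructor
      · intro h
        have hv : v ≠ 0 := fun e => hne0 hw h (by rw [e, map_zero])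
        exact ⟨Finset.mem_univ _, hv, (hmem w v hv).1 h⟩
      · rintro ⟨-, hv, h⟩; exact (hmem w v hv).2 h
    rw [this, Set.ncard_image_of_injective _ hb.1, Set.ncard_coe_finset]
  have hpf : ∀ v : Y, gl • v = v → v = 0 ∨ v = f ∨ v = p f ∨ v = p (p f) := by
    intro v hv
    by_contra hne
    push Not at hne
    have hsub : ({0, f, p f, p (p f), v} : Finset Y) ⊆ Finset.univ.filter (fun v => gl • v = v) := by
      intro u hu
      simp only [Finset.mem_insert, Finset.mem_singleton] at hu
      simp only [Finset.mem_filter, Finset.mem_univ, true_and]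
      rcases hu with rfl | rfl | rfl | rfl | rfl
      exacts [smul_zero gl, hf, by rw [hlp, hf], by rw [hlp, hlp, hf], hv]
    have hinj : Function.Injective p := fun a b h => by
      have := congrArg p (congrArg p h)
      rwa [F.p3, F.p3] at this
    have h1 : f ≠ p f := fun e => hf0 (F.pfix f e.symm)
    have h2 : p f ≠ p (p f) := fun e => h1 (hinj e)
    have h3 : f ≠ p (p f) := fun e => h1 (by
      have := congrArg p e
      rw [F.p3] at this
      exact this.symm)
    have hp0 : p f ≠ 0 := fun e => hf0 (hinj (by rw [e, map_zero]))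
    have hpp0 : p (p f) ≠ 0 := fun e => hp0 (hinj (by rw [e, map_zero]))
    have := Finset.card_le_card hsub
    rw [Finset.card_insert_of_notMem (by simp [hf0.symm, hp0.symm, hpp0.symm, hne.1.symm]),
      Finset.card_insert_of_notMem (by simp [h1, h3, hne.2.1.symm]),
      Finset.card_insert_of_notMem (by simp [h2, hne.2.2.1.symm]),
      Finset.card_insert_of_notMem (by simp [hne.2.2.2.symm]), Finset.card_singleton,
      ← Fintype.card_subtype, ← Nat.card_eq_fintype_card, hfix] at this
    omega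
  haveI : Fact (Nat.Prime 5) := ⟨Nat.prime_five⟩
  have hpgrp : IsPGroup 5 ↥(Subgroup.zpowers gl) := by
    have hd : orderOf gl ∣ 5 ^ 1 := orderOf_dvd_of_pow_eq_one (by rw [pow_one]; exact hl)
    obtain ⟨i, -, hi⟩ := (Nat.dvd_prime_pow Nat.prime_five).1 hd
    exact IsPGroup.of_card (n := i) (by rw [Nat.card_zpowers, hi])
  have hmod : ∀ w : Y, (MulAction.orbit Γ w).ncard ≡
      {v : Y | v ∈ MulAction.orbit Γ w ∧ gl • v = v}.ncard [MOD 5] := by
    intro w
    rw [← Nat.card_coe_set_eq, ← Nat.card_coe_set_eq]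
    refine (hpgrp.card_modEq_card_fixedPoints (MulAction.orbit Γ w)).trans ?_
    refine (congrArg (· % 5) (?_ : Nat.card _ = Nat.card _)).symm
    refine Nat.card_congr
      { toFun := fun v => ⟨⟨v.1, v.2.1⟩, fun g => Subtype.ext ?_⟩
        invFun := fun v => ⟨v.1.1, v.1.2, congrArg Subtype.val (v.2 ⟨gl, Subgroup.mem_zpowers gl⟩)⟩
        left_inv := fun _ => rfl
        right_inv := fun _ => rfl }
    show (g : Γ) • v.1 = v.1
    have hle : Subgroup.zpowers gl ≤ MulAction.stabilizer Γ v.1 := Subgroup.zpowers_le.2 v.2.2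
    exact hle g.2
  set O := MulAction.orbit Γ f with hO
  have hpO : p f ∈ O ∧ p (p f) ∈ O := by
    constructor
    · rw [← hgp]; exact MulAction.mem_orbit f gp
    · rw [← hgp, ← hgp]; exact MulAction.mem_orbit_of_mem_orbit gp (MulAction.mem_orbit f gp)
  have hinjp : Function.Injective p := fun a b h => by
    have := congrArg p (congrArg p h)
    rwa [F.p3, F.p3] at this
  have h3 : {v | v ∈ O ∧ gl • v = v}.ncard = 3 := by
    have e : {v | v ∈ O ∧ gl • v = v} = {f, p f, p (p f)} := by
      ext v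
      simp only [Set.mem_setOf_eq, Set.mem_insert_iff, Set.mem_singleton_iff]
      constructor
      · rintro ⟨hv, hl'⟩
        rcases hpf v hl' with h | h
        · exact absurd h (hne0 hf0 hv)
        · exact h
      · rintro (rfl | rfl | rfl)
        · exact ⟨MulAction.mem_orbit_self _, hf⟩
        · exact ⟨hpO.1, by rw [hlp, hf]⟩
        · exact ⟨hpO.2, by rw [hlp, hlp, hf]⟩
    have h1 : f ≠ p f := fun e => hf0 (F.pfix f e.symm)
    have h2 : p f ≠ p (p f) := fun e => h1 (hinjp e)
    have h3 : f ≠ p (p f) := fun e => h1 (by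
      have := congrArg p e
      rw [F.p3] at this
      exact this.symm)
    rw [e, Set.ncard_eq_three]
    exact ⟨f, p f, p (p f), h1, h3, h2, rfl⟩
  have hO5 : size (mask f) % 5 = 3 := by
    have := hmod f
    rw [← hO, h3, hcard f hf0] at this
    exact this
  have hO7 : ¬ 7 ∣ size (mask f) := fun h => h7 (h.trans (by
    rw [← hcard f hf0, ← Nat.card_coe_set_eq, Nat.card_congr (MulAction.orbitEquivQuotientStabilizer Γ f),
      ← Subgroup.index_eq_card]
    exact Subgroup.index_dvd_card _))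
  obtain ⟨h18, h4, hother⟩ := small_mask (mask f) hO5 hO7
  refine ⟨f, hf0, by rw [hcard f hf0, h18], fun v hv hvO => ?_, ?_⟩
  · have hdis : ∀ i, mask f i = true → mask v i = false := by
      intro i hi
      simp only [mask, decide_eq_true_eq, decide_eq_false_iff_not] at hi ⊢
      intro hi'
      have := MulAction.mem_orbit_symm.1 hi'
      exact hvO ((MulAction.orbit_eq_iff.2 hi).symm ▸ this)
    have hv0 : size (mask v) ≠ 0 := by
      rw [← hcard v hv]
      exact ((Set.ncard_pos (Set.toFinite _)).2 ⟨v, MulAction.mem_orbit_self v⟩).ne'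
    have hv5 : size (mask v) % 5 = 0 := by
      have := hmod v
      rw [hcard v hv] at this
      have he : {u | u ∈ MulAction.orbit Γ v ∧ gl • u = u} = ∅ := by
        rw [Set.eq_empty_iff_forall_notMem]
        rintro u ⟨hu, hu'⟩
        have huO : u ∈ O := by
          rcases hpf u hu' with h | rfl | rfl | rfl
          · exact absurd h (hne0 hv hu)
          · exact MulAction.mem_orbit_self _
          · exact hpO.1
          · exact hpO.2
        exact hvO ((MulAction.orbit_eq_iff.2 huO) ▸ MulAction.mem_orbit_symm.1 hu)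
      rw [he, Set.ncard_empty] at this
      exact this
    obtain ⟨h45, hfull⟩ := hother (mask v) hdis hv0 hv5
    refine ⟨by rw [hcard v hv, h45], fun u hu huO => ?_⟩
    obtain ⟨u, rfl⟩ := hb.2 u
    have hu0 : u ≠ 0 := fun e => hu (by rw [e, map_zero])
    rw [hmem v u hu0]
    refine hfull _ ?_
    rw [Bool.eq_false_iff]
    exact fun h => huO ((hmem f u hu0).2 h)
  · intro x hx u hu hxu
    obtain ⟨x, rfl⟩ := hb.2 x
    obtain ⟨u, rfl⟩ := hb.2 u
    have hx0 : x ≠ 0 := fun e => hne0 hf0 hx (by rw [e, map_zero])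
    have hu0 : u ≠ 0 := fun e => hne0 hf0 hu (by rw [e, map_zero])
    rw [← map_add] at hxu
    have hs0 : x + u ≠ 0 := fun e => hne0 hf0 hxu (by rw [e, map_zero])
    have hmx := (hmem f x hx0).1 hx
    have hmu := (hmem f u hu0).1 hu
    have hms := (hmem f _ hs0).1 hxu
    have h2 : ∀ m : Fin 5 → Bool, size m = 18 → m 4 = false → ∀ a b c, m a = true → m b = true →
        m c = true → a ≠ 4 ∧ b ≠ 4 ∧ (c = a ∨ c = b ∨ a = b) := by decide +kernel
    obtain ⟨ha, hb', hc⟩ := h2 (mask f) h18 h4 _ _ _ hmx hmu hms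
    rw [hP, hP]
    rcases hc with hc | hc | hc
    · rcases no_line x u hx0 ha hu0 hb' hs0 (Or.inl hc) with h | h <;> rw [h] <;> tauto
    · rcases no_line x u hx0 ha hu0 hb' hs0 (Or.inr hc) with h | h <;> rw [h] <;> tauto
    · have hc4 : cls (x + u) ≠ 4 := fun e => by rw [e, h4] at hms; exact Bool.noConfusion hms
      have hxs : x + (x + u) = u := by
        rw [← add_assoc]
        have : ∀ v : V6, v + v = 0 := fun v => by
          have : ∀ k : K4, k + k = 0 := by decide
          exact Prod.ext (this _) (Prod.ext (this _) (this _))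
        rw [this, zero_add]
      rcases no_line x (x + u) hx0 ha hs0 hc4 (by rw [hxs]; exact hu0)
        (Or.inl (by rw [hxs]; exact hc.symm)) with h | h
      · right
        rw [← hxs, h]
        have : ∀ k : K4, k + mw k = mw (mw k) := by decide
        exact congrArg θ (Prod.ext (this _) (Prod.ext (this _) (this _)))
      · left
        rw [← hxs, h]
        have : ∀ k : K4, k + mw (mw k) = mw k := by decide
        exact congrArg θ (Prod.ext (this _) (Prod.ext (this _) (this _)))

end Orbits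

end CfsgLib.J4Eleven.Frame27
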