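import Cfsg.Agent.J4Local.Eleven.Coset

/-!
The two classes under the normaliser of the non-central elements of the fixed subgroup.
-/

set_option autoImplicit false
set_option maxRecDepth 100000
set_option linter.style.haveILetI false
set_option linter.unusedSectionVars false

namespace CfsgLib.J4Eleven

open CfsgLib.J4Local CfsgLib.J4Local.M22Elem CfsgLib.J4Local.FixMod

variable {G : Type*} [Group G] [Finite G] {z : G} {P : Subgroup G}

/-- Conjugate under an element of a subgroup. -/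
def MovedBy (N : Subgroup G) (a b : G) : Prop := ∃ g ∈ N, g * a * g⁻¹ = b

theorem MovedBy.symm {N : Subgroup G} {a b : G} (h : MovedBy N a b) : MovedBy N b a := by
  obtain ⟨g, hg, rfl⟩ := h
  exact ⟨g⁻¹, inv_mem hg, by group⟩

theorem MovedBy.trans {N : Subgroup G} {a b c : G} (h : MovedBy N a b) (h' : MovedBy N b c) : MovedBy N a c := by
  obtain ⟨g, hg, rfl⟩ := h
  obtain ⟨g', hg', rfl⟩ := h'
  exact ⟨g' * g, mul_mem hg' hg, by group⟩

theorem MovedBy.refl {N : Subgroup G} (a : G) : MovedBy N a a := ⟨1, one_mem N, by group⟩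

theorem MovedBy.isConj {N : Subgroup G} {a b : G} (h : MovedBy N a b) : IsConj a b :=
  isConj_iff.2 ⟨h.choose, h.choose_spec.2⟩

/-- The small class. -/
structure SmallSet (hJ : Cfsg.IsOfJankoFourTypeWith z P) (A : Subgroup M) (p : G) (T : Set G) : Prop where
  p_mem : p ∈ P
  p_ne : p ≠ 1
  sub : ∀ x ∈ T, x ∈ fixA hJ A ∧ x ∉ Subgroup.zpowers z
  card : T.ncard = 36
  z_closed : ∀ x ∈ T, x * z ∈ T
  p_closed : ∀ x ∈ T, p * x * p⁻¹ ∈ T
  trans : ∀ x ∈ T, ∀ y ∈ T, MovedBy (Subgroup.normalizer (vZero hJ A : Set G) ⊓ cH z) x y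
  big : ∀ x ∈ fixA hJ A, ∀ y ∈ fixA hJ A, x ∉ Subgroup.zpowers z → y ∉ Subgroup.zpowers z → x ∉ T → y ∉ T →
    MovedBy (Subgroup.normalizer (vZero hJ A : Set G) ⊓ cH z) x y
  stable : ∀ g ∈ pre hJ (Subgroup.normalizer (A : Set M)), ∀ x ∈ T, g * x * g⁻¹ ∈ T
  line : ∀ x ∈ T, ∀ u ∈ T, x * u ∈ T →
    (p * x * p⁻¹)⁻¹ * u ∈ Subgroup.zpowers z ∨ (p * (p * x * p⁻¹) * p⁻¹)⁻¹ * u ∈ Subgroup.zpowers z
  moved : ∀ x ∈ T, (p * x * p⁻¹)⁻¹ * x ∉ Subgroup.zpowers z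

variable (hJ : Cfsg.IsOfJankoFourTypeWith z P) {A : Subgroup M} {s : M} (hA : Hexad A s)

include hJ hA

theorem moved_z {x : G} (hx : x ∈ fixA hJ A) (hxz : x ∉ Subgroup.zpowers z) :
    MovedBy (Subgroup.normalizer (vZero hJ A : Set G) ⊓ cH z) x (x * z) := by
  obtain ⟨e, he, h⟩ := CfsgLib.Extra2.exists_conj_mul (gen_E hJ) (fixA_le hJ A hx)
    (fun e => hxz (e ▸ one_mem _)) (fun e => hxz (e ▸ Subgroup.mem_zpowers z))
  exact ⟨e, Subgroup.mem_inf.2 ⟨E_le_normalizer_vZero hJ hA he, E_le_H he⟩, h⟩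

theorem exists_smallSet : ∃ (p : G) (T : Set G), SmallSet hJ A p T := by
  classical
  haveI : Fact (Nat.Prime 5) := ⟨Nat.prime_five⟩
  obtain ⟨p, y, r, hpP, hp1, hp3, hy3, hr3, hyN, hrN, hry, -⟩ := exists_frame27 hJ hA
  set Γ := pre hJ (Subgroup.normalizer (A : Set M)) with hΓ
  have hΓA : Γ ≤ preA hJ A := pre_le_preA hJ A
  obtain ⟨n1, n2, -, -⟩ := preA_le_norms hJ hA
  have hpΓ : p ∈ Γ := P_le_pre hJ _ hpP
  have hpy : p * y = y * p := K_central hJ (P_le_K hJ hpP) (pre_le hJ _ hyN)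
  have hpr : p * r = r * p := K_central hJ (P_le_K hJ hpP) (pre_le hJ _ hrN)
  set S := sX hJ hA with hS
  letI := S.action Γ (hΓA.trans n1) (hΓA.trans n2)
  have F := S.frame hp3 hy3 hr3 hpy hpr hry (n1 (hΓA hpΓ)) (n2 (hΓA hpΓ)) (n1 (hΓA hyN)) (n2 (hΓA hyN))
    (n1 (hΓA hrN)) (n2 (hΓA hrN)) (fix_sX hJ hA hpP hp1) (card_sX hJ hA)
  obtain ⟨l, hl, hl5, hls⟩ := exists_five hJ hA.first.five
  have hlΓ : l ∈ Γ := (mem_pre hJ).2 ⟨hl, by rw [hls]; exact hA.first.five_mem⟩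
  have hlp : IsPGroup 5 ↥(Subgroup.zpowers l) :=
    IsPGroup.of_card (n := 1) (by rw [Nat.card_zpowers, pow_one, orderOf_five hJ hl hl5 hA.first.five hls])
  have hfix : Nat.card {v : S.Q // (⟨l, hlΓ⟩ : ↥Γ) • v = v} = 4 := by
    have h := S.card_image (W := fixA hJ A ⊓ Subgroup.centralizer ({l} : Set G)) inf_le_left
      (le_inf (Subgroup.zpowers_le.2 (z_mem_fixA hJ A)) (Subgroup.zpowers_le.2
        (Subgroup.mem_centralizer_singleton_iff.2 (mem_cH.1 hl.1).symm)))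
    rw [show Nat.card S.K = 2 from card_zpowers_z hJ, card_fixA_inf_five hJ hA.first hl hl5 hls] at h
    have h4 : Nat.card {v : S.Q // (⟨l, hlΓ⟩ : ↥Γ) • v = v} * 2 = 8 := by
      refine Eq.trans ?_ h
      congr 1
      refine Nat.card_congr (Equiv.subtypeEquivRight fun q => ⟨?_, ?_⟩)
      · intro hq
        obtain ⟨d, hd, rfl⟩ := S.exists_mk q
        have hd' : l * d * l⁻¹ * d⁻¹ ∈ Subgroup.zpowers z := by
          have h1 : (l * d * l⁻¹)⁻¹ * d ∈ S.K := (S.mk_eq _ _).1 hq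
          have h3 := (Subgroup.mem_normalizer_iff.1 (S.norm hd) _).1 (inv_mem h1)
          rwa [show d * ((l * d * l⁻¹)⁻¹ * d)⁻¹ * d⁻¹ = l * d * l⁻¹ * d⁻¹ by group] at h3
        have hfm : FixedMod (Subgroup.zpowers z) (Subgroup.zpowers l : Set G) d := by
          have hle : Subgroup.zpowers (⟨l, hlΓ⟩ : ↥Γ) ≤ MulAction.stabilizer ↥Γ (S.cls d hd) :=
            Subgroup.zpowers_le.2 hq
          intro g hg
          obtain ⟨i, rfl⟩ := hg
          have h1 : ((l ^ i) * d * (l ^ i)⁻¹)⁻¹ * d ∈ S.K := by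
            refine (S.mk_eq ((Subgroup.mem_normalizer_iff.1
              (n1 (hΓA (zpow_mem hlΓ i))) d).1 hd) hd).1 ?_
            exact hle (zpow_mem (Subgroup.mem_zpowers _) i)
          have h3 := (Subgroup.mem_normalizer_iff.1 (S.norm hd) _).1 (inv_mem h1)
          rwa [show d * ((l ^ i * d * (l ^ i)⁻¹)⁻¹ * d)⁻¹ * d⁻¹ = l ^ i * d * (l ^ i)⁻¹ * d⁻¹ by group] at h3
        obtain ⟨k, hk, hc⟩ := exists_fixed_mul hlp
          ((Subgroup.zpowers_le.2 hl.1).trans H_le_normalizer_z)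
          (by rw [card_zpowers_z hJ]; norm_num) hfm
        have hkX : k * d ∈ fixA hJ A := mul_mem (Subgroup.zpowers_le.2 (z_mem_fixA hJ A) hk) hd
        refine ⟨k * d, Subgroup.mem_inf.2 ⟨hkX, Subgroup.mem_centralizer_singleton_iff.2
          (Subgroup.mem_centralizer_iff.1 hc l (Subgroup.mem_zpowers l)).symm⟩, ?_⟩
        refine (S.mk_eq _ _).2 ?_
        show (k * d)⁻¹ * d ∈ Subgroup.zpowers z
        have h5 := (Subgroup.mem_normalizer_iff.1 (inv_mem (S.norm hd)) k⁻¹).1 (inv_mem hk)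
        have h6 : d⁻¹ * k⁻¹ * d⁻¹⁻¹ ∈ Subgroup.zpowers z := h5
        simpa [mul_assoc] using h6
      · rintro ⟨w, hw, rfl⟩
        exact S.mk_congr _ _ (show l * w * l⁻¹ = w by
          rw [← Subgroup.mem_centralizer_singleton_iff.1 (Subgroup.mem_inf.1 hw).2, mul_inv_cancel_right])
    omega
  have h7 : ¬ 7 ∣ Nat.card ↥Γ := by
    rw [hΓ, card_pre, (nA_facts hA).2.1]; norm_num
  have hlp' : ∀ v, (⟨l, hlΓ⟩ : ↥Γ) • (S.act p (n1 (hΓA hpΓ)) (n2 (hΓA hpΓ))) v =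
      S.act p (n1 (hΓA hpΓ)) (n2 (hΓA hpΓ)) ((⟨l, hlΓ⟩ : ↥Γ) • v) := by
    intro v
    obtain ⟨d, hd, rfl⟩ := S.exists_mk v
    have hpl : p * l = l * p := K_central hJ (P_le_K hJ hpP) hl
    exact S.mk_congr _ _ (show l * (p * d * p⁻¹) * l⁻¹ = p * (l * d * l⁻¹) * p⁻¹ by
      rw [show l * (p * d * p⁻¹) * l⁻¹ = (l * p) * d * (l * p)⁻¹ by group, ← hpl]; group)
  obtain ⟨w, hw0, h18, hbig, hline⟩ := Frame27.exists_small (⟨p, hpΓ⟩ : ↥Γ) ⟨y, hyN⟩ ⟨r, hrN⟩ ⟨l, hlΓ⟩ F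
    (fun _ => rfl) (fun _ => rfl) (fun _ => rfl) (Subtype.ext hl5) hlp' hfix h7
  set O := MulAction.orbit ↥Γ w with hO
  set T : Set G := {x | ∃ h : x ∈ S.D, S.cls x h ∈ O} with hT
  have h0O : ∀ q ∈ O, q ≠ 0 := by
    rintro q ⟨g, rfl⟩ h
    exact hw0 ((smul_eq_zero_iff_eq g).1 h)
  have hnz : ∀ x ∈ T, x ∉ Subgroup.zpowers z := by
    rintro x ⟨hx, hq⟩ hz'
    exact h0O _ hq ((S.mk_eq_zero hx).2 hz')
  have hz : ∀ x ∈ T, x * z ∈ T := by
    rintro x ⟨hx, hq⟩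
    have hzD : z ∈ S.D := z_mem_fixA hJ A
    refine ⟨mul_mem hx hzD, ?_⟩
    rw [S.mk_mul hx hzD, (S.mk_eq_zero hzD).2 (Subgroup.mem_zpowers z), add_zero]
    exact hq
  have hstable : ∀ g ∈ Γ, ∀ x ∈ T, g * x * g⁻¹ ∈ T := by
    rintro g hg x ⟨hx, hq⟩
    exact ⟨_, MulAction.mem_orbit_of_mem_orbit (⟨g, hg⟩ : ↥Γ) hq⟩
  have hNH : ∀ g ∈ Γ, g ∈ Subgroup.normalizer (vZero hJ A : Set G) ⊓ cH z := fun g hg =>
    Subgroup.mem_inf.2 ⟨preA_le_normalizer_vZero hJ hA (hΓA hg), preA_le_H hJ A (hΓA hg)⟩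
  have hlift : ∀ x x' : G, ∀ hx : x ∈ S.D, ∀ hx' : x' ∈ S.D, x' ∉ Subgroup.zpowers z →
      S.cls x' hx' ∈ MulAction.orbit ↥Γ (S.cls x hx) →
      MovedBy (Subgroup.normalizer (vZero hJ A : Set G) ⊓ cH z) x x' := by
    rintro x x' hx hx' hxz' ⟨g, hg⟩
    have h1 : ((g : G) * x * (g : G)⁻¹)⁻¹ * x' ∈ Subgroup.zpowers z := (S.mk_eq _ _).1 hg
    have h2 : MovedBy (Subgroup.normalizer (vZero hJ A : Set G) ⊓ cH z) x ((g : G) * x * (g : G)⁻¹) :=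
      ⟨g, hNH g g.2, rfl⟩
    rcases (CfsgLib.Extra2.mem_zpowers_iff (z_sq hJ)).1 h1 with h | h
    · exact inv_mul_eq_one.1 h ▸ h2
    · have e : x' = (g : G) * x * (g : G)⁻¹ * z := inv_mul_eq_iff_eq_mul.1 h
      have e' : x' * z = (g : G) * x * (g : G)⁻¹ := by rw [e, mul_assoc, z_sq hJ, mul_one]
      exact h2.trans (e' ▸ (moved_z hJ hA hx' hxz').symm)
  refine ⟨p, T, hpP, hp1, fun x hx => ⟨hx.choose, hnz x hx⟩, ?_, hz, fun x hx => hstable p hpΓ x hx, ?_, ?_,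
    hstable, ?_, ?_⟩
  · let f : S.Q → G := fun q => (S.exists_mk q).choose
    have hf : ∀ q, ∃ h : f q ∈ S.D, S.cls (f q) h = q := fun q => (S.exists_mk q).choose_spec
    have hinj : Function.Injective f := fun a b h => by
      obtain ⟨ha, ha'⟩ := hf a
      obtain ⟨hb, hb'⟩ := hf b
      rw [← ha', ← hb']
      exact S.mk_congr _ _ h
    have e : T = f '' O ∪ (fun q => f q * z) '' O := by
      ext x
      constructor
      · rintro ⟨hx, hq⟩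
        obtain ⟨hfD, hf'⟩ := hf (S.cls x hx)
        rcases (CfsgLib.Extra2.mem_zpowers_iff (z_sq hJ)).1 ((S.mk_eq hfD hx).1 hf') with h | h
        · exact Or.inl ⟨_, hq, inv_mul_eq_one.1 h⟩
        · exact Or.inr ⟨_, hq, (inv_mul_eq_iff_eq_mul.1 h).symm⟩
      · have hfT : ∀ q ∈ O, f q ∈ T := fun q hq => by
          obtain ⟨hfD, hf'⟩ := hf q
          exact ⟨hfD, by rw [hf']; exact hq⟩
        rintro (⟨q, hq, rfl⟩ | ⟨q, hq, rfl⟩)
        · exact hfT q hq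
        · exact hz _ (hfT q hq)
    rw [e, Set.ncard_union_eq ?_ (Set.toFinite _) (Set.toFinite _), Set.ncard_image_of_injective _ hinj,
      Set.ncard_image_of_injective _ fun a b h => hinj (mul_right_cancel h), h18]
    rw [Set.disjoint_left]
    rintro _ ⟨q, -, rfl⟩ ⟨q', -, h⟩
    obtain ⟨ha, ha'⟩ := hf q
    obtain ⟨hb, hb'⟩ := hf q'
    have hzD : z ∈ S.D := z_mem_fixA hJ A
    have : q' = q := by
      rw [← ha', ← hb', ← S.mk_congr (mul_mem hb hzD) ha h, S.mk_mul hb hzD,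
        (S.mk_eq_zero hzD).2 (Subgroup.mem_zpowers z), add_zero]
    rw [this] at h
    exact z_ne_one hJ (mul_eq_left.1 h)
  · rintro x ⟨hx, hq⟩ x' hx'T
    obtain ⟨hx', hq'⟩ := id hx'T
    refine hlift x x' hx hx' (hnz x' hx'T) ?_
    rw [MulAction.orbit_eq_iff.2 hq]
    exact hq'
  · intro x hx x' hx' hxz hxz' hxT hxT'
    have h0 : S.cls x hx ≠ 0 := fun h => hxz ((S.mk_eq_zero hx).1 h)
    have h0' : S.cls x' hx' ≠ 0 := fun h => hxz' ((S.mk_eq_zero hx').1 h)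
    refine hlift x x' hx hx' hxz' ((hbig _ h0 fun h => hxT ⟨hx, h⟩).2 _ h0' fun h => hxT' ⟨hx', h⟩)
  · rintro x ⟨hx, hq⟩ u ⟨hu, hqu⟩ ⟨hxu, hqxu⟩
    rw [S.mk_mul hx hu] at hqxu
    rcases hline _ hq _ hqu hqxu with h | h
    · exact Or.inl ((S.mk_eq _ _).1 h.symm)
    · exact Or.inr ((S.mk_eq _ _).1 h.symm)
  · rintro x ⟨hx, hq⟩ h
    exact h0O _ hq (F.pfix _ ((S.mk_eq _ _).2 h))

end CfsgLib.J4Eleven
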