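import Cfsg.Agent.J4Local.Eleven.Conf
import Cfsg.Agent.J4Local.Eleven.Small

/-!
Fusion in the standard elementary subgroup of order `2 ^ 11`.
-/

set_option autoImplicit false
set_option maxRecDepth 100000
set_option linter.style.haveILetI false
set_option linter.unusedSectionVars false

namespace CfsgLib.J4Eleven

open CfsgLib.J4Local CfsgLib.J4Local.M22Elem CfsgLib.J4Local.FixMod

attribute [local instance] Classical.propDecidable

variable {G : Type*} [Group G] [Finite G] {z : G} {P : Subgroup G}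

/-- The orbit of an element under a subgroup acting by conjugation. -/
theorem card_mul_card_centralizer (N : Subgroup G) (a : G) :
    {b : G | MovedBy N a b}.ncard * Nat.card ↥(N ⊓ Subgroup.centralizer ({a} : Set G)) = Nat.card ↥N := by
  letI : MulAction N G := MulAction.compHom G ((ConjAct.toConjAct (G := G)).toMonoidHom.comp N.subtype)
  have hsmul : ∀ (m : N) (b : G), m • b = (m : G) * b * (m : G)⁻¹ := fun m b => ConjAct.smul_def _ _
  have ho : {b : G | MovedBy N a b} = MulAction.orbit N a := by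
    ext b
    rw [MulAction.mem_orbit_iff, Set.mem_setOf_eq]
    constructor
    · rintro ⟨m, hm, rfl⟩; exact ⟨⟨m, hm⟩, hsmul _ _⟩
    · rintro ⟨m, rfl⟩; exact ⟨m, m.2, (hsmul m a).symm⟩
  have hs : Nat.card (MulAction.stabilizer N a) = Nat.card ↥(N ⊓ Subgroup.centralizer ({a} : Set G)) := by
    refine Nat.card_congr ⟨fun m => ⟨m.1.1, m.1.2, ?_⟩, fun m => ⟨⟨m.1, m.2.1⟩, ?_⟩, fun _ => rfl,
      fun _ => rfl⟩
    · have e := MulAction.mem_stabilizer_iff.1 m.2
      rw [hsmul] at e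
      exact Subgroup.mem_centralizer_singleton_iff.2 (mul_inv_eq_iff_eq_mul.1 e)
    · rw [MulAction.mem_stabilizer_iff, hsmul]
      exact mul_inv_eq_iff_eq_mul.2 (Subgroup.mem_centralizer_singleton_iff.1 m.2.2)
  rw [ho, ← Nat.card_coe_set_eq, Nat.card_congr (MulAction.orbitEquivQuotientStabilizer N a),
    ← Subgroup.index_eq_card, ← hs, mul_comm]
  exact Subgroup.card_mul_index _

variable (hJ : Cfsg.IsOfJankoFourTypeWith z P)

include hJ

/-- A 2-subgroup has at most one elementary subgroup of order `2 ^ 11`. -/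
theorem uniq_eleven {S : Subgroup G} (hS : IsPGroup 2 ↥S) {U W : Subgroup G} (hU : U ≤ S) (hW : W ≤ S)
    (hUsq : ∀ u ∈ U, u * u = 1) (hWsq : ∀ w ∈ W, w * w = 1) (hUc : Nat.card U = 2 ^ 11)
    (hWc : Nat.card W = 2 ^ 11) : W = U := by
  have elem : ∀ B : Subgroup G, (∀ b ∈ B, b * b = 1) → Cfsg.IsElementaryAbelian 2 B := fun B hB =>
    ⟨⟨⟨fun a b => Subtype.ext (CfsgLib.J4Local.comm_of_sq hB a.2 b.2)⟩⟩,
      fun b hb => by rw [pow_two]; exact hB b hb⟩
  obtain ⟨T, hT⟩ := hS.exists_le_sylow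
  exact (existsUnique_eleven hJ T).unique ⟨hW.trans hT, elem W hWsq, hWc⟩ ⟨hU.trans hT, elem U hUsq, hUc⟩

variable {A : Subgroup M} {s : M} (hA : Hexad A s)

include hA

theorem sq_vZero {v : G} (hv : v ∈ vZero hJ A) : v * v = 1 := by
  rw [← pow_two]; exact (elementary_vZero hJ hA.first).2 v hv

theorem inv_vZero {v : G} (hv : v ∈ vZero hJ A) : v⁻¹ = v := inv_eq_of_mul_eq_one_right (sq_vZero hJ hA hv)

theorem comm_vZero {v w : G} (hv : v ∈ vZero hJ A) (hw : w ∈ vZero hJ A) : v * w = w * v :=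
  CfsgLib.J4Local.comm_of_sq (fun _ h => sq_vZero hJ hA h) hv hw

theorem uniq_vZero (S : Subgroup G) (hS : IsPGroup 2 ↥S) (hV : vZero hJ A ≤ S) (W : Subgroup G) (hW : W ≤ S)
    (hWsq : ∀ w ∈ W, w * w = 1) (hWc : Nat.card W = 2 ^ 11) : W = vZero hJ A :=
  uniq_eleven hJ hS hV hW (fun _ h => sq_vZero hJ hA h) hWsq (card_vZero hJ hA.first) hWc

/-- The normaliser controls fusion. -/
theorem fusion_vZero {a b : G} (ha : a ∈ vZero hJ A) (hb : b ∈ vZero hJ A) (h : IsConj a b) :
    MovedBy (Subgroup.normalizer (vZero hJ A : Set G)) a b := by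
  obtain ⟨g, rfl⟩ := isConj_iff.1 h
  obtain ⟨m, hm, -, e⟩ := fusion_in_of (fun _ h => sq_vZero hJ hA h) (card_vZero hJ hA.first)
    (uniq_vZero hJ hA) (K := ⊤) le_top ha (g := g) (Subgroup.mem_top g) hb
  exact ⟨m, hm, e⟩

/-- The conjugates of `z` in the subgroup form one orbit of the normaliser. -/
theorem card_normalizer_eq :
    ((elems (vZero hJ A)).filter fun g => IsConj z g).card * (2 ^ 21 * 135) =
      Nat.card ↥(Subgroup.normalizer (vZero hJ A : Set G)) := by
  rw [← card_inf_normalizer hJ hA, ← card_mul_card_centralizer (Subgroup.normalizer (vZero hJ A : Set G)) z,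
    ← Set.ncard_coe_finset]
  congr 1
  congr 1
  ext b
  simp only [Finset.coe_filter, Set.mem_setOf_eq, mem_elems]
  constructor
  · rintro ⟨hb, hc⟩
    exact fusion_vZero hJ hA (z_mem_vZero hJ hA.first) hb hc
  · intro h
    obtain ⟨g, hg, rfl⟩ := h
    exact ⟨(Subgroup.mem_normalizer_iff.1 hg z).1 (z_mem_vZero hJ hA.first), isConj_iff.2 ⟨g, rfl⟩⟩

end CfsgLib.J4Eleven
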