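import Cfsg.Agent.J4Local.Eleven.Conf
import Cfsg.Agent.J4Local.Eleven.DuadHom

/-!
The configuration of the 276 involutions is that of the duads of 24 points.
-/

set_option autoImplicit false
set_option maxRecDepth 100000
set_option linter.style.haveILetI false
set_option linter.unusedSectionVars false

namespace CfsgLib.J4Eleven

open Subgroup

attribute [local instance] Classical.propDecidable

variable {G : Type*} [Group G] [Finite G] {z : G} {V : Subgroup G}

/-- The neighbours. -/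
noncomputable def nb (z : G) (V : Subgroup G) (t : G) : Finset G := (nS z V).filter fun u => t * u ∈ nS z V

/-- The non-neighbours. -/
noncomputable def zn (z : G) (V : Subgroup G) (t : G) : Finset G := (nS z V).filter fun u => IsConj z (t * u)

variable (C : Conf z V)

include C

theorem Conf.mul_cases {u w : G} (h1 : u ∈ nS z V) (h2 : w ∈ nS z V) :
    (w = u ∨ u * w ∈ nS z V ∨ IsConj z (u * w)) ∧ (IsConj z (u * w) → w ≠ u ∧ u * w ∉ nS z V) := by
  have huA := (mem_nS.1 h1).1
  have hwA := (mem_nS.1 h2).1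
  constructor
  · by_cases e : w = u
    · exact Or.inl e
    by_cases hz : IsConj z (u * w)
    · exact Or.inr (Or.inr hz)
    refine Or.inr (Or.inl (mem_nS.2 ⟨mul_mem huA hwA, fun e1 => e ?_, hz⟩))
    exact mul_left_cancel (e1.trans (C.sq _ huA).symm)
  · refine fun hz => ⟨fun e => ?_, fun h => (mem_nS.1 h).2.2 hz⟩
    rw [e, C.sq _ huA] at hz
    exact C.not_conj_one hz

theorem Conf.card_zn {t : G} (ht : t ∈ nS z V) : (zn z V t).card = 231 := by
  classical
  have hconst : ∀ a ∈ nS z V, ∀ b ∈ nS z V, (zn z V a).card = (zn z V b).card := by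
    intro a ha b hb
    obtain ⟨m, hm, rfl⟩ := C.nS_move ha hb
    refine Finset.card_bij' (fun u _ => m * u * m⁻¹) (fun u _ => m⁻¹ * u * m) ?_ ?_ ?_ ?_
    · intro u hu'
      rw [zn, Finset.mem_filter] at hu' ⊢
      exact ⟨(C.nS_map hm).2 hu'.1, by rw [conj_mul, conj_z_conj]; exact hu'.2⟩
    · intro u hu'
      rw [zn, Finset.mem_filter] at hu' ⊢
      refine ⟨by rw [← C.nS_map hm, show m * (m⁻¹ * u * m) * m⁻¹ = u by group]; exact hu'.1, ?_⟩
      rw [← conj_z_conj m, ← conj_mul, show m * (m⁻¹ * u * m) * m⁻¹ = u by group]; exact hu'.2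
    all_goals intro u _; group
  have hsum : ∑ t ∈ nS z V, (zn z V t).card =
      ∑ c ∈ (elems (V)).filter fun c => IsConj z c, ((nS z V).filter fun u => u * c ∈ nS z V).card := by
    rw [← Finset.card_sigma, ← Finset.card_sigma]
    refine Finset.card_bij' (fun p _ => ⟨p.1 * p.2, p.1⟩) (fun p _ => ⟨p.2, p.2 * p.1⟩) ?_ ?_ ?_ ?_
    · rintro ⟨a, b⟩ hp
      rw [Finset.mem_sigma, zn, Finset.mem_filter] at hp
      have hA := (mem_nS.1 hp.1).1
      refine Finset.mem_sigma.2 ⟨Finset.mem_filter.2 ⟨mem_elems.2 (mul_mem hA (mem_nS.1 hp.2.1).1), hp.2.2⟩,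
        Finset.mem_filter.2 ⟨hp.1, ?_⟩⟩
      show a * (a * b) ∈ nS z V
      rw [← mul_assoc, C.sq _ hA, one_mul]
      exact hp.2.1
    · rintro ⟨c, a⟩ hp
      simp only [Finset.mem_sigma, Finset.mem_filter, mem_elems] at hp
      refine Finset.mem_sigma.2 ⟨hp.2.1, Finset.mem_filter.2 ⟨hp.2.2, ?_⟩⟩
      rw [← mul_assoc, C.sq _ (mem_nS.1 hp.2.1).1, one_mul]
      exact hp.1.2
    · rintro ⟨a, b⟩ hp
      rw [Finset.mem_sigma] at hp
      simp [← mul_assoc, C.sq _ (mem_nS.1 hp.1).1]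
    · rintro ⟨c, a⟩ hp
      simp only [Finset.mem_sigma, Finset.mem_filter] at hp
      simp [← mul_assoc, C.sq _ (mem_nS.1 hp.2.1).1]
  rw [Finset.sum_const_nat (fun a ha => hconst a ha t ht),
    Finset.sum_const_nat (m := 36) (fun c hc => C.pairs (mem_elems.1 (Finset.mem_filter.1 hc).1)
      (Finset.mem_filter.1 hc).2), C.card_nS, C.count] at hsum
  omega

theorem Conf.card_nb {t : G} (ht : t ∈ nS z V) : (nb z V t).card = 44 := by
  classical
  have hA := (mem_nS.1 ht).1
  have h : nS z V = insert t (nb z V t ∪ zn z V t) := by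
    ext u
    simp only [Finset.mem_insert, Finset.mem_union, nb, zn, Finset.mem_filter]
    constructor
    · intro hu'
      rcases (C.mul_cases ht hu').1 with e | e | e
      exacts [Or.inl e, Or.inr (Or.inl ⟨hu', e⟩), Or.inr (Or.inr ⟨hu', e⟩)]
    · rintro (rfl | ⟨h, -⟩ | ⟨h, -⟩)
      exacts [ht, h, h]
  have hd : Disjoint (nb z V t) (zn z V t) := Finset.disjoint_left.2 fun u h1 h2 =>
    (mem_nS.1 (Finset.mem_filter.1 h1).2).2.2 (Finset.mem_filter.1 h2).2
  have hnot : t ∉ nb z V t ∪ zn z V t := by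
    simp only [Finset.mem_union, nb, zn, Finset.mem_filter, C.sq _ hA]
    rintro (⟨-, h⟩ | ⟨-, h⟩)
    exacts [(mem_nS.1 h).2.1 rfl, C.not_conj_one h]
  have := congrArg Finset.card h
  rw [Finset.card_insert_of_notMem hnot, Finset.card_union_of_disjoint hd, C.card_nS,
    C.card_zn ht] at this
  omega

/-- The number of non-edges in a neighbourhood. -/
theorem Conf.card_local {t : G} (ht : t ∈ nS z V) :
    ∑ u ∈ nb z V t, ((nb z V t).filter fun w => IsConj z (u * w)).card = 924 := by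
  classical
  let cnd : G → G → G → Prop := fun t u w => t * u ∈ nS z V ∧ t * w ∈ nS z V ∧ IsConj z (u * w)
  let f : G → ℕ := fun t => ((nS z V ×ˢ nS z V).filter fun p => cnd t p.1 p.2).card
  have hf : ∀ t, ∑ u ∈ nb z V t, ((nb z V t).filter fun w => IsConj z (u * w)).card = f t := by
    intro t
    rw [← Finset.card_sigma]
    refine Finset.card_bij' (fun p _ => (p.1, p.2)) (fun p _ => ⟨p.1, p.2⟩) ?_ ?_ (fun _ _ => rfl) (fun _ _ => rfl)
    · rintro ⟨u, w⟩ hp
      simp only [Finset.mem_sigma, nb, Finset.mem_filter, Finset.mem_product, cnd] at hp ⊢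
      exact ⟨⟨hp.1.1, hp.2.1.1⟩, hp.1.2, hp.2.1.2, hp.2.2⟩
    · rintro ⟨u, w⟩ hp
      simp only [Finset.mem_sigma, nb, Finset.mem_filter, Finset.mem_product, cnd] at hp ⊢
      exact ⟨⟨hp.1.1, hp.2.1⟩, ⟨hp.1.2, hp.2.2.1⟩, hp.2.2.2⟩
  have hconst : ∀ a ∈ nS z V, f a = f t := by
    intro a ha
    obtain ⟨m, hm, rfl⟩ := C.nS_move ha ht
    refine Finset.card_bij' (fun p _ => (m * p.1 * m⁻¹, m * p.2 * m⁻¹))
      (fun p _ => (m⁻¹ * p.1 * m, m⁻¹ * p.2 * m)) ?_ ?_ ?_ ?_
    · rintro ⟨u, w⟩ hp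
      simp only [Finset.mem_filter, Finset.mem_product, cnd, conj_mul, C.nS_map hm, conj_z_conj] at hp ⊢
      exact hp
    · rintro ⟨u, w⟩ hp
      have e : ∀ x : G, m * (m⁻¹ * x * m) * m⁻¹ = x := fun x => by group
      simp only [Finset.mem_filter, Finset.mem_product, cnd] at hp ⊢
      refine ⟨⟨?_, ?_⟩, ?_, ?_, ?_⟩
      · rw [← C.nS_map hm, e]; exact hp.1.1
      · rw [← C.nS_map hm, e]; exact hp.1.2
      · rw [← C.nS_map hm, ← conj_mul, e]; exact hp.2.1
      · rw [← C.nS_map hm, ← conj_mul, e]; exact hp.2.2.1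
      · rw [← conj_z_conj m, ← conj_mul, e, e]; exact hp.2.2.2
    all_goals rintro ⟨u, w⟩ _; exact Prod.ext (by group) (by group)
  have hsum : ∑ a ∈ nS z V, f a = 276 * 231 * 4 := by
    have e1 : ∀ a, f a = ∑ u ∈ nS z V, ∑ w ∈ zn z V u, if a * u ∈ nS z V ∧ a * w ∈ nS z V then 1 else 0 := by
      intro a
      show Finset.card _ = _
      rw [Finset.card_filter, Finset.sum_product]
      refine Finset.sum_congr rfl fun u _ => ?_
      rw [zn, Finset.sum_filter]
      refine Finset.sum_congr rfl fun w _ => ?_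
      by_cases h : IsConj z (u * w) <;> simp only [cnd, h, and_true, and_false, if_true, if_false]
    rw [Finset.sum_congr rfl fun a _ => e1 a, Finset.sum_comm,
      Finset.sum_const_nat (m := 231 * 4) fun u hu' => ?_, C.card_nS, mul_assoc]
    rw [Finset.sum_comm, Finset.sum_const_nat (m := 4) fun w hw => ?_, C.card_zn hu']
    rw [← Finset.card_filter]
    rw [zn, Finset.mem_filter] at hw
    convert (C.common hu' hw.1 hw.2).1 using 3
  rw [hf t]
  rw [Finset.sum_const_nat hconst, C.card_nS] at hsum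
  omega

theorem Conf.four_distinct {t u w : G} (ht : t ∈ V) (hu1 : u ≠ 1) (hw1 : w ≠ 1) (hne : u ≠ w)
    (huA : u ∈ V) (hwA : w ∈ V) :
    ({t, t * u, t * w, t * u * w} : Finset G).card = 4 := by
  have h1 : t ≠ t * u := fun e => hu1 (mul_eq_left.1 e.symm)
  have h2 : t ≠ t * w := fun e => hw1 (mul_eq_left.1 e.symm)
  have huw : u * w ≠ 1 := fun e => hne (mul_left_cancel ((C.sq _ huA).trans e.symm))
  have h3 : t ≠ t * u * w := fun e => huw (mul_eq_left.1 (by rw [← mul_assoc]; exact e.symm))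
  have h4 : t * u ≠ t * w := fun e => hne (mul_left_cancel e)
  have h5 : t * u ≠ t * u * w := fun e => hw1 (mul_eq_left.1 e.symm)
  have h6 : t * w ≠ t * u * w := fun e => hu1 (mul_right_cancel (b := w) (by
    rw [one_mul]; exact (mul_left_cancel (e.trans (mul_assoc _ _ _))).symm))
  rw [Finset.card_insert_of_notMem (by simp [h1, h2, h3]), Finset.card_insert_of_notMem (by simp [h4, h5]),
    Finset.card_insert_of_notMem (by simp [h6]), Finset.card_singleton]

theorem Conf.four_axiom {t u w : G} (h1 : t ∈ nS z V) (h2 : u ∈ nS z V) (h3 : w ∈ nS z V) (h4 : t * u ∈ nS z V)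
    (h5 : t * w ∈ nS z V) (hz : IsConj z (u * w)) : t * u * w ∈ nS z V ∧
      ∀ x ∈ nS z V, x * u ∈ nS z V → x * w ∈ nS z V → x = t ∨ x = t * u ∨ x = t * w ∨ x = t * u * w := by
  classical
  obtain ⟨hc, hmem⟩ := C.common h2 h3 hz
  have h7 := hmem t h1 h4 h5
  refine ⟨h7, ?_⟩
  have htA := (mem_nS.1 h1).1
  have huA := (mem_nS.1 h2).1
  have hwA := (mem_nS.1 h3).1
  have hne : u ≠ w := fun e => ((C.mul_cases h2 h3).2 hz).1 e.symm
  have uu : ∀ a : G, a * u * u = a := fun a => by rw [mul_assoc, C.sq _ huA, mul_one]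
  have ww : ∀ a : G, a * w * w = a := fun a => by rw [mul_assoc, C.sq _ hwA, mul_one]
  have swap : ∀ a : G, a * w * u = a * u * w := fun a => by
    rw [mul_assoc, mul_assoc, C.comm hwA huA]
  have hsub : ({t, t * u, t * w, t * u * w} : Finset G) ⊆
      (nS z V).filter fun x => x * u ∈ nS z V ∧ x * w ∈ nS z V := by
    intro x hx
    simp only [Finset.mem_insert, Finset.mem_singleton] at hx
    rw [Finset.mem_filter]
    rcases hx with rfl | rfl | rfl | rfl
    · exact ⟨h1, h4, h5⟩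
    · exact ⟨h4, by rw [uu]; exact h1, h7⟩
    · exact ⟨h5, by rw [swap]; exact h7, by rw [ww]; exact h1⟩
    · exact ⟨h7, by rw [← swap t, uu]; exact h5, by rw [ww]; exact h4⟩
  have heq := Finset.eq_of_subset_of_card_le hsub (by
    rw [hc, C.four_distinct htA (mem_nS.1 h2).2.1 (mem_nS.1 h3).2.1 hne huA hwA])
  intro x hx hxu hxw
  have hx' : x ∈ ({t, t * u, t * w, t * u * w} : Finset G) := by
    rw [heq]; exact Finset.mem_filter.2 ⟨hx, hxu, hxw⟩
  simpa only [Finset.mem_insert, Finset.mem_singleton] using hx'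

end CfsgLib.J4Eleven
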