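import Cfsg.Agent.J4Local.Eleven.Sigma

/-!
The images of the hexad subgroup of M₂₂ under automorphisms: two different ones are far apart.
-/

set_option autoImplicit false
set_option maxRecDepth 100000
set_option linter.style.haveILetI false
set_option linter.unusedSectionVars false

namespace CfsgLib.J4Eleven

open CfsgLib.J4Local CfsgLib.J4Local.M22Elem CfsgLib.J4Local.FixMod

variable {G : Type*} [Group G] [Finite G] {z : G} {P : Subgroup G}
variable (hJ : Cfsg.IsOfJankoFourTypeWith z P) {A : Subgroup M} {s : M} (hA : Hexad A s)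

include hJ hA

/-- No automorphism carries the first kind to the second. -/
theorem not_aut_second {B : Subgroup M} {t y : M} (hB : SecondKind B t y)
    (hf : ∃ (h : M) (k : ℕ), h * t * h⁻¹ = s ^ k) (α : MulAut M) : A.map α.toMonoidHom ≠ B := by
  intro e
  obtain ⟨⟨k, hk⟩, rfl⟩ := sig_surjective hJ α
  have hl : (liftTwo hJ A).map (MulAut.conj k).toMonoidHom ≤ liftTwo hJ B := by
    rw [Subgroup.map_le_iff_le_comap]
    refine (Subgroup.closure_le _).2 ?_
    rintro d ⟨hd, hd4⟩
    obtain ⟨hdC, hdA⟩ := (mem_pre hJ).1 hd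
    refine Subgroup.subset_closure ⟨(mem_pre hJ).2 ⟨conj_mem_C hJ hk hdC, ?_⟩, ?_⟩
    · show quo hJ ⟨k * d * k⁻¹, conj_mem_C hJ hk hdC⟩ ∈ B
      rw [← sig_apply hJ hk hdC, ← e]
      exact ⟨_, hdA, rfl⟩
    · show (k * d * k⁻¹) ^ 4 = 1
      rw [conj_pow, hd4, mul_one, mul_inv_cancel]
  have he : (liftTwo hJ A).map (MulAut.conj k).toMonoidHom = liftTwo hJ B :=
    Subgroup.eq_of_le_of_card_ge hl (by
      rw [Subgroup.card_map_of_injective (MulAut.conj k).injective, (liftTwo_spec hJ hA.first.card hA.first.exp).1,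
        (liftTwo_spec hJ hB.card hB.exp).1])
  have hle : (fixA hJ A).map (MulAut.conj k).toMonoidHom ≤ fixA hJ B := by
    rintro _ ⟨x, hx, rfl⟩
    obtain ⟨hxE, hxq⟩ := mem_fixE.1 hx
    refine mem_fixE.2 ⟨(Subgroup.mem_normalizer_iff.1 (H_le_normalizer_E hk.1) x).1 hxE, fun q hq => ?_⟩
    obtain ⟨c, hc, rfl⟩ := Subgroup.mem_map.1 (he.ge hq)
    have h := (Subgroup.mem_normalizer_iff.1 (H_le_normalizer_z hk.1) _).1 (hxq c hc)
    simpa [MulAut.conj_apply, mul_assoc] using h
  have h := Subgroup.card_le_of_le hle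
  rw [Subgroup.card_map_of_injective (MulAut.conj k).injective, card_fixA hJ hA.first] at h
  have := card_fixA_second hJ hA.first hB hf
  omega

/-- An elementary subgroup of order at least sixteen in a 2-group containing `A`. -/
theorem kinds {Q D : Subgroup M} (hQ : IsPGroup 2 ↥Q) (hAQ : A ≤ Q) (hDQ : D ≤ Q)
    (hDexp : ∀ d ∈ D, d * d = 1) (hDc : 16 ≤ Nat.card D) :
    (D = A ∨ ∃ (B : Subgroup M) (m : M), Nat.card ↥(A ⊓ B) ≤ 4 ∧ (∀ α : MulAut M, A.map α.toMonoidHom ≠ B) ∧
      A.map (MulAut.conj m).toMonoidHom = A ∧ D.map (MulAut.conj m).toMonoidHom = B) := by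
  haveI : Fact (Nat.Prime 2) := ⟨Nat.prime_two⟩
  obtain ⟨B, t, y, hB, hf, T, -, hT, hAB⟩ := hA.second
  obtain ⟨S, hS⟩ := hQ.exists_le_sylow
  obtain ⟨m, hm⟩ := MulAction.exists_smul_eq M S T
  have hmT : ∀ {U : Subgroup M}, U ≤ Q → U.map (MulAut.conj m).toMonoidHom ≤ (T : Subgroup M) := by
    rintro U hU _ ⟨u, hu, rfl⟩
    rw [← hm, Sylow.coe_subgroup_smul, Subgroup.mem_pointwise_smul_iff_inv_smul_mem]
    simpa [MulAut.smul_def, MulAut.conj_symm_apply, mul_assoc] using hS (hU hu)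
  have hexp : ∀ {U : Subgroup M}, (∀ u ∈ U, u * u = 1) → ∀ u ∈ U.map (MulAut.conj m).toMonoidHom, u * u = 1 := by
    rintro U hU _ ⟨u, hu, rfl⟩
    rw [← map_mul, hU u hu, map_one]
  have hinj : Function.Injective (MulAut.conj m).toMonoidHom := (MulAut.conj m).injective
  have hA' : A.map (MulAut.conj m).toMonoidHom = A := by
    refine (hT _ (hmT hAQ) (hexp hA.first.exp) ?_).resolve_right (not_aut_second hJ hA hB hf _)
    rw [Subgroup.card_map_of_injective hinj, hA.first.card]
  rcases hT _ (hmT hDQ) (hexp hDexp) (by rw [Subgroup.card_map_of_injective hinj]; exact hDc) with h | h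
  · exact Or.inl (Subgroup.map_injective hinj (h.trans hA'.symm))
  · exact Or.inr ⟨B, m, hAB, not_aut_second hJ hA hB hf, hA', h⟩

theorem exp_map (α : MulAut M) : ∀ a ∈ A.map α.toMonoidHom, a * a = 1 := by
  rintro _ ⟨a, ha, rfl⟩
  rw [← map_mul, hA.first.exp a ha, map_one]

omit hJ in
theorem isPGroup_hexad : IsPGroup 2 ↥A := IsPGroup.of_card (n := 4) (by rw [hA.first.card]; rfl)

/-- An image of `A` normalising `A` is `A`. -/
theorem eq_of_le_normalizer (α : MulAut M) (h : A.map α.toMonoidHom ≤ Subgroup.normalizer (A : Set M)) :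
    A.map α.toMonoidHom = A := by
  have hc : Nat.card ↥(A.map α.toMonoidHom) = 16 := by
    rw [Subgroup.card_map_of_injective α.injective, hA.first.card]
  have hQ : IsPGroup 2 ↥(A.map α.toMonoidHom ⊔ A) := by
    haveI : Fact (Nat.Prime 2) := ⟨Nat.prime_two⟩
    exact (IsPGroup.of_card (n := 4) (by rw [hc]; rfl)).to_sup_of_normal_right' (isPGroup_hexad hA) h
  rcases kinds hJ hA hQ le_sup_right le_sup_left (exp_map hJ hA α) hc.ge with e | ⟨B, m, -, hne, -, hB⟩
  · exact e
  · refine absurd ?_ (hne (MulAut.conj m * α))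
    rw [← hB, Subgroup.map_map]
    rfl

/-- An involution normalising `A` from outside centralises at most four of its elements. -/
theorem card_inf_centralizer_le {a' : M} (hn : a' ∈ Subgroup.normalizer (A : Set M)) (h2 : a' * a' = 1)
    (ha' : a' ∉ A) : Nat.card ↥(A ⊓ Subgroup.centralizer ({a'} : Set M)) ≤ 4 := by
  haveI : Fact (Nat.Prime 2) := ⟨Nat.prime_two⟩
  set F := A ⊓ Subgroup.centralizer ({a'} : Set M) with hF
  set D := F ⊔ Subgroup.zpowers a' with hD
  have hFn : F ≤ Subgroup.normalizer (Subgroup.zpowers a' : Set M) := fun f hf =>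
    Subgroup.centralizer_le_normalizer _ (Subgroup.mem_centralizer_iff.2 fun q hq => by
      obtain ⟨i, rfl⟩ := hq
      exact ((show Commute f a' from Subgroup.mem_centralizer_singleton_iff.1 hf.2).zpow_right i).eq.symm)
  have hz : ∀ {q}, q ∈ Subgroup.zpowers a' → q = 1 ∨ q = a' := fun hq =>
    (CfsgLib.Extra2.mem_zpowers_iff h2).1 hq
  have hDexp : ∀ d ∈ D, d * d = 1 := by
    intro d hd
    obtain ⟨f, hf, q, hq, rfl⟩ := (CfsgLib.Solvable.mem_sup_of_le_normalizer hFn).1 hd
    have hf1 := hA.first.exp f hf.1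
    rcases hz hq with rfl | rfl
    · rw [mul_one]; exact hf1
    · have hc : f * q = q * f := Subgroup.mem_centralizer_singleton_iff.1 hf.2
      calc f * q * (f * q) = f * (q * f) * q := by group
        _ = f * f * (q * q) := by rw [← hc]; group
        _ = 1 := by rw [hf1, h2, mul_one]
  have hdis : F ⊓ Subgroup.zpowers a' = ⊥ := by
    refine (Subgroup.eq_bot_iff_forall _).2 fun q hq => ?_
    rcases hz hq.2 with rfl | rfl
    · rfl
    · exact absurd hq.1.1 ha'
  have ha1 : a' ≠ 1 := fun e => ha' (e ▸ one_mem A)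
  have hDc : Nat.card D = Nat.card F * 2 := by
    rw [hD, CfsgLib.Solvable.card_sup_of_disjoint hFn hdis, Nat.card_zpowers,
      orderOf_eq_prime (by rw [pow_two, h2]) ha1]
  have hFc : Nat.card F ∣ 16 := hA.first.card ▸ Subgroup.card_dvd_of_le inf_le_left
  by_contra hlt
  have h8 : 8 ≤ Nat.card F := by
    obtain ⟨i, hi, e⟩ := (Nat.dvd_prime_pow Nat.prime_two).1 (show Nat.card F ∣ 2 ^ 4 from hFc)
    rw [e] at hlt ⊢
    interval_cases i <;> simp_all
  have hQ : IsPGroup 2 ↥(Subgroup.zpowers a' ⊔ A) :=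
    (IsPGroup.of_card (n := 1) (by rw [Nat.card_zpowers, orderOf_eq_prime (by rw [pow_two, h2]) ha1, pow_one])).to_sup_of_normal_right'
      (isPGroup_hexad hA) (Subgroup.zpowers_le.2 hn)
  rcases kinds hJ hA hQ le_sup_right (sup_le (inf_le_left.trans le_sup_right) le_sup_left) hDexp
      (hDc ▸ (by omega : 16 ≤ Nat.card F * 2)) with e | ⟨B, m, hAB, -, hm, hB⟩
  · exact ha' (e.le (Subgroup.mem_sup_right (Subgroup.mem_zpowers a')))
  · have hle : F.map (MulAut.conj m).toMonoidHom ≤ A ⊓ B := le_inf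
      ((Subgroup.map_mono inf_le_left).trans hm.le) ((Subgroup.map_mono le_sup_left).trans hB.le)
    have := Subgroup.card_le_of_le hle
    rw [Subgroup.card_map_of_injective (MulAut.conj m).injective] at this
    omega

/-- The elements of `A` normalising another image. -/
theorem card_inf_normalizer_le {α : MulAut M} (hα : α ∉ nA A) :
    Nat.card ↥(A ⊓ Subgroup.normalizer (A.map α.toMonoidHom : Set M)) ≤ 4 := by
  haveI : Fact (Nat.Prime 2) := ⟨Nat.prime_two⟩
  set A' := A.map α.toMonoidHom with hA'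
  have hne : A' ≠ A := fun e => hα (mem_nA_of fun a ha => e.le ⟨a, ha, rfl⟩)
  set D := A ⊓ Subgroup.normalizer (A' : Set M) with hD
  by_cases hD1 : D = ⊥
  · rw [hD1, Subgroup.card_bot]; norm_num
  obtain ⟨d, hd, hd1⟩ := (Subgroup.bot_or_exists_ne_one D).resolve_left hD1
  have hDp : IsPGroup 2 ↥D := (isPGroup_hexad hA).to_le inf_le_left
  have hmod := card_modEq_centralizer hDp (inf_le_right : D ≤ Subgroup.normalizer (A' : Set M))
  rw [hA', Subgroup.card_map_of_injective α.injective, hA.first.card, ← hA'] at hmod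
  have h1 : 1 < Nat.card ↥(A' ⊓ Subgroup.centralizer (D : Set M)) := by
    have := Nat.card_pos (α := ↥(A' ⊓ Subgroup.centralizer (D : Set M)))
    rw [Nat.ModEq] at hmod
    omega
  haveI := Finite.one_lt_card_iff_nontrivial.1 h1
  obtain ⟨⟨a', ha', hac⟩, ha'1⟩ := exists_ne (1 : ↥(A' ⊓ Subgroup.centralizer (D : Set M)))
  have ha'1' : a' ≠ 1 := fun e => ha'1 (Subtype.ext e)
  have hfix : ∀ {a c : M}, a ∈ A → a ≠ 1 → a * c = c * a → c ∈ Subgroup.normalizer (A : Set M) :=
    fun ha ha1 h => conj_mem_nA.1 ((nA_facts hA).2.2 _ ha ha1 _ (by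
      rw [MulAut.conj_apply, ← h, mul_inv_cancel_right]))
  have hdisj : ∀ a ∈ A, a ∈ A' → a = 1 := by
    intro a ha haA'
    by_contra ha1
    refine hne (eq_of_le_normalizer hJ hA α fun c hc => hfix ha ha1 ?_)
    exact CfsgLib.J4Local.comm_of_sq (exp_map hJ hA α) haA' hc
  have hn : a' ∈ Subgroup.normalizer (A : Set M) := hfix hd.1 hd1 (Subgroup.mem_centralizer_iff.1 hac d hd)
  refine le_trans (Subgroup.card_le_of_le fun x hx => Subgroup.mem_inf.2 ⟨hx.1, ?_⟩)
    (card_inf_centralizer_le hJ hA hn (exp_map hJ hA α a' ha') fun h => ha'1' (hdisj a' h ha'))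
  exact Subgroup.mem_centralizer_singleton_iff.2 (Subgroup.mem_centralizer_iff.1 hac x hx)

end CfsgLib.J4Eleven
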