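import Cfsg.Agent.J4Local.Eleven.Conf0
import Cfsg.Agent.J4Local.Eleven.Orbits
import Cfsg.Agent.J4Local.Eleven.CentT

/-!
The centraliser of `z` and of an element of `V` outside the class of `z` normalises `V`.
-/

set_option autoImplicit false
set_option maxRecDepth 100000
set_option linter.style.haveILetI false
set_option linter.unusedSectionVars false

namespace CfsgLib.J4Eleven

open CfsgLib.J4Local CfsgLib.J4Local.M22Elem CfsgLib.J4Local.FixMod

attribute [local instance] Classical.propDecidable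

/-- A group action with one fixed point and all other orbits of size divisible by four. -/
theorem mod_four_of_orbits {H X : Type*} [Group H] [Finite H] [MulAction H X] [Finite X] (x0 : X)
    (hfix : ∀ g : H, g • x0 = x0) (h4 : ∀ x, x ≠ x0 → 4 ∣ Nat.card (MulAction.orbit H x)) :
    Nat.card X % 4 = 1 := by
  classical
  letI := Fintype.ofFinite (Quotient (MulAction.orbitRel H X))
  have hsing : MulAction.orbit H x0 = {x0} := Set.eq_singleton_iff_unique_mem.2
    ⟨MulAction.mem_orbit_self x0, by rintro _ ⟨g, rfl⟩; exact hfix g⟩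
  set q0 : Quotient (MulAction.orbitRel H X) := Quotient.mk _ x0 with hq0
  have hq : ∀ q : Quotient (MulAction.orbitRel H X), q ≠ q0 → 4 ∣ Nat.card (MulAction.orbit H q.out) := by
    intro q hq
    refine h4 _ fun e => hq ?_
    rw [← Quotient.out_eq q, e]
  have h0 : Nat.card (MulAction.orbit H q0.out) = 1 := by
    have he : q0.out ∈ MulAction.orbit H x0 := MulAction.orbitRel_apply.1 (Quotient.mk_out x0)
    rw [hsing, Set.mem_singleton_iff] at he
    rw [he, hsing, Nat.card_coe_set_eq, Set.ncard_singleton]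
  rw [Nat.card_congr (MulAction.selfEquivSigmaOrbits H X), Nat.card_sigma,
    ← Finset.add_sum_erase _ _ (Finset.mem_univ q0), h0]
  obtain ⟨c, hc⟩ := Finset.dvd_sum fun q hq' => hq q (Finset.mem_erase.1 hq').1
  erw [hc]
  omega

variable {G : Type*} [Group G] [Finite G] {z : G} {P : Subgroup G}

/-- The elements of the normaliser of `P` in `H` fixing `t` modulo `z`. -/
def stab (z : G) (P : Subgroup G) (t : G) : Subgroup ↥(cA z P) where
  carrier := {k | ((k : G) * t * (k : G)⁻¹)⁻¹ * t ∈ Subgroup.zpowers z}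
  one_mem' := by simp [one_mem]
  mul_mem' := fun {k k'} hk hk' => by
    simp only [Set.mem_ofPred_eq, Subgroup.coe_mul] at hk hk' ⊢
    have h := mul_mem ((Subgroup.mem_normalizer_iff.1 (H_le_normalizer_z k.2.1) _).1 hk') hk
    have e : (((k : G) * k') * t * ((k : G) * k')⁻¹)⁻¹ * t =
        (k : G) * (((k' : G) * t * (k' : G)⁻¹)⁻¹ * t) * (k : G)⁻¹ * (((k : G) * t * (k : G)⁻¹)⁻¹ * t) := by group
    rw [e]; exact h
  inv_mem' := fun {k} hk => by
    simp only [Set.mem_ofPred_eq, Subgroup.coe_inv] at hk ⊢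
    have h := (Subgroup.mem_normalizer_iff.1 (H_le_normalizer_z (inv_mem k.2.1)) _).1 (inv_mem hk)
    have e : ((k : G)⁻¹ * t * (k : G)⁻¹⁻¹)⁻¹ * t =
        (k : G)⁻¹ * (((k : G) * t * (k : G)⁻¹)⁻¹ * t)⁻¹ * (k : G)⁻¹⁻¹ := by group
    rw [e]; exact h

theorem mem_stab {t : G} {k : ↥(cA z P)} :
    k ∈ stab z P t ↔ ((k : G) * t * (k : G)⁻¹)⁻¹ * t ∈ Subgroup.zpowers z := Iff.rfl

variable (hJ : Cfsg.IsOfJankoFourTypeWith z P) {A : Subgroup M} {s : M} (hA : Hexad A s)
variable {p : G} {T : Set G} (V : Values hJ hA p T) {t : G} (ht : t ∈ T)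

include hJ hA V

theorem Values.preA_stable {k : G} (hk : k ∈ preA hJ A) {x : G} (hx : x ∈ T) : k * x * k⁻¹ ∈ T :=
  V.in_fixA hJ hA ((Subgroup.mem_normalizer_iff.1 (preA_le_normalizer_fixA hJ A hk) x).1 (V.small.sub x hx).1)
    (fun e => V.ne_one hJ hA hx (conj_eq_one_iff.1 e)) fun h => V.fT x hx ((conj_z_conj k x).1 h)

include ht

/-- The stabiliser of the class of `t` among the elements fixing `A`. -/
theorem Values.card_stab_inf : Nat.card ↥(stab z P t ⊓ (nA A).comap (sig hJ)) = 3840 := by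
  set S := sX hJ hA with hS
  obtain ⟨n1, n2, -, -⟩ := preA_le_norms hJ hA
  letI := S.action (preA hJ A) n1 n2
  have htD : t ∈ S.D := (V.small.sub t ht).1
  have hzD : z ∈ S.D := z_mem_fixA hJ A
  set O := MulAction.orbit ↥(preA hJ A) (S.cls t htD) with hO
  have hlift : ∀ x : G, ∀ hx : x ∈ S.D, x ∈ T → S.cls x hx ∈ O := by
    intro x hx hxT
    obtain ⟨g, hg, e⟩ := V.small.trans t ht x hxT
    rw [inf_normalizer_eq hJ hA] at hg
    obtain ⟨k, hk, c, hc, rfl⟩ := (CfsgLib.Solvable.mem_sup_of_le_normalizer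
      ((preA_le_H hJ A).trans H_le_normalizer_E)).1 hg
    refine ⟨⟨k, hk⟩, (S.mk_eq _ _).2 ?_⟩
    show (k * t * k⁻¹)⁻¹ * x ∈ Subgroup.zpowers z
    rcases CfsgLib.Extra2.conj_eq (gen_E hJ) hc (fixA_le hJ A (V.small.sub t ht).1) with h | h
    · rw [← e, show k * c * t * (k * c)⁻¹ = k * (c * t * c⁻¹) * k⁻¹ by group, h, inv_mul_cancel]
      exact one_mem _
    · rw [← e, show k * c * t * (k * c)⁻¹ = k * (c * t * c⁻¹) * k⁻¹ by group, h,
        show (k * t * k⁻¹)⁻¹ * (k * (z * t) * k⁻¹) = k * (t⁻¹ * (z * t)) * k⁻¹ by group,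
        ← ((gen_E hJ).comm_z t (fixA_le hJ A (V.small.sub t ht).1)).eq, inv_mul_cancel_left,
        mem_cH.1 (preA_le_H hJ A hk), mul_inv_cancel_right]
      exact Subgroup.mem_zpowers z
  have hmem : ∀ x : G, ∀ hx : x ∈ S.D, S.cls x hx ∈ O → x ∈ T := by
    rintro x hx ⟨k, hk⟩
    have h1 : ((k : G) * t * (k : G)⁻¹)⁻¹ * x ∈ Subgroup.zpowers z := (S.mk_eq _ _).1 hk
    have hkT := V.preA_stable hJ hA k.2 ht
    rcases (CfsgLib.Extra2.mem_zpowers_iff (z_sq hJ)).1 h1 with h | h
    · exact inv_mul_eq_one.1 h ▸ hkT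
    · rw [inv_mul_eq_iff_eq_mul.1 h]; exact V.small.z_closed _ hkT
  letI := Fintype.ofFinite ↥S.D
  letI := Fintype.ofFinite S.Q
  have h18 : Nat.card O = 18 := by
    set U : Finset ↥S.D := Finset.univ.filter (fun d => (d : G) ∈ T) with hU
    have hUc : U.card = 36 := by
      rw [← V.small.card, ← Set.ncard_coe_finset, ← Set.ncard_image_of_injective _ Subtype.val_injective]
      congr 1
      ext x
      simp only [hU, Finset.coe_filter, Finset.mem_univ, true_and, Set.mem_image]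
      exact ⟨fun ⟨d, hd, e⟩ => e ▸ hd, fun h => ⟨⟨x, (V.small.sub x h).1⟩, h, rfl⟩⟩
    let f : ↥S.D → S.Q := fun d => S.cls d d.2
    have him : U.image f = O.toFinset := by
      ext q
      simp only [Finset.mem_image, Set.mem_toFinset, hU, Finset.mem_filter, Finset.mem_univ, true_and]
      constructor
      · rintro ⟨d, hd, rfl⟩; exact hlift _ d.2 hd
      · intro hq
        obtain ⟨d, hd, rfl⟩ := S.exists_mk q
        exact ⟨⟨d, hd⟩, hmem d hd hq, rfl⟩
    have hfib : ∀ q ∈ O.toFinset, (U.filter fun d => f d = q).card = 2 := by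
      intro q hq
      obtain ⟨d, hd, rfl⟩ := S.exists_mk q
      have hdT := hmem d hd (Set.mem_toFinset.1 hq)
      rw [Finset.card_eq_two]
      refine ⟨⟨d, hd⟩, ⟨d * z, mul_mem hd hzD⟩, fun e => z_ne_one hJ (left_eq_mul.1 (congrArg Subtype.val e)), ?_⟩
      ext ⟨w, hw⟩
      simp only [hU, Finset.mem_filter, Finset.mem_univ, true_and, Finset.mem_insert, Finset.mem_singleton,
        Subtype.mk.injEq, f]
      constructor
      · rintro ⟨-, h⟩
        rcases (CfsgLib.Extra2.mem_zpowers_iff (z_sq hJ)).1 ((S.mk_eq hd hw).1 h.symm) with e | e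
        · exact Or.inl (inv_mul_eq_one.1 e).symm
        · exact Or.inr (inv_mul_eq_iff_eq_mul.1 e)
      · rintro (rfl | rfl)
        · exact ⟨hdT, rfl⟩
        · refine ⟨V.small.z_closed _ hdT, ((S.mk_eq hd _).2 ?_).symm⟩
          show d⁻¹ * (d * z) ∈ Subgroup.zpowers z
          rw [inv_mul_cancel_left]; exact Subgroup.mem_zpowers z
    have h := Finset.card_eq_sum_card_fiberwise (f := f) (s := U) (t := O.toFinset)
      (fun d hd => by rw [← him]; exact Finset.mem_image_of_mem f hd)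
    rw [Finset.sum_congr rfl hfib, Finset.sum_const, smul_eq_mul, hUc] at h
    rw [Nat.card_eq_fintype_card, ← Set.toFinset_card]
    omega
  have hst : Nat.card (MulAction.stabilizer ↥(preA hJ A) (S.cls t htD)) =
      Nat.card ↥(stab z P t ⊓ (nA A).comap (sig hJ)) := by
    refine Nat.card_congr ⟨fun k => ⟨⟨k.1.1, preA_le hJ A k.1.2⟩, ?_, ?_⟩,
      fun k => ⟨⟨k.1.1, (mem_preA hJ).2 ⟨k.1.2, k.2.2⟩⟩, ?_⟩, fun _ => rfl, fun _ => rfl⟩
    · exact mem_stab.2 ((S.mk_eq _ _).1 (MulAction.mem_stabilizer_iff.1 k.2))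
    · exact ((mem_preA hJ).1 k.1.2).2
    · exact MulAction.mem_stabilizer_iff.2 ((S.mk_eq _ _).2 (mem_stab.1 k.2.1))
  have h := (MulAction.stabilizer ↥(preA hJ A) (S.cls t htD)).card_mul_index
  rw [Subgroup.index_eq_card, ← Nat.card_congr (MulAction.orbitEquivQuotientStabilizer _ _), h18,
    card_preA, (nA_facts hA).1, hst] at h
  omega

theorem Values.ker_stab : Nat.card ↥(stab z P t ⊓ (sig hJ).ker) = 2 := by
  have hzA : z ∈ cA z P := C_le_A ⟨z_mem_H, z_mem_C_P hJ⟩
  have e : stab z P t ⊓ (sig hJ).ker = Subgroup.zpowers (⟨z, hzA⟩ : ↥(cA z P)) := by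
    refine le_antisymm (fun k hk => ?_) (Subgroup.zpowers_le.2 ⟨?_, ?_⟩)
    · have hkK : (k : G) ∈ cK z P := by
        have := hk.2
        rw [ker_sig] at this
        exact this
      obtain ⟨u, hu, q, hq, e⟩ := (CfsgLib.Solvable.mem_sup_of_le_normalizer
        (Subgroup.zpowers_le.2 (Subgroup.centralizer_le_normalizer _ (z_mem_C_P hJ)) :
          Subgroup.zpowers z ≤ Subgroup.normalizer (P : Set G))).1 hkK
      have huz : u * (q * t * q⁻¹) * u⁻¹ = q * t * q⁻¹ := by
        have hqE : q * t * q⁻¹ ∈ cE z := (Subgroup.mem_normalizer_iff.1 (H_le_normalizer_E (P_le_H hJ hq)) t).1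
          (fixA_le hJ A (V.small.sub t ht).1)
        rcases (CfsgLib.Extra2.mem_zpowers_iff (z_sq hJ)).1 hu with h | h <;> rw [h]
        · group
        · rw [← ((gen_E hJ).comm_z _ hqE).eq, mul_inv_cancel_right]
      have hqt : (q * t * q⁻¹)⁻¹ * t ∈ Subgroup.zpowers z := by
        have h := mem_stab.1 hk.1
        rwa [← e, show u * q * t * (u * q)⁻¹ = u * (q * t * q⁻¹) * u⁻¹ by group, huz] at h
      have hq1 : q = 1 := by
        rcases eq_one_or_of_card_three (card_P hJ) V.small.p_mem V.small.p_ne hq with h | h | h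
        · exact h
        · exact absurd (h ▸ hqt) (V.small.moved t ht)
        · exfalso
          refine V.small.moved t ht ?_
          have h1 := (Subgroup.mem_normalizer_iff.1 (H_le_normalizer_z (P_le_H hJ V.small.p_mem)) _).1
            (inv_mem hqt)
          rw [h] at h1
          rwa [show p * ((p⁻¹ * t * p⁻¹⁻¹)⁻¹ * t)⁻¹ * p⁻¹ = (p * t * p⁻¹)⁻¹ * t by group] at h1
      rw [hq1, mul_one] at e
      have : (k : G) ∈ Subgroup.zpowers z := e ▸ hu
      obtain ⟨i, hi⟩ := this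
      exact ⟨i, Subtype.ext (by simpa using hi)⟩
    · refine mem_stab.2 ?_
      show (z * t * z⁻¹)⁻¹ * t ∈ _
      rw [← ((gen_E hJ).comm_z t (fixA_le hJ A (V.small.sub t ht).1)).eq, mul_inv_cancel_right, inv_mul_cancel]
      exact one_mem _
    · rw [ker_sig]
      exact zpowers_le_K hJ (Subgroup.mem_zpowers z)
  rw [e, Nat.card_zpowers, ← Subgroup.orderOf_coe, orderOf_z hJ]

theorem Values.conj_mem_image {a : M} (ha : a ∈ A) : MulAut.conj a ∈ (stab z P t).map (sig hJ) := by
  obtain ⟨c, hc, hcl, rfl⟩ := exists_lift hJ hA ha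
  refine ⟨⟨c, C_le_A hc⟩, mem_stab.2 ?_, sig_C hJ hc⟩
  show (c * t * c⁻¹)⁻¹ * t ∈ _
  rw [fixA_commute_liftTwo hJ hA.first (V.small.sub t ht).1 hcl, mul_inv_cancel_right, inv_mul_cancel]
  exact one_mem _

theorem Values.not_nine {R : Subgroup M} (hR : R.map MulAut.conj ≤ (stab z P t).map (sig hJ)) :
    ¬ 9 ∣ Nat.card R := by
  intro h9
  haveI : Fact (Nat.Prime 3) := ⟨Nat.prime_three⟩
  obtain ⟨K, hK⟩ := Sylow.exists_subgroup_card_pow_prime 3 (G := ↥R) (n := 2) h9
  set K' := K.map R.subtype with hK'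
  have hK'c : Nat.card K' = 9 := by rw [Subgroup.card_map_of_injective R.subtype_injective, hK]; rfl
  obtain ⟨P0, hP0⟩ := (IsPGroup.of_card (n := 2) hK'c : IsPGroup 3 ↥K').exists_le_sylow
  obtain ⟨hel, hc9, -, -⟩ := CfsgLib.J4M22.sylow_three P0
  have hKR : K' ≤ R := Subgroup.map_subtype_le K
  obtain ⟨x, hx, hx1⟩ := (Subgroup.bot_or_exists_ne_one K').resolve_left fun e => by
    rw [e, Subgroup.card_bot] at hK'c; omega
  have hx3 : x ^ 3 = 1 := hel.2 x (hP0 hx)
  obtain ⟨y, hy, hyx⟩ : ∃ y ∈ K', y ∉ Subgroup.zpowers x := by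
    by_contra hno
    push Not at hno
    have := Subgroup.card_le_of_le (show K' ≤ Subgroup.zpowers x from hno)
    rw [hK'c, Nat.card_zpowers, orderOf_eq_prime hx3 hx1] at this
    omega
  have hy3 : y ^ 3 = 1 := hel.2 y (hP0 hy)
  have hxy : x * y = y * x :=
    congrArg Subtype.val (hel.1.is_comm.comm (⟨x, hP0 hx⟩ : ↥(P0 : Subgroup M)) ⟨y, hP0 hy⟩)
  have hnine : NinePair x y := ⟨hx3, hy3, hxy, hx1, fun e => hyx (e ▸ one_mem _),
    fun e => hyx (e ▸ Subgroup.mem_zpowers x), fun e => hyx (by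
      have h1 : y = x * x := by
        rw [e, show y * y * (y * y) = y ^ 3 * y by simp [pow_succ, mul_assoc], hy3, one_mul]
      rw [h1]; exact mul_mem (Subgroup.mem_zpowers x) (Subgroup.mem_zpowers x))⟩
  set K0 : Subgroup G := ((stab z P t).map (cA z P).subtype) ⊓ cC z P with hK0
  have himg : ∀ m ∈ R, m ∈ img hJ K0 := by
    intro m hm
    obtain ⟨⟨c, hc⟩, rfl⟩ := quo_surjective hJ m
    obtain ⟨k, hk, e⟩ := hR ⟨_, hm, rfl⟩
    have h1 : sig hJ (k⁻¹ * ⟨c, C_le_A hc⟩) = 1 := by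
      rw [map_mul, map_inv, e, sig_C hJ hc, inv_mul_cancel]
    rw [← MonoidHom.mem_ker, ker_sig, Subgroup.mem_subgroupOf] at h1
    have h1' : (k : G)⁻¹ * c ∈ cK z P := h1
    have hkC : (k : G) ∈ cC z P := by
      have := mul_mem hc (inv_mem (K_le_C hJ h1'))
      rwa [mul_inv_rev, inv_inv, mul_inv_cancel_left] at this
    refine (mem_img hJ).2 ⟨k, hkC, Subgroup.mem_inf.2 ⟨⟨k, hk, rfl⟩, hkC⟩, ?_⟩
    rw [quo_eq_iff hJ]
    exact h1'
  have hP : P ≤ K0 := P_le_of_nine hJ ⟨x, himg x (hKR hx), y, himg y (hKR hy), hnine⟩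
  obtain ⟨⟨k, hk⟩, hkS, e⟩ := (hP V.small.p_mem).1
  have e' : k = p := e
  subst e'
  exact V.small.moved t ht (mem_stab.1 hkS)

theorem Values.stab_le : (stab z P t).map (sig hJ) ≤ nA A := by
  set S := (stab z P t).map (sig hJ) with hS
  have hS0c : Nat.card ↥(S ⊓ nA A) = 1920 := by
    have h := card_map_mul_card_inf_ker (sig hJ) (stab z P t ⊓ (nA A).comap (sig hJ))
    have hk : stab z P t ⊓ (nA A).comap (sig hJ) ⊓ (sig hJ).ker = stab z P t ⊓ (sig hJ).ker := by
      refine le_antisymm (inf_le_inf_right _ inf_le_left) (le_inf (le_inf inf_le_left ?_) inf_le_right)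
      intro k hk
      rw [Subgroup.mem_comap, MonoidHom.mem_ker.1 hk.2]
      exact one_mem _
    have he : (stab z P t ⊓ (nA A).comap (sig hJ)).map (sig hJ) = S ⊓ nA A := by
      refine le_antisymm (le_inf (Subgroup.map_mono inf_le_left)
        (Subgroup.map_le_iff_le_comap.2 inf_le_right)) ?_
      rintro _ ⟨⟨k, hk, rfl⟩, hn⟩
      exact ⟨k, ⟨hk, hn⟩, rfl⟩
    rw [hk, he, V.ker_stab hJ hA ht, V.card_stab_inf hJ hA ht] at h
    omega
  set S0 := (S ⊓ nA A).subgroupOf S with hS0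
  have hcard : Nat.card S = 1920 * S0.index := by
    rw [← S0.card_mul_index, hS0, Nat.card_congr (Subgroup.subgroupOfEquivOfLe inf_le_left).toEquiv, hS0c]
  let ψ : ↥A →* ↥S := (MulAut.conj.comp A.subtype).codRestrict S fun a => V.conj_mem_image hJ hA ht a.2
  have hψ : ∀ a : ↥A, ((ψ a : ↥S) : MulAut M) = MulAut.conj (a : M) := fun _ => rfl
  letI : MulAction ↥A (↥S ⧸ S0) := MulAction.compHom (↥S ⧸ S0) ψ
  have hmod : S0.index % 4 = 1 := by
    rw [Subgroup.index_eq_card]
    refine mod_four_of_orbits (H := ↥A) (QuotientGroup.mk 1 : ↥S ⧸ S0) (fun a => ?_) ?_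
    · show (QuotientGroup.mk (ψ a * 1) : ↥S ⧸ S0) = QuotientGroup.mk 1
      rw [QuotientGroup.eq, mul_one, mul_one]
      refine inv_mem (Subgroup.mem_subgroupOf.2 ⟨(ψ a).2, ?_⟩)
      rw [hψ]
      exact conj_mem_nA.2 (Subgroup.le_normalizer a.2)
    · intro q hq
      obtain ⟨g, rfl⟩ := QuotientGroup.mk_surjective q
      have hg : (g : MulAut M) ∉ nA A := fun h => hq (by
        rw [QuotientGroup.eq, mul_one]
        exact inv_mem (Subgroup.mem_subgroupOf.2 ⟨g.2, h⟩))
      have hle : (MulAction.stabilizer ↥A (QuotientGroup.mk g : ↥S ⧸ S0)).map A.subtype ≤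
          A ⊓ Subgroup.normalizer (A.map (g : MulAut M).toMonoidHom : Set M) := by
        rintro _ ⟨a, ha, rfl⟩
        refine Subgroup.mem_inf.2 ⟨a.2, ?_⟩
        have h : (QuotientGroup.mk (ψ a * g) : ↥S ⧸ S0) = QuotientGroup.mk g := ha
        rw [QuotientGroup.eq, Subgroup.mem_subgroupOf] at h
        have h2 : ((g : MulAut M)⁻¹ * (MulAut.conj (a : M))⁻¹ * (g : MulAut M)) ∈ nA A := by
          have := h.2
          simpa [hψ] using this
        have e : (g : MulAut M)⁻¹ * (MulAut.conj (a : M))⁻¹ * (g : MulAut M) =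
            MulAut.conj ((g : MulAut M)⁻¹ (a : M))⁻¹ := by
          refine MulEquiv.ext fun y => ?_
          show (g : MulAut M)⁻¹ ((MulAut.conj (a : M))⁻¹ ((g : MulAut M) y)) =
            ((g : MulAut M)⁻¹ (a : M))⁻¹ * y * (((g : MulAut M)⁻¹ (a : M))⁻¹)⁻¹
          rw [show (MulAut.conj (a : M))⁻¹ ((g : MulAut M) y) = (a : M)⁻¹ * (g : MulAut M) y * (a : M) from rfl,
            map_mul, map_mul, map_inv, inv_inv, MulAut.inv_apply_self]
        rw [e, conj_mem_nA, inv_mem_iff] at h2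
        rw [← Subgroup.map_equiv_normalizer_eq]
        exact ⟨_, h2, MulAut.apply_inv_self M _ _⟩
      have h4 := Subgroup.card_le_of_le hle
      rw [Subgroup.card_map_of_injective A.subtype_injective] at h4
      have h4' := h4.trans (card_inf_normalizer_le hJ hA hg)
      have h := (MulAction.stabilizer ↥A (QuotientGroup.mk g : ↥S ⧸ S0)).card_mul_index
      rw [Subgroup.index_eq_card, ← Nat.card_congr (MulAction.orbitEquivQuotientStabilizer _ _),
        hA.first.card] at h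
      generalize Nat.card (MulAction.stabilizer ↥A (QuotientGroup.mk g : ↥S ⧸ S0)) = c at h h4'
      generalize Nat.card (MulAction.orbit ↥A (QuotientGroup.mk g : ↥S ⧸ S0)) = o at h
      interval_cases c <;> omega
  have hdvd : S0.index ∣ 462 := by
    have h := Subgroup.card_subgroup_dvd_card S
    rw [card_aut_m22, hcard, show 887040 = 1920 * 462 by norm_num] at h
    exact Nat.dvd_of_mul_dvd_mul_left (by norm_num) h
  set R := S.comap MulAut.conj with hR
  have hn9 := V.not_nine hJ hA ht (R := R) (Subgroup.map_comap_le _ _)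
  have hI : (Cfsg.Inn M).Normal := inferInstanceAs (MulAut.conj : M →* MulAut M).range.Normal
  have hsup := CfsgLib.Solvable.card_sup_mul_card_inf
    (show S ≤ Subgroup.normalizer (Cfsg.Inn M : Set (MulAut M)) by
      rw [Subgroup.normalizer_eq_top_iff.2 hI]; exact le_top)
  have hRc : Nat.card ↥(S ⊓ Cfsg.Inn M) = Nat.card R := by
    rw [Nat.card_congr (R.equivMapOfInjective MulAut.conj J4M22.conj_injective).toEquiv, hR, Subgroup.map_comap_eq, inf_comm]
  rw [hRc, card_inn_m22] at hsup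
  have hle := Subgroup.card_le_of_le (le_sup_right : Cfsg.Inn M ≤ S ⊔ Cfsg.Inn M)
  rw [card_inn_m22] at hle
  have hdj := Subgroup.card_subgroup_dvd_card (S ⊔ Cfsg.Inn M)
  rw [card_aut_m22] at hdj
  generalize hj : Nat.card ↥(S ⊔ Cfsg.Inn M) = j at hsup hle hdj
  have hj' : j = 443520 ∨ j = 887040 := by
    obtain ⟨q, hq⟩ := hdj
    rcases Nat.lt_or_ge q 3 with h | h
    · interval_cases q <;> omega
    · exfalso; nlinarith
  have hk : S0.index = 1 ∨ S0.index = 77 := by
    have hn : ¬ 3 ∣ S0.index := by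
      rintro ⟨c, hc⟩
      rw [hcard, hc] at hsup
      refine hn9 ?_
      rcases hj' with h | h <;> rw [h] at hsup <;> omega
    have hle := Nat.le_of_dvd (by norm_num) hdvd
    have key : ∀ k ≤ 462, k ∣ 462 → k % 4 = 1 → ¬ 3 ∣ k → k = 1 ∨ k = 77 := by decide +kernel
    exact key _ hle hdvd hmod hn
  rcases hk with hk | hk
  · rw [← inf_eq_left]
    refine Subgroup.eq_of_le_of_card_ge inf_le_left ?_
    rw [hS0c, hcard, hk]
  · exfalso
    haveI : IsSimpleGroup M := J4M22.isSimple_M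
    rw [hcard, hk] at hsup
    have hRi := R.card_mul_index
    rw [show Nat.card M = 443520 from CfsgLib.Golay.SylowCert.card_M22] at hRi
    have hi : R.index = 3 ∨ R.index = 6 := by
      rcases hj' with h | h <;> rw [h] at hsup
      · left
        have : Nat.card R = 147840 := by omega
        rw [this] at hRi; omega
      · right
        have : Nat.card R = 73920 := by omega
        rw [this] at hRi; omega
    have hcore : R.normalCore = ⊥ := by
      rcases IsSimpleGroup.eq_bot_or_eq_top_of_normal R.normalCore R.normalCore_normal with h | h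
      · exact h
      · exfalso
        rw [eq_top_iff.2 (h.ge.trans R.normalCore_le), Subgroup.index_top] at hi
        omega
    have hinj : Function.Injective (MulAction.toPermHom M (M ⧸ R)) := by
      rw [← MonoidHom.ker_eq_bot_iff, ← Subgroup.normalCore_eq_ker, hcore]
    have h := Nat.le_of_dvd Nat.card_pos (Subgroup.card_dvd_of_injective _ hinj)
    rw [Nat.card_perm, show Nat.card M = 443520 from CfsgLib.Golay.SylowCert.card_M22, ← Subgroup.index_eq_card] at h
    rcases hi with h' | h' <;> rw [h'] at h <;> norm_num [Nat.factorial] at h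

omit ht in
/-- The centralisers of `z` and of a second element outside the class normalise the standard subgroup. -/
theorem Values.isLocal : Local z (vZero hJ A) := by
  intro t ht h hh
  obtain ⟨htV, ht1, htS⟩ := mem_nS.1 ht
  have hht : h * t = t * h := Subgroup.mem_centralizer_singleton_iff.1 hh.1
  obtain ⟨k, hk, e, he, rfl⟩ := exists_decomp_H hJ hA hh.2
  refine mul_mem (preA_le_normalizer_vZero hJ hA ?_) (E_le_normalizer_vZero hJ hA he)
  have hfix : k * (e * t * e⁻¹) * k⁻¹ = t := by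
    rw [show k * (e * t * e⁻¹) * k⁻¹ = k * e * t * (k * e)⁻¹ by group, hht, mul_inv_cancel_right]
  by_cases hX : t ∈ fixA hJ A
  · have htT := V.in_fixA hJ hA hX ht1 htS
    have hks : (⟨k, hk⟩ : ↥(cA z P)) ∈ stab z P t := by
      refine mem_stab.2 ?_
      show (k * t * k⁻¹)⁻¹ * t ∈ _
      conv => arg 2; arg 2; rw [← hfix]
      rw [show (k * t * k⁻¹)⁻¹ * (k * (e * t * e⁻¹) * k⁻¹) = k * (t⁻¹ * (e * t * e⁻¹)) * k⁻¹ by group]
      refine (Subgroup.mem_normalizer_iff.1 (H_le_normalizer_z hk.1) _).1 ?_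
      rcases CfsgLib.Extra2.conj_eq (gen_E hJ) he (fixA_le hJ A hX) with h | h <;> rw [h]
      · rw [inv_mul_cancel]; exact one_mem _
      · rw [← ((gen_E hJ).comm_z t (fixA_le hJ A hX)).eq, inv_mul_cancel_left]
        exact Subgroup.mem_zpowers z
    exact (mem_preA hJ).2 ⟨hk, V.stab_le hJ hA htT ⟨_, hks, rfl⟩⟩
  · obtain ⟨a, ha, x, hx, rfl⟩ := (mem_vZero hJ hA.first).1 htV
    have haz : a ∉ Subgroup.zpowers z := fun h =>
      hX (mul_mem (Subgroup.zpowers_le.2 (z_mem_fixA hJ A) h) hx)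
    obtain ⟨haC, haA⟩ := quo_liftTwo hJ hA ha
    refine (mem_preA hJ).2 ⟨hk, (nA_facts hA).2.2 _ haA
      (fun h => haz (mem_z_of_quo_one hJ hA ha haC h)) _ ?_⟩
    rw [sig_apply hJ hk haC, quo_eq_iff hJ]
    refine zpowers_le_K hJ ?_
    show (k * a * k⁻¹)⁻¹ * a ∈ Subgroup.zpowers z
    rw [← E_inf_C hJ]
    refine Subgroup.mem_inf.2 ⟨?_, mul_mem (inv_mem (conj_mem_C hJ hk haC)) haC⟩
    set w := e * a * e⁻¹ * a⁻¹ with hw
    have hwE : w ∈ cE z := fixA_le hJ A (comm_mem_fixA hJ hA he ha)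
    have hxE := fixA_le hJ A hx
    have hac : a * x = x * a := fixA_commute_liftTwo hJ hA.first hx ha
    have hdec : e * (a * x) * e⁻¹ = a * (a⁻¹ * w * a * (e * x * e⁻¹)) := by rw [hw]; group
    rw [hdec] at hfix
    have hE1 : a⁻¹ * w * a * (e * x * e⁻¹) ∈ cE z := by
      refine mul_mem ?_ (mul_mem (mul_mem he hxE) (inv_mem he))
      simpa using (Subgroup.mem_normalizer_iff.1 (H_le_normalizer_E (inv_mem (liftTwo_le_H hJ A ha))) w).1 hwE
    generalize a⁻¹ * w * a * (e * x * e⁻¹) = v at hfix hE1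
    have e2 : (k * a * k⁻¹)⁻¹ * a = (k * v * k⁻¹) * x⁻¹ := by
      calc (k * a * k⁻¹)⁻¹ * a = (k * a * k⁻¹)⁻¹ * (k * (a * v) * k⁻¹) * x⁻¹ := by rw [hfix]; group
        _ = _ := by group
    rw [e2]
    exact mul_mem ((Subgroup.mem_normalizer_iff.1 (H_le_normalizer_E hk.1) v).1 hE1) (inv_mem hxE)

end CfsgLib.J4Eleven
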