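import Cfsg.Agent.J4Local.Eleven.Graph

/-!
The normaliser maps onto the Mathieu group, and the 276 involutions are labelled by the duads.
-/

set_option autoImplicit false
set_option maxRecDepth 100000
set_option linter.style.haveILetI false
set_option linter.unusedSectionVars false

namespace CfsgLib.J4Eleven

open Subgroup

attribute [local instance] Classical.propDecidable

variable {G : Type*} [Group G] [Finite G] {z : G} {V : Subgroup G}

/-- The labelling of the 276 involutions. -/
structure Labels (z : G) (V : Subgroup G) (φ : ↥(normalizer (V : Set G)) →* Cfsg.M24)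
    (d : Cfsg.GolayPt → Cfsg.GolayPt → G) : Prop where
  surj : Function.Surjective φ
  ker : ∀ m, φ m = 1 ↔ (m : G) ∈ V
  self : ∀ p, d p p = 1
  mem : ∀ p q, p ≠ q → d p q ∈ nS z V
  cover : ∀ t ∈ nS z V, ∃ p q, p ≠ q ∧ d p q = t
  tri : ∀ p q r, d p q * d q r = d p r
  symm : ∀ p q, d p q = d q p
  inj : ∀ p q r, p ≠ q → p ≠ r → q ≠ r → d p q ≠ d p r
  disj : ∀ p q r s, p ≠ q → r ≠ s → p ≠ r → p ≠ s → q ≠ r → q ≠ s → IsConj z (d p q * d r s)
  equiv : ∀ (m : normalizer (V : Set G)) p q,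
    d ((φ m : Equiv.Perm Cfsg.GolayPt) p) ((φ m : Equiv.Perm Cfsg.GolayPt) q) = (m : G) * d p q * (m : G)⁻¹

variable (C : Conf z V)

include C

theorem Conf.exists_labels : ∃ φ d, Labels z V φ d := by
  classical
  letI : CommGroup (V) :=
    { (inferInstance : Group (V)) with mul_comm := fun a b => Subtype.ext (C.comm a.2 b.2) }
  haveI : Fintype (Additive (V)) := Fintype.ofFinite _
  let cv : Additive (V) → G := fun a => ((Additive.toMul a : V) : G)
  have cv_inj : Function.Injective cv := fun a b e => Additive.toMul.injective (Subtype.ext e)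
  let S : Finset (Additive (V)) := Finset.univ.filter fun a => cv a ∈ nS z V
  have memS : ∀ a, a ∈ S ↔ cv a ∈ nS z V := fun a => by simp [S]
  have lift : ∀ (p : G → Prop) [DecidablePred p] (X : Finset (Additive (V))) (Y : Finset G),
      (∀ a, a ∈ X ↔ cv a ∈ Y) → (∀ g ∈ Y, g ∈ V) →
        (X.filter fun a => p (cv a)).card = (Y.filter p).card := by
    intro p _ X Y hXY hYA
    refine Finset.card_bij (fun a _ => cv a) ?_ (fun a _ b _ e => cv_inj e) ?_
    · intro a ha
      rw [Finset.mem_filter] at ha ⊢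
      exact ⟨(hXY a).1 ha.1, ha.2⟩
    · intro g hg
      rw [Finset.mem_filter] at hg
      exact ⟨Additive.ofMul ⟨g, hYA g hg.1⟩, Finset.mem_filter.2 ⟨(hXY _).2 hg.1, hg.2⟩, rfl⟩
  have hnSA : ∀ g ∈ nS z V, g ∈ V := fun g hg => (mem_nS.1 hg).1
  have hnbr : ∀ t a, a ∈ DuadCode.nbr S t ↔ cv a ∈ nb z V (cv t) := fun t a => by
    rw [DuadCode.mem_nbr, memS, memS, nb, Finset.mem_filter]
    rfl
  have hgeom : DuadCode.Geom S := by
    refine ⟨fun a => cv_inj (C.sq _ (Additive.toMul a : V).2), ?_, ?_, ?_, ?_, ?_, ?_⟩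
    · rw [Nat.card_congr Additive.toMul, C.card]
      norm_num
    · rw [memS]; exact fun h => (mem_nS.1 h).2.1 rfl
    · rw [← C.card_nS]
      refine Finset.card_bij (fun a _ => cv a) (fun a ha => (memS a).1 ha) (fun a _ b _ e => cv_inj e) ?_
      exact fun g hg => ⟨Additive.ofMul ⟨g, hnSA g hg⟩, (memS _).2 hg, rfl⟩
    · intro t ht
      rw [← C.card_nb ((memS t).1 ht)]
      refine Finset.card_bij (fun a _ => cv a) (fun a ha => (hnbr t a).1 ha) (fun a _ b _ e => cv_inj e) ?_
      intro g hg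
      exact ⟨Additive.ofMul ⟨g, hnSA g (Finset.mem_filter.1 hg).1⟩, (hnbr t _).2 hg, rfl⟩
    · intro t ht u hu' w hw htu htw hne huw
      simp only [memS] at ht hu' hw htu htw huw
      have hz : IsConj z (cv u * cv w) := by
        rcases (C.mul_cases hu' hw).1 with e | e | e
        exacts [absurd (cv_inj e).symm hne, absurd e huw, e]
      obtain ⟨f1, f2⟩ := C.four_axiom ht hu' hw htu htw hz
      refine ⟨(memS _).2 f1, fun x hx hxu hxw => ?_⟩
      simp only [memS] at hx hxu hxw
      rcases f2 _ hx hxu hxw with e | e | e | e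
      exacts [Or.inl (cv_inj e), Or.inr (Or.inl (cv_inj e)), Or.inr (Or.inr (Or.inl (cv_inj e))),
        Or.inr (Or.inr (Or.inr (cv_inj e)))]
    · intro t ht
      rw [memS] at ht
      rw [← C.card_local ht]
      refine le_of_eq ?_
      refine (Finset.sum_bij (fun a _ => cv a) (fun a ha => (hnbr t a).1 ha) (fun a _ b _ e => cv_inj e)
        (fun g hg => ⟨Additive.ofMul ⟨g, hnSA g (Finset.mem_filter.1 hg).1⟩, (hnbr t _).2 hg, rfl⟩)
        fun u hu' => ?_).symm
      rw [← lift (fun w => IsConj z (cv u * w)) (DuadCode.nbr S t) (nb z V (cv t)) (hnbr t)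
        fun g hg => hnSA g (Finset.mem_filter.1 hg).1]
      refine congrArg Finset.card (Finset.filter_congr fun w hw => ?_)
      have h1 := (DuadCode.mem_nbr.1 hu').1
      have h2 := (DuadCode.mem_nbr.1 hw).1
      rw [memS] at h1 h2
      rw [memS]
      refine ⟨fun ⟨hne, hn⟩ => ?_, fun h => ?_⟩
      · rcases (C.mul_cases h1 h2).1 with e | e | e
        exacts [absurd (cv_inj e) hne, absurd e hn, e]
      · exact ⟨fun e => ((C.mul_cases h1 h2).2 h).1 (congrArg cv e), ((C.mul_cases h1 h2).2 h).2⟩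
  let M := normalizer (V : Set G)
  let conjA : M → V → V := fun m a => ⟨(m : G) * a * (m : G)⁻¹, (mem_normalizer_iff.1 m.2 a).1 a.2⟩
  have hmul : ∀ m k a, conjA (m * k) a = conjA m (conjA k a) := fun m k a => Subtype.ext (by
    show (m : G) * k * a * ((m : G) * k)⁻¹ = (m : G) * ((k : G) * a * (k : G)⁻¹) * (m : G)⁻¹
    group)
  have hone : ∀ a, conjA 1 a = a := fun a => Subtype.ext (by simp [conjA])
  let ρ : M → Additive (V) ≃+ Additive (V) := fun m =>
    { toFun := fun a => Additive.ofMul (conjA m a.toMul)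
      invFun := fun a => Additive.ofMul (conjA m⁻¹ a.toMul)
      left_inv := fun a => by
        show Additive.ofMul (conjA m⁻¹ (conjA m a.toMul)) = a
        rw [← hmul, inv_mul_cancel, hone]; rfl
      right_inv := fun a => by
        show Additive.ofMul (conjA m (conjA m⁻¹ a.toMul)) = a
        rw [← hmul, mul_inv_cancel, hone]; rfl
      map_add' := fun a b => cv_inj (by
        show (m : G) * (cv a * cv b) * (m : G)⁻¹ = _
        exact (conj_mul (m : G) _ _).symm) }
  have hcvρ : ∀ m a, cv (ρ m a) = (m : G) * cv a * (m : G)⁻¹ := fun m a => rfl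
  obtain ⟨φ, e, hker, heq⟩ := hgeom.exists_labels ρ
    (fun g k a => congrArg Additive.ofMul (hmul g k a.toMul)) (fun a => congrArg Additive.ofMul (hone a.toMul))
    (fun g a ha => by rw [memS] at ha ⊢; rw [hcvρ]; exact (C.nS_map g.2).2 ha)
  have hkerA : ∀ m, φ m = 1 ↔ (m : G) ∈ V := fun m => by
    rw [hker]
    constructor
    · intro h
      refine C.cent (mem_centralizer_iff.2 fun a ha => ?_)
      have := congrArg cv (h (Additive.ofMul ⟨a, ha⟩))
      rw [hcvρ] at this
      exact (mul_inv_eq_iff_eq_mul.1 this).symm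
    · intro h a
      refine cv_inj ?_
      rw [hcvρ]
      exact mul_inv_eq_iff_eq_mul.2 (C.comm h (Additive.toMul a : V).2)
  let d : Cfsg.GolayPt → Cfsg.GolayPt → G := fun p q => cv (DuadCode.duad (e.symm p) (e.symm q))
  have hne : ∀ {p q : Cfsg.GolayPt}, p ≠ q → e.symm p ≠ e.symm q := fun h h' => h (e.symm.injective h')
  refine ⟨φ, d, ?_, hkerA, fun p => ?_, fun p q h => (memS _).1 (hgeom.duad_mem (hne h)).1, fun t ht => ?_,
    fun p q r => ?_, fun p q => congrArg cv (DuadCode.duad_comm _ _),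
    fun p q r hpq hpr hqr h => hgeom.duad_ne (hne hpq) (hne hpr) (hne hqr) (cv_inj h),
    fun p q r s h1 h2 h3 h4 h5 h6 => ?_, fun m p q => ?_⟩
  · have hd := C.order_dvd
    have h := Subgroup.card_mul_index φ.ker
    rw [Subgroup.index_ker] at h
    have hk : Nat.card φ.ker = 2 ^ 11 := by
      rw [← C.card]
      exact Nat.card_eq_of_bijective (fun m : φ.ker => (⟨m.1.1, (hkerA m.1).1 (MonoidHom.mem_ker.1 m.2)⟩ : V))
        ⟨fun a b e => Subtype.ext (Subtype.ext (congrArg (fun u : V => (u : G)) e)),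
          fun a => ⟨⟨⟨a.1, Subgroup.le_normalizer a.2⟩, MonoidHom.mem_ker.2 ((hkerA _).2 a.2)⟩, rfl⟩⟩
    rw [hk] at h
    rw [← h, show 2 ^ 21 * 135 * 1771 = 2 ^ 11 * (2 ^ 10 * 135 * 1771) by norm_num] at hd
    have hd' := Nat.dvd_of_mul_dvd_mul_left (by norm_num) hd
    have hle := Subgroup.card_le_card_group φ.range
    rw [Golay.card_M24] at hle
    have hpos : 0 < Nat.card φ.range := Nat.card_pos
    have := Nat.le_of_dvd hpos hd'
    rw [← MonoidHom.range_eq_top]
    refine Subgroup.eq_top_of_le_card _ ?_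
    rw [Golay.card_M24]
    exact (by norm_num : (244823040 : ℕ) = 2 ^ 10 * 135 * 1771).le.trans this
  · show cv (DuadCode.duad (e.symm p) (e.symm p)) = 1
    rw [DuadCode.duad_self]; rfl
  · have hm : Additive.ofMul (⟨t, hnSA t ht⟩ : V) ∈ S := (memS _).2 ht
    obtain ⟨u, hu⟩ := hgeom.exists_nbr hm
    obtain ⟨-, hne2⟩ := hgeom.two_stars hm hu
    let K1 : DuadCode.Pt S := ⟨_, DuadCode.mem_stars.2 ⟨_, hm, u, hu, rfl⟩⟩
    let K2 : DuadCode.Pt S := ⟨_, DuadCode.mem_stars.2 ⟨_, hm, _, hgeom.partner hm hu, rfl⟩⟩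
    have h12 : K1 ≠ K2 := fun h => hne2 (congrArg Subtype.val h)
    refine ⟨e K1, e K2, fun h => h12 (e.injective h), ?_⟩
    show cv (DuadCode.duad (e.symm (e K1)) (e.symm (e K2))) = t
    rw [e.symm_apply_apply, e.symm_apply_apply,
      ← hgeom.eq_duad (a := K1) (b := K2) h12 (Finset.mem_insert_self _ _) (Finset.mem_insert_self _ _)]
    rfl
  · exact congrArg cv (hgeom.duad_add (e.symm p) (e.symm q) (e.symm r))
  · obtain ⟨f1, f2⟩ := hgeom.disjoint_sum (hne h1) (hne h2) (hne h3) (hne h4) (hne h5) (hne h6)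
    show IsConj z (cv (DuadCode.duad (e.symm p) (e.symm q) + DuadCode.duad (e.symm r) (e.symm s)))
    by_contra hz
    exact f1 ((memS _).2 (mem_nS.2 ⟨(Additive.toMul (_ : Additive V)).2,
      fun h => f2 (cv_inj h), hz⟩))
  · exact (congrArg cv (heq m p q)).trans (hcvρ m _)

end CfsgLib.J4Eleven
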