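import Cfsg.Agent.J4Local.Eleven.Sect
import Cfsg.Agent.J4Local.CentStruct

/-!
An element inverting `P` that commutes with an element of order three outside `P` and squares into
`⟨z⟩` is an involution.
-/

set_option autoImplicit false
set_option linter.style.haveILetI false
set_option linter.unusedSectionVars false

namespace CfsgLib.J4Eleven

open CfsgLib.J4Local

variable {G : Type*} [Group G] [Finite G] {z : G} {P : Subgroup G}

/-- `w` is the involution attached to `h` by a conjugation taking `p` to `h` or its inverse. -/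
def Zc (z p h w : G) : Prop := ∃ g : G, (g * p * g⁻¹ = h ∨ g * p * g⁻¹ = h⁻¹) ∧ g * z * g⁻¹ = w

theorem zc_conj {p h w : G} (m : G) (hw : Zc z p h w) : Zc z p (m * h * m⁻¹) (m * w * m⁻¹) := by
  obtain ⟨g, hg, rfl⟩ := hw
  refine ⟨m * g, ?_, by group⟩
  rw [show m * g * p * (m * g)⁻¹ = m * (g * p * g⁻¹) * m⁻¹ by group]
  rcases hg with e | e
  · exact Or.inl (by rw [e])
  · exact Or.inr (by rw [e]; group)

theorem zc_inv {p h w : G} (hw : Zc z p h⁻¹ w) : Zc z p h w := by
  obtain ⟨g, hg, e⟩ := hw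
  rw [inv_inv] at hg
  exact ⟨g, hg.symm, e⟩

variable (hJ : Cfsg.IsOfJankoFourTypeWith z P) (hNP : Subgroup.normalizer (P : Set G) ≤ cH z)

include hJ

theorem mem_normalizer_P {p : G} (hp : p ∈ P) (hp1 : p ≠ 1) {k : G}
    (hk : k * p * k⁻¹ = p ∨ k * p * k⁻¹ = p⁻¹) : k ∈ Subgroup.normalizer (P : Set G) := by
  refine Subgroup.mem_normalizer_iff_map_conj_eq.2 (Subgroup.eq_of_le_of_card_ge ?_
    (Subgroup.card_map_of_injective (MulAut.conj k).injective).ge)
  rintro _ ⟨q, hq, rfl⟩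
  show k * q * k⁻¹ ∈ P
  rcases eq_one_or_of_card_three (card_P hJ) hp hp1 hq with rfl | rfl | rfl
  · simp
  · rcases hk with e | e <;> rw [e]
    exacts [hp, inv_mem hp]
  · rw [show k * p⁻¹ * k⁻¹ = (k * p * k⁻¹)⁻¹ by group]
    rcases hk with e | e <;> rw [e]
    exacts [inv_mem hp, by rwa [inv_inv]]

/-- An element of the normaliser outside the centraliser inverts `P`. -/
theorem inverts {u : G} (hu : u ∈ cA z P) (hu' : u ∉ cC z P) {q : G} (hq : q ∈ P) :
    u * q * u⁻¹ = q⁻¹ := by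
  by_cases hq1 : q = 1
  · subst hq1; simp
  rcases eq_one_or_of_card_three (card_P hJ) hq hq1
    ((Subgroup.mem_normalizer_iff.1 hu.2 q).1 hq) with h | h | h
  · exact absurd (conj_eq_one_iff.1 h) hq1
  · refine absurd ⟨hu.1, Subgroup.mem_centralizer_iff.2 fun x hx => ?_⟩ hu'
    have hc : Commute u q := mul_inv_eq_iff_eq_mul.1 h
    rcases eq_one_or_of_card_three (card_P hJ) hq hq1 hx with rfl | rfl | rfl
    · simp
    · exact hc.eq.symm
    · exact hc.inv_right.eq.symm
  · exact h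

include hNP

theorem zc_unique {p h w w' : G} (hp : p ∈ P) (hp1 : p ≠ 1) (hw : Zc z p h w) (hw' : Zc z p h w') :
    w = w' := by
  obtain ⟨g, hg, rfl⟩ := hw
  obtain ⟨g', hg', rfl⟩ := hw'
  have hk : g⁻¹ * g' * p * (g⁻¹ * g')⁻¹ = p ∨ g⁻¹ * g' * p * (g⁻¹ * g')⁻¹ = p⁻¹ := by
    rw [show g⁻¹ * g' * p * (g⁻¹ * g')⁻¹ = g⁻¹ * (g' * p * g'⁻¹) * g by group]
    rcases hg with e | e <;> rcases hg' with e' | e' <;> rw [e']
    · exact Or.inl (by rw [← e]; group)
    · exact Or.inr (by rw [← e]; group)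
    · exact Or.inr (by rw [← inv_inv h, ← e]; group)
    · exact Or.inl (by rw [← e]; group)
  have hz : g⁻¹ * g' * z = z * (g⁻¹ * g') := mem_cH.1 (hNP (mem_normalizer_P hJ hp hp1 hk))
  calc g * z * g⁻¹ = g * (z * (g⁻¹ * g')) * g'⁻¹ := by group
    _ = g' * z * g'⁻¹ := by rw [← hz]; group

/-- The centraliser of an element of order three of `P`. -/
theorem mem_C_of_comm {p x : G} (hp : p ∈ P) (hp1 : p ≠ 1) (hx : x * p = p * x) : x ∈ cC z P := by
  refine ⟨hNP (mem_normalizer_P hJ hp hp1 (Or.inl (by rw [hx, mul_inv_cancel_right]))),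
    Subgroup.mem_centralizer_iff.2 fun q hq => ?_⟩
  rcases eq_one_or_of_card_three (card_P hJ) hp hp1 hq with rfl | rfl | rfl
  · simp
  · exact hx.symm
  · exact (show Commute x p from hx).inv_right.eq.symm

theorem outer_sq (h3 : ∀ x y : G, orderOf x = 3 → orderOf y = 3 → IsConj x y) {u f : G}
    (hu : u ∈ cA z P) (hu' : u ∉ cC z P) (hf : f ∈ cC z P) (hf3 : orderOf f = 3) (hfP : f ∉ P)
    (huf : u * f = f * u) (hu2 : u * u ∈ Subgroup.zpowers z) : u * u = 1 := by
  haveI : Fact (Nat.Prime 3) := ⟨Nat.prime_three⟩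
  obtain ⟨p, y, s, a, b, tau, hp, hp3, hy, hy3, hyP, hs, hsy, ha, hb, ha2, hb2, hab, hay, hby, hak, hbk, habk,
    hsa, hsb, hCy, -⟩ := exists_frame hJ
  have hp1 : p ≠ 1 := fun e => by rw [e, orderOf_one] at hp3; omega
  -- move `f` to `y`
  obtain ⟨c, hc, hcf⟩ := J4Local.isConj_three hJ hf hy hf3 hy3 hfP hyP
  obtain ⟨v, hv, hv', hvy, hvv⟩ : ∃ v, v ∈ cA z P ∧ v ∉ cC z P ∧ v * y = y * v ∧ v * v = u * u := by
    refine ⟨c * u * c⁻¹, mul_mem (mul_mem (C_le_A hc) hu) (inv_mem (C_le_A hc)), fun h => hu' ?_, ?_, ?_⟩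
    · simpa [mul_assoc] using mul_mem (mul_mem (inv_mem hc) h) hc
    · rw [← hcf]
      calc c * u * c⁻¹ * (c * f * c⁻¹) = c * (u * f) * c⁻¹ := by group
        _ = c * (f * u) * c⁻¹ := by rw [huf]
        _ = c * f * c⁻¹ * (c * u * c⁻¹) := by group
    · rw [show c * u * c⁻¹ * (c * u * c⁻¹) = c * (u * u) * c⁻¹ by group,
        ← K_central hJ (zpowers_le_K hJ hu2) hc, mul_inv_cancel_right]
  rw [← hvv] at hu2 ⊢
  clear! u f c
  have hz2 : z * z = 1 := z_sq hJ
  have hz1 : z ≠ 1 := z_ne_one hJ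
  have hpy : p * y = y * p := (Subgroup.mem_centralizer_iff.1 hy.2 p hp)
  have hps : p * s = s * p := (Subgroup.mem_centralizer_iff.1 hs.2 p hp)
  -- the involution of `y`
  obtain ⟨g0, hg0⟩ := isConj_iff.1 (h3 p y hp3 hy3)
  set z1 := g0 * z * g0⁻¹ with hz1def
  have Z1 : Zc z p y z1 := ⟨g0, Or.inl hg0, rfl⟩
  have z11 : z1 * z1 = 1 := by
    rw [hz1def, show g0 * z * g0⁻¹ * (g0 * z * g0⁻¹) = g0 * (z * z) * g0⁻¹ by group, hz2, mul_one,
      mul_inv_cancel]
  have hcy : ∀ m, m * y = y * m → m * z1 = z1 * m := fun m hm => by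
    have := zc_conj m Z1
    rw [hm, mul_inv_cancel_right] at this
    exact mul_inv_eq_iff_eq_mul.1 (zc_unique hJ hNP hp hp1 this Z1)
  have hz1C : z1 ∈ cC z P := mem_C_of_comm hJ hNP hp hp1 (hcy p hpy).symm
  have hz1y : z1 * y = y * z1 := (hcy y rfl).symm
  have hz1z : z1 ≠ z := fun e => by
    have hg0H : g0 ∈ cH z := mem_cH.2 (mul_inv_eq_iff_eq_mul.1 e)
    rw [H_eq hJ] at hg0H
    obtain ⟨k, hk, x, hx, rfl⟩ :=
      (CfsgLib.Solvable.mem_sup_of_le_normalizer (inf_le_left.trans H_le_normalizer_E)).1 hg0H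
    have hxp : x * p * x⁻¹ ∈ cC z P := by
      have := conj_mem_C hJ (inv_mem hk) hy
      rwa [← hg0, show k⁻¹ * (k * x * p * (k * x)⁻¹) * k⁻¹⁻¹ = x * p * x⁻¹ by group] at this
    have hxpz : x * p * x⁻¹ * p⁻¹ ∈ Subgroup.zpowers z := E_inf_C hJ ▸ Subgroup.mem_inf.2
      ⟨by rw [show x * p * x⁻¹ * p⁻¹ = x * (p * x⁻¹ * p⁻¹) by group]
          exact mul_mem hx ((Subgroup.mem_normalizer_iff.1 (H_le_normalizer_E (P_le_H hJ hp)) _).1 (inv_mem hx)),
        mul_mem hxp (inv_mem (P_le_C hJ hp))⟩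
    rcases (CfsgLib.Extra2.mem_zpowers_iff hz2).1 hxpz with h | h
    · apply hyP
      rw [← hg0, show k * x * p * (k * x)⁻¹ = k * (x * p * x⁻¹) * k⁻¹ by group, mul_inv_eq_one.1 h]
      exact (Subgroup.mem_normalizer_iff.1 hk.2 p).1 hp
    · have h' := mul_inv_eq_iff_eq_mul.1 h
      have hpc : (x * p * x⁻¹) ^ 3 = 1 := by
        rw [conj_pow, ← hp3, pow_orderOf_eq_one, mul_one, mul_inv_cancel]
      rw [h', (show Commute z p from K_central hJ (zpowers_le_K hJ (Subgroup.mem_zpowers z)) (P_le_C hJ hp)).mul_pow,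
        P_cube hJ hp, mul_one, pow_succ, pow_two, hz2, one_mul] at hpc
      exact hz1 hpc
  -- the product over the orbit of `s`
  set z2 := s * z1 * s⁻¹ with hz2def
  set z3 := s * z2 * s⁻¹ with hz3def
  have Z2 : Zc z p (y * p) z2 := hsy ▸ zc_conj s Z1
  have hsyp : s * (y * p) * s⁻¹ = y * p * p := by
    rw [show s * (y * p) * s⁻¹ = (s * y * s⁻¹) * (s * p * s⁻¹) by group, hsy, ← hps, mul_inv_cancel_right]
  have Z3 : Zc z p (y * p * p) z3 := hsyp ▸ zc_conj s Z2
  have hT : z1 * z2 * z3 ∈ Subgroup.zpowers z := by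
    have hzc : ∀ e ∈ Subgroup.zpowers z, ∀ g ∈ cC z P, g * e = e * g := fun e he g hg =>
      (K_central hJ (zpowers_le_K hJ he) hg).symm
    have hee : ∀ e ∈ Subgroup.zpowers z, e * e = 1 := fun e he => by
      rcases (CfsgLib.Extra2.mem_zpowers_iff hz2).1 he with rfl | rfl
      · exact one_mul 1
      · exact hz2
    obtain ⟨e, he, hbe⟩ : ∃ e ∈ Subgroup.zpowers z, s * b * s⁻¹ = a * b * e := by
      rcases hsb with h | h
      · exact ⟨1, one_mem _, by rw [h, mul_one]⟩
      · exact ⟨z, Subgroup.mem_zpowers z, h⟩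
    have hse : ∀ e' ∈ Subgroup.zpowers z, ∀ x, s * (x * e') * s⁻¹ = s * x * s⁻¹ * e' := fun e' he' x => by
      rw [show s * (x * e') * s⁻¹ = s * x * (e' * s⁻¹) by group, ← hzc e' he' _ (inv_mem hs), ← mul_assoc]
    obtain ⟨i, j, k, l, n, hdec⟩ := hCy z1 hz1C hz1y
    have hza : Commute z1 a := (hcy a hay).symm
    have hzb : Commute z1 b := (hcy b hby).symm
    have hε : z ^ n ∈ Subgroup.zpowers z := pow_mem (Subgroup.mem_zpowers z) n
    have hpow : ∀ (x : G) (m : ℕ), x * x = 1 → x ^ m = 1 ∨ x ^ m = x := fun x m hx => by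
      rw [← Nat.mod_add_div m 2, pow_add, pow_mul, pow_two, hx, one_pow, mul_one]
      rcases Nat.mod_two_eq_zero_or_one m with h | h <;> simp [h]
    -- the part of order three vanishes
    set q := p ^ i * y ^ j with hq
    have hqC : q ∈ cC z P := mul_mem (pow_mem (P_le_C hJ hp) i) (pow_mem hy j)
    have hq3 : q ^ 3 = 1 := by
      have hp31 : p ^ 3 = 1 := by rw [← hp3, pow_orderOf_eq_one]
      have hy31 : y ^ 3 = 1 := by rw [← hy3, pow_orderOf_eq_one]
      rw [hq, ((show Commute p y from hpy).pow_pow i j).mul_pow, ← pow_mul, ← pow_mul, mul_comm i, mul_comm j,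
        pow_mul, pow_mul, hp31, hy31, one_pow, one_pow, one_mul]
    set x := a ^ k * b ^ l with hx
    have hxC : x ∈ cC z P := mul_mem (pow_mem ha k) (pow_mem hb l)
    have hxx : x * x = 1 := by
      have hka : a ^ k * a ^ k = 1 := by
        rw [← (Commute.refl a).mul_pow, ha2, one_pow]
      have hlb : b ^ l * b ^ l = 1 := by
        rw [← (Commute.refl b).mul_pow, hb2, one_pow]
      rw [hx, Commute.mul_mul_mul_comm ((show Commute b a from hab.symm).pow_pow l k), hka, hlb, one_mul]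
    have hdec' : z1 = z ^ n * q * x := by rw [hdec, hq, hx]; group
    have hq1 : q = 1 := by
      have hc1 : Commute q x := by
        have h1 : Commute q a := ((show Commute p a from (Subgroup.mem_centralizer_iff.1 ha.2 p hp)).pow_left i).mul_left
          ((show Commute y a from hay.symm).pow_left j)
        have h2 : Commute q b := ((show Commute p b from (Subgroup.mem_centralizer_iff.1 hb.2 p hp)).pow_left i).mul_left
          ((show Commute y b from hby.symm).pow_left j)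
        exact (h1.pow_right k).mul_right (h2.pow_right l)
      have hqq : q * q = 1 := by
        have h := z11
        rw [hdec', Commute.mul_mul_mul_comm (show Commute x (z ^ n * q) from
            ((show Commute x (z ^ n) from hzc _ hε x hxC).mul_right hc1.symm)), hxx, mul_one,
          Commute.mul_mul_mul_comm (show Commute q (z ^ n) from hzc _ hε q hqC), hee _ hε, one_mul] at h
        exact h
      calc q = q ^ 3 * (q * q)⁻¹ := by group
        _ = 1 := by rw [hq3, hqq, inv_one, mul_one]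
    rw [hq1, mul_one] at hdec'
    -- the three involutions
    have hx3 : x * (s * x * s⁻¹) * (s * (s * x * s⁻¹) * s⁻¹) ∈ Subgroup.zpowers z := by
      have hb' : s * (a * b * e) * s⁻¹ = a := by
        rw [hse e he, show s * (a * b) * s⁻¹ = (s * a * s⁻¹) * (s * b * s⁻¹) by group, hsa, hbe,
          show b * (a * b * e) * e = (b * a) * b * (e * e) by group, hee e he, ← hab, mul_assoc a, hb2, mul_one,
          mul_one]
      rw [hx]
      rcases hpow a k ha2 with h | h <;> rcases hpow b l hb2 with h' | h' <;> rw [h, h']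
      · simp
      · rw [one_mul, hbe, hb', show b * (a * b * e) * a = (b * a) * (b * (e * a)) by group, ← hab,
          ← hzc e he a ha, show a * b * (b * (a * e)) = a * (b * b) * a * e by group, hb2, mul_one, ha2, one_mul]
        exact he
      · rw [mul_one, hsa, hbe, show a * b * (a * b * e) = a * (b * a) * b * e by group, ← hab,
          show a * (a * b) * b * e = a * a * (b * b) * e by group, ha2, hb2, one_mul, one_mul]
        exact he
      · have h1 : s * (a * b) * s⁻¹ = a * e := by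
          rw [show s * (a * b) * s⁻¹ = (s * a * s⁻¹) * (s * b * s⁻¹) by group, hsa, hbe,
            show b * (a * b * e) = (b * a) * b * e by group, ← hab, mul_assoc a, hb2, mul_one]
        rw [h1, hse e he, hsa, show a * b * (a * e) * (b * e) = a * b * (a * (e * b)) * e by group,
          ← hzc e he b hb, show a * b * (a * (b * e)) * e = a * (b * a) * b * (e * e) by group, ← hab,
          show a * (a * b) * b = a * a * (b * b) by group, ha2, hb2, hee e he, one_mul, one_mul]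
        exact one_mem _
    have hconj : ∀ w, s * (z ^ n * w) * s⁻¹ = z ^ n * (s * w * s⁻¹) := fun w => by
      rw [← mul_assoc, hzc _ hε s hs]; group
    rw [hz3def, hz2def, hdec', hconj, hconj]
    have hsx : s * x * s⁻¹ ∈ cC z P := mul_mem (mul_mem hs hxC) (inv_mem hs)
    rw [show z ^ n * x * (z ^ n * (s * x * s⁻¹)) = (z ^ n * z ^ n) * (x * (s * x * s⁻¹)) by
        rw [Commute.mul_mul_mul_comm (show Commute x (z ^ n) from hzc _ hε x hxC)],
      hee _ hε, one_mul, ← mul_assoc, hzc _ hε _ (mul_mem hxC hsx), mul_assoc]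
    exact mul_mem hε hx3
  -- exchange `p` and `y`
  obtain ⟨g, hgp, hgy⟩ : ∃ g : G, g * p * g⁻¹ = y ∧ g * y * g⁻¹ = p := by
    set y0 := g0⁻¹ * p * g0 with hy0
    have hy0C : y0 ∈ cC z P := by
      refine mem_C_of_comm hJ hNP hp hp1 ?_
      have e : g0⁻¹ * y * g0 = p := by rw [← hg0]; group
      calc y0 * p = g0⁻¹ * p * g0 * (g0⁻¹ * y * g0) := by rw [e]
        _ = g0⁻¹ * (p * y) * g0 := by group
        _ = g0⁻¹ * (y * p) * g0 := by rw [hpy]
        _ = g0⁻¹ * y * g0 * (g0⁻¹ * p * g0) := by group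
        _ = p * y0 := by rw [e]
    have hy03 : orderOf y0 = 3 := by
      rw [hy0, show g0⁻¹ * p * g0 = MulAut.conj g0⁻¹ p by simp, MulEquiv.orderOf_eq, hp3]
    have hy0P : y0 ∉ P := fun h => hyP (by
      rcases eq_one_or_of_card_three (card_P hJ) hp hp1 h with e | e | e
      · rw [e, orderOf_one] at hy03; omega
      · rw [← hg0, ← e, hy0, show g0 * (g0⁻¹ * p * g0) * g0⁻¹ = p by group]; exact hp
      · rw [← hg0, show g0 * p * g0⁻¹ = (g0 * p⁻¹ * g0⁻¹)⁻¹ by group, ← e, hy0,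
          show g0 * (g0⁻¹ * p * g0) * g0⁻¹ = p by group]
        exact inv_mem hp)
    obtain ⟨d, hd, hdy⟩ := J4Local.isConj_three hJ hy hy0C hy3 hy03 hyP hy0P
    refine ⟨g0 * d, ?_, ?_⟩
    · rw [show g0 * d * p * (g0 * d)⁻¹ = g0 * (d * p * d⁻¹) * g0⁻¹ by group,
        ← K_central hJ (P_le_K hJ hp) hd, mul_inv_cancel_right, hg0]
    · rw [show g0 * d * y * (g0 * d)⁻¹ = g0 * (d * y * d⁻¹) * g0⁻¹ by group, hdy, hy0]; group
  have hgz : g * z * g⁻¹ = z1 := zc_unique hJ hNP hp hp1 ⟨g, Or.inl hgp, rfl⟩ Z1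
  have hgz1 : g * z1 * g⁻¹ = z :=
    zc_unique hJ hNP hp hp1 (hgy ▸ zc_conj g Z1) ⟨1, Or.inl (by group), by group⟩
  have hgz2 : g * z2 * g⁻¹ = z2 := by
    refine zc_unique hJ hNP hp hp1 ?_ Z2
    have := zc_conj g Z2
    rwa [show g * (y * p) * g⁻¹ = g * y * g⁻¹ * (g * p * g⁻¹) by group, hgy, hgp, hpy] at this
  have hgz3 : g * z3 * g⁻¹ = z3 := by
    refine zc_unique hJ hNP hp hp1 ?_ Z3
    have hpy1 : g * (y * p * p) * g⁻¹ = (y * p * p)⁻¹ := by
      rw [show g * (y * p * p) * g⁻¹ = g * y * g⁻¹ * (g * p * g⁻¹) * (g * p * g⁻¹) by group, hgy, hgp]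
      refine eq_inv_of_mul_eq_one_left ?_
      have hcm : Commute p y := hpy
      calc p * y * y * (y * p * p) = p * (y * y * y) * p * p := by group
        _ = p * p * p := by rw [show y * y * y = 1 by rw [← pow_three', ← hy3, pow_orderOf_eq_one], mul_one]
        _ = 1 := by rw [← pow_three', P_cube hJ hp]
    exact zc_inv (hpy1 ▸ zc_conj g Z3)
  -- `z1 z2 z3 = z` and `z2 z3 = z1 z`
  have hz12 : z2 ∈ cC z P := mul_mem (mul_mem hs hz1C) (inv_mem hs)
  have hz23 : z3 ∈ cC z P := mul_mem (mul_mem hs hz12) (inv_mem hs)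
  have hQ : z2 * z3 = z1 * z := by
    have h1 : z * (z2 * z3) ∈ Subgroup.zpowers z1 := by
      have : g * (z1 * z2 * z3) * g⁻¹ ∈ Subgroup.zpowers z1 := by
        rcases (CfsgLib.Extra2.mem_zpowers_iff hz2).1 hT with h | h <;> rw [h]
        · simp
        · rw [hgz]; exact Subgroup.mem_zpowers z1
      rwa [show g * (z1 * z2 * z3) * g⁻¹ = g * z1 * g⁻¹ * ((g * z2 * g⁻¹) * (g * z3 * g⁻¹)) by group,
        hgz1, hgz2, hgz3] at this
    rw [mul_assoc] at hT
    have hc : z1 * z = z * z1 := mem_cH.1 hz1C.1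
    rcases (CfsgLib.Extra2.mem_zpowers_iff hz2).1 hT with h | h
    · exfalso
      have e : z2 * z3 = z1 := by rw [eq_inv_of_mul_eq_one_right h, inv_eq_of_mul_eq_one_right z11]
      rw [e] at h1
      rcases (CfsgLib.Extra2.mem_zpowers_iff z11).1 h1 with h2 | h2
      · exact hz1z (mul_left_cancel (h2.trans hz2.symm))
      · exact hz1 (mul_eq_right.1 h2)
    · calc z2 * z3 = z1 * z1 * (z2 * z3) := by rw [z11, one_mul]
        _ = z1 * z := by rw [mul_assoc, h]
  have hz2y : z2 * y = y * z2 := by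
    have h2 : Commute z2 p := (Subgroup.mem_centralizer_iff.1 hz12.2 p hp).symm
    have h1 : Commute z2 (y * p) := by
      show z2 * (y * p) = y * p * z2
      rw [hz2def, ← hsy, show s * z1 * s⁻¹ * (s * y * s⁻¹) = s * (z1 * y) * s⁻¹ by group, hz1y]
      group
    have h := h1.mul_right h2.inv_right
    rwa [mul_inv_cancel_right] at h
  -- the action of `v`
  have hvp : v * p * v⁻¹ = p⁻¹ := inverts hJ hv hv' hp
  have hvy' : v * y * v⁻¹ = y := by rw [hvy, mul_inv_cancel_right]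
  have hp2 : p⁻¹ = p * p := inv_eq_of_mul_eq_one_right (by rw [← mul_assoc, ← pow_three', P_cube hJ hp])
  have hv2 : v * z2 * v⁻¹ = z3 := by
    refine zc_unique hJ hNP hp hp1 ?_ Z3
    have := zc_conj v Z2
    rwa [show v * (y * p) * v⁻¹ = v * y * v⁻¹ * (v * p * v⁻¹) by group, hvy', hvp, hp2, ← mul_assoc] at this
  rcases (CfsgLib.Extra2.mem_zpowers_iff hz2).1 hu2 with h | h
  · exact h
  exfalso
  set d := v * z2 with hd
  have hdd : d * d = z1 := by
    calc d * d = (v * z2 * v⁻¹) * (v * v) * z2 := by rw [hd]; group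
      _ = z3 * z * z2 := by rw [hv2, h]
      _ = z * (z3 * z2) := by rw [mem_cH.1 hz23.1, mul_assoc]
      _ = z * (z2 * z3) := by
          congr 1
          have e : z1 * z2 = z2 * z1 := (hcy z2 ?_).symm
          · calc z3 * z2 = s * (z2 * z1) * s⁻¹ := by rw [hz3def, hz2def]; group
              _ = s * (z1 * z2) * s⁻¹ := by rw [e]
              _ = z2 * z3 := by rw [hz3def, hz2def]; group
          exact hz2y
      _ = z1 := by rw [hQ, ← mul_assoc, ← mem_cH.1 hz1C.1, mul_assoc, hz2, mul_one]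
  have hdy : d * y = y * d :=
    ((show Commute v y from hvy).mul_left (show Commute z2 y from hz2y)).eq
  set w := g⁻¹ * d * g with hw
  have hwC : w ∈ cC z P := by
    refine mem_C_of_comm hJ hNP hp hp1 ?_
    have e : g⁻¹ * y * g = p := by rw [← hgp]; group
    calc w * p = g⁻¹ * d * g * (g⁻¹ * y * g) := by rw [e]
      _ = g⁻¹ * (d * y) * g := by group
      _ = g⁻¹ * (y * d) * g := by rw [hdy]
      _ = g⁻¹ * y * g * (g⁻¹ * d * g) := by group
      _ = p * w := by rw [e]
  have hww : w * w = z := by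
    rw [hw, show g⁻¹ * d * g * (g⁻¹ * d * g) = g⁻¹ * (d * d) * g by group, hdd, ← hgz]; group
  have hwK : w ∉ cK z P := fun hk => hz1 (by
    have := K_pow_six hJ hk
    rw [show (6 : ℕ) = 2 * 3 from rfl, pow_mul, pow_two, hww, pow_succ, pow_two, hz2, one_mul] at this
    exact this)
  obtain ⟨k, hk, hwk⟩ := exists_invol_lift hJ hwC hwK
    (by rw [hww]; exact zpowers_le_K hJ (Subgroup.mem_zpowers z))
  rw [Commute.mul_mul_mul_comm (show Commute k w from K_central hJ (P_le_K hJ hk) hwC), hww] at hwk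
  have hk3 := P_cube hJ hk
  rw [pow_succ, pow_two] at hk3
  have hzk : z = k := by
    rw [eq_inv_of_mul_eq_one_left hwk, inv_eq_of_mul_eq_one_right hk3]
  rw [← hzk, hz2, one_mul] at hk3
  exact hz1 hk3

end CfsgLib.J4Eleven
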