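import Cfsg.Agent.J4Local.Eleven.Sect

/-!
The commutator pairing of the lift of the first elementary subgroup with `E`, and the subgroup of order 32
attached to an element of that lift.
-/

set_option autoImplicit false
set_option maxRecDepth 100000
set_option linter.style.haveILetI false
set_option linter.unusedSectionVars false

namespace CfsgLib.J4Eleven

open CfsgLib.J4Local CfsgLib.J4Local.M22Elem CfsgLib.J4Local.FixMod

theorem two_relations {α : Type*} (R S : α → α → Prop) (Rs : ∀ a b, R a b → R b a)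
    (Rt : ∀ a b c, R a b → R b c → R a c) (Ss : ∀ a b, S a b → S b a)
    (St : ∀ a b c, S a b → S b c → S a c) (h : ∀ a b, R a b ∨ S a b) :
    (∀ a b, R a b) ∨ ∀ a b, S a b := by
  by_contra hc
  simp only [not_or, not_forall] at hc
  obtain ⟨⟨a, b, hab⟩, c, d, hcd⟩ := hc
  have hS : S a b := (h a b).resolve_left hab
  have hR : R c d := (h c d).resolve_right hcd
  have hac : R a c := by
    rcases h a c with h1 | h1
    · exact h1
    · have had : R a d := (h a d).resolve_right fun h2 => hcd (St _ _ _ (Ss _ _ h1) h2)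
      exact Rt _ _ _ had (Rs _ _ hR)
  have hbc : ¬ R b c := fun h1 => hab (Rt _ _ _ hac (Rs _ _ h1))
  have hbd : ¬ R b d := fun h1 => hab (Rt _ _ _ (Rt _ _ _ hac hR) (Rs _ _ h1))
  exact hcd (St _ _ _ (Ss _ _ ((h b c).resolve_left hbc)) ((h b d).resolve_left hbd))

theorem frame_pair_trivial {Z : Type*} [Group Z] (g : Frame27.K4 → Z)
    (hadd : ∀ a b, g (a + b) = g a * g b) (hsq : ∀ a, g a * g a = 1)
    (hw : ∀ a, g (Frame27.mw a) = g a) (a : Frame27.K4) : g a = 1 := by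
  have h0 : g 0 = 1 := mul_eq_left.1 ((hadd 0 0).symm.trans (by rw [add_zero]))
  rcases Frame27.orth_coord a with rfl | h
  · exact h0
  · rw [← h0, ← h, hadd, hadd, hw, hw, hw, hsq, one_mul]

variable {G : Type*} [Group G] [Finite G] {z : G} {P : Subgroup G}
variable (hJ : Cfsg.IsOfJankoFourTypeWith z P) {A : Subgroup M} {s : M} (hA : Hexad A s)

include hJ

theorem fixedMod_of_gen {K : Subgroup G} {p d : G} (hp : p ∈ P) (hp1 : p ≠ 1)
    (hpK : p ∈ Subgroup.normalizer (K : Set G)) (h : p * d * p⁻¹ * d⁻¹ ∈ K) : FixedMod K (P : Set G) d := by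
  intro q hq
  rcases eq_one_or_of_card_three (card_P hJ) hp hp1 hq with rfl | rfl | rfl
  · simp [one_mem]
  · exact h
  · have h5 := (Subgroup.mem_normalizer_iff.1 (inv_mem hpK) _).1 (inv_mem h)
    simpa [mul_assoc] using h5

/-- The fixed subgroup modulo the centre. -/
noncomputable def sX (hJ : Cfsg.IsOfJankoFourTypeWith z P) {A : Subgroup M} {s : M} (hA : Hexad A s) : Sect G where
  D := fixA hJ A
  K := Subgroup.zpowers z
  le := Subgroup.zpowers_le.2 (z_mem_fixA hJ A)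
  norm := (fixA_le hJ A).trans E_le_normalizer_z
  sq := fun d hd => by rw [fixA_sq hJ hA.first hd]; exact one_mem _

/-- The group modulo the fixed subgroup. -/
noncomputable def sE (hJ : Cfsg.IsOfJankoFourTypeWith z P) (A : Subgroup M) : Sect G where
  D := cE z
  K := fixA hJ A
  le := fixA_le hJ A
  norm := le_normalizer_of_z_mem hJ (fixA_le hJ A) (z_mem_fixA hJ A)
  sq := fun d hd => by
    rcases (gen_E hJ).square d hd with h | h <;> rw [h]
    · exact one_mem _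
    · exact z_mem_fixA hJ A

include hA

theorem preA_le_norms : preA hJ A ≤ Subgroup.normalizer ((sX hJ hA).D : Set G) ∧
    preA hJ A ≤ Subgroup.normalizer ((sX hJ hA).K : Set G) ∧
    preA hJ A ≤ Subgroup.normalizer ((sE hJ A).D : Set G) ∧
    preA hJ A ≤ Subgroup.normalizer ((sE hJ A).K : Set G) :=
  ⟨preA_le_normalizer_fixA hJ A, (preA_le_H hJ A).trans H_le_normalizer_z,
    (preA_le_H hJ A).trans H_le_normalizer_E, preA_le_normalizer_fixA hJ A⟩

theorem card_sX : Nat.card (sX hJ hA).D = 64 * Nat.card (sX hJ hA).K := by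
  show Nat.card ↥(fixA hJ A) = 64 * Nat.card ↥(Subgroup.zpowers z)
  rw [card_fixA hJ hA.first, card_zpowers_z hJ]

theorem card_sE : Nat.card (sE hJ A).D = 64 * Nat.card (sE hJ A).K := by
  show Nat.card ↥(cE z) = 64 * Nat.card ↥(fixA hJ A)
  rw [card_fixA hJ hA.first, card_E hJ]; norm_num

theorem fix_sX {p : G} (hp : p ∈ P) (hp1 : p ≠ 1) :
    ∀ d ∈ (sX hJ hA).D, p * d * p⁻¹ * d⁻¹ ∈ (sX hJ hA).K → d ∈ (sX hJ hA).K := fun d hd h =>
  mem_zpowers_of_P_fixed hJ (fixA_le hJ A hd)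
    (fixedMod_of_gen hJ hp hp1 (H_le_normalizer_z (P_le_H hJ hp)) h)

theorem fix_sE {p : G} (hp : p ∈ P) (hp1 : p ≠ 1) :
    ∀ d ∈ (sE hJ A).D, p * d * p⁻¹ * d⁻¹ ∈ (sE hJ A).K → d ∈ (sE hJ A).K := fun d hd h => by
  haveI : Fact (Nat.Prime 3) := ⟨Nat.prime_three⟩
  have hPn : P ≤ Subgroup.normalizer (fixA hJ A : Set G) := (P_le_pre hJ _).trans (normalizer_fixA hJ A)
  obtain ⟨k, hk, hc⟩ := exists_fixed_mul (isPGroup_P hJ) hPn
    (by rw [card_fixA hJ hA.first]; norm_num) (fixedMod_of_gen hJ hp hp1 (hPn hp) h)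
  have hm : k * d ∈ Subgroup.zpowers z := E_inf_centralizer hJ ▸ ⟨mul_mem (fixA_le hJ A hk) hd, hc⟩
  exact (Subgroup.mul_mem_cancel_left _ hk).1 (Subgroup.zpowers_le.2 (z_mem_fixA hJ A) hm)

omit hA in
theorem comm_cases {x y : G} (hx : x ∈ cE z) (hy : y ∈ cE z) :
    x * y * x⁻¹ * y⁻¹ = 1 ∨ x * y * x⁻¹ * y⁻¹ = z := (gen_E hJ).comm x hx y hy

omit hA in
theorem comm_mul_right' {x y w : G} (hx : x ∈ cE z) (hy : y ∈ cE z) (hw : w ∈ cE z) :
    x * (y * w) * x⁻¹ * (y * w)⁻¹ = (x * y * x⁻¹ * y⁻¹) * (x * w * x⁻¹ * w⁻¹) := by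
  have hc : y * (x * w * x⁻¹ * w⁻¹) = (x * w * x⁻¹ * w⁻¹) * y := by
    rcases comm_cases hJ hx hw with h | h <;> rw [h]
    · simp
    · exact ((gen_E hJ).comm_z y hy).eq
  calc x * (y * w) * x⁻¹ * (y * w)⁻¹
      = (x * y * x⁻¹ * y⁻¹) * (y * (x * w * x⁻¹ * w⁻¹)) * y⁻¹ := by group
    _ = _ := by rw [hc]; group

omit hA in
theorem comm_swap {x y : G} (hx : x ∈ cE z) (hy : y ∈ cE z) :
    y * x * y⁻¹ * x⁻¹ = x * y * x⁻¹ * y⁻¹ := by
  have h : y * x * y⁻¹ * x⁻¹ = (x * y * x⁻¹ * y⁻¹)⁻¹ := by group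
  rw [h]
  rcases comm_cases hJ hx hy with e | e <;> rw [e]
  · exact inv_one
  · exact inv_eq_of_mul_eq_one_right (z_sq hJ)

omit hA in
theorem comm_mul_left' {x y w : G} (hx : x ∈ cE z) (hy : y ∈ cE z) (hw : w ∈ cE z) :
    (x * y) * w * (x * y)⁻¹ * w⁻¹ = (x * w * x⁻¹ * w⁻¹) * (y * w * y⁻¹ * w⁻¹) := by
  rw [← comm_swap hJ (mul_mem hx hy) hw, comm_mul_right' hJ hw hx hy, comm_swap hJ hx hw, comm_swap hJ hy hw]

theorem comm_fixA_one {x y : G} (hx : x ∈ fixA hJ A) (hy : y ∈ fixA hJ A) : x * y * x⁻¹ * y⁻¹ = 1 := by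
  rw [fixA_comm hJ hA.first hx hy]; group

/-- The commutator with an element of the lift. -/
noncomputable def bHom {a : G} (ha : a ∈ liftTwo hJ A) :
    ↥(sE hJ A).D →* ↥(sX hJ hA).D ⧸ (sX hJ hA).K.subgroupOf (sX hJ hA).D :=
  MonoidHom.mk'
    (fun e => QuotientGroup.mk' _ (⟨e * a * (e : G)⁻¹ * a⁻¹, comm_mem_fixA hJ hA e.2 ha⟩ : ↥(sX hJ hA).D))
    fun e f => by
      set u : G := (e : G) * a * (e : G)⁻¹ * a⁻¹
      set v : G := (f : G) * a * (f : G)⁻¹ * a⁻¹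
      have hv : v ∈ fixA hJ A := comm_mem_fixA hJ hA f.2 ha
      have hu : u ∈ fixA hJ A := comm_mem_fixA hJ hA e.2 ha
      rw [← map_mul]
      refine QuotientGroup.eq.2 (Subgroup.mem_subgroupOf.2 ?_)
      show ((e : G) * f * a * ((e : G) * f)⁻¹ * a⁻¹)⁻¹ * (u * v) ∈ Subgroup.zpowers z
      rw [show (e : G) * f * a * ((e : G) * f)⁻¹ * a⁻¹ = ((e : G) * v * (e : G)⁻¹) * u by
        simp only [u, v]; group]
      have hvE := fixA_le hJ A hv
      rcases CfsgLib.Extra2.conj_eq (gen_E hJ) e.2 hvE with h | h <;> rw [h]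
      · rw [fixA_comm hJ hA.first hu hv, inv_mul_cancel]; exact one_mem _
      · rw [mul_assoc z v u, fixA_comm hJ hA.first hu hv, mul_inv_rev]
        have hvu : v * u ∈ cE z := mul_mem (fixA_le hJ A hv) (fixA_le hJ A hu)
        simpa [mul_assoc] using (Subgroup.mem_normalizer_iff.1 (inv_mem (E_le_normalizer_z hvu)) z⁻¹).1
          (inv_mem (Subgroup.mem_zpowers z))

/-- The pairing. -/
noncomputable def bmap {a : G} (ha : a ∈ liftTwo hJ A) : (sE hJ A).Q →+ (sX hJ hA).Q :=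
  MonoidHom.toAdditive (QuotientGroup.lift ((sE hJ A).K.subgroupOf (sE hJ A).D) (bHom hJ hA ha)
    fun x hx => by
      rw [MonoidHom.mem_ker]
      refine (QuotientGroup.eq_one_iff _).2 (Subgroup.mem_subgroupOf.2 ?_)
      show (x : G) * a * (x : G)⁻¹ * a⁻¹ ∈ Subgroup.zpowers z
      rw [← fixA_commute_liftTwo hJ hA.first (Subgroup.mem_subgroupOf.1 hx) ha, mul_inv_cancel_right,
        mul_inv_cancel]
      exact one_mem _)

theorem bmap_cls {a e : G} (ha : a ∈ liftTwo hJ A) (he : e ∈ (sE hJ A).D) :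
    bmap hJ hA ha ((sE hJ A).cls e he) = (sX hJ hA).cls (e * a * e⁻¹ * a⁻¹) (comm_mem_fixA hJ hA he ha) :=
  rfl

theorem bmap_mul {a b : G} (ha : a ∈ liftTwo hJ A) (hb : b ∈ liftTwo hJ A) (q : (sE hJ A).Q) :
    bmap hJ hA (mul_mem ha hb) q = bmap hJ hA ha q + bmap hJ hA hb q := by
  obtain ⟨e, he, rfl⟩ := (sE hJ A).exists_mk q
  refine ((sX hJ hA).mk_congr _ (mul_mem (S := Subgroup G) (comm_mem_fixA hJ hA he ha)
    (comm_mem_fixA hJ hA he hb)) ?_).trans ((sX hJ hA).mk_mul _ _)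
  have h := fixA_commute_liftTwo hJ hA.first (comm_mem_fixA hJ hA he hb) ha
  calc e * (a * b) * e⁻¹ * (a * b)⁻¹ = (e * a * e⁻¹ * a⁻¹) * (a * (e * b * e⁻¹ * b⁻¹)) * a⁻¹ := by group
    _ = _ := by rw [h]; group

theorem bmap_z {a : G} (ha : a ∈ liftTwo hJ A) (haz : a ∈ Subgroup.zpowers z) (q : (sE hJ A).Q) :
    bmap hJ hA ha q = 0 := by
  obtain ⟨e, he, rfl⟩ := (sE hJ A).exists_mk q
  refine ((sX hJ hA).mk_eq_zero (comm_mem_fixA hJ hA he ha)).2 ?_
  show e * a * e⁻¹ * a⁻¹ ∈ Subgroup.zpowers z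
  have : e * a = a * e := by
    rcases (CfsgLib.Extra2.mem_zpowers_iff (z_sq hJ)).1 haz with rfl | rfl
    · simp
    · exact ((gen_E hJ).comm_z e he).eq
  rw [this, mul_inv_cancel_right, mul_inv_cancel]
  exact one_mem _

theorem bmap_congr {a b : G} (ha : a ∈ liftTwo hJ A) (hb : b ∈ liftTwo hJ A)
    (h : a⁻¹ * b ∈ Subgroup.zpowers z) (q : (sE hJ A).Q) : bmap hJ hA ha q = bmap hJ hA hb q := by
  have e : b = a * (a⁻¹ * b) := by group
  have hab : a⁻¹ * b ∈ liftTwo hJ A := mul_mem (inv_mem ha) hb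
  have h1 := bmap_mul hJ hA ha hab q
  rw [bmap_z hJ hA hab h, add_zero] at h1
  rw [← h1]
  congr 2
  exact e.symm

theorem bmap_conj {k a : G} (hk : k ∈ preA hJ A) (ha : a ∈ liftTwo hJ A) (q : (sE hJ A).Q) :
    (sX hJ hA).act k ((preA_le_norms hJ hA).1 hk) ((preA_le_norms hJ hA).2.1 hk) (bmap hJ hA ha q) =
      bmap hJ hA (conj_liftTwo_preA hJ hk ha)
        ((sE hJ A).act k ((preA_le_norms hJ hA).2.2.1 hk) ((preA_le_norms hJ hA).2.2.2 hk) q) := by
  obtain ⟨e, he, rfl⟩ := (sE hJ A).exists_mk q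
  exact (sX hJ hA).mk_congr _ _ (show k * (e * a * e⁻¹ * a⁻¹) * k⁻¹ =
    (k * e * k⁻¹) * (k * a * k⁻¹) * (k * e * k⁻¹)⁻¹ * (k * a * k⁻¹)⁻¹ by group)

/-- Commutators are symmetric under the pairing. -/
theorem bmap_symm {a e f : G} (ha : a ∈ liftTwo hJ A) (he : e ∈ cE z) (hf : f ∈ cE z) :
    (e * a * e⁻¹ * a⁻¹) * f * (e * a * e⁻¹ * a⁻¹)⁻¹ * f⁻¹ =
      e * (f * a * f⁻¹ * a⁻¹) * e⁻¹ * (f * a * f⁻¹ * a⁻¹)⁻¹ := by
  set u := e * a * e⁻¹ * a⁻¹ with hu
  set v := f * a * f⁻¹ * a⁻¹ with hv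
  have huX : u ∈ fixA hJ A := comm_mem_fixA hJ hA he ha
  have hvX : v ∈ fixA hJ A := comm_mem_fixA hJ hA hf ha
  have haH : a ∈ cH z := liftTwo_le_H hJ A ha
  have hae : a * e * a⁻¹ = u * e := by
    rw [← inv_eq_of_mul_eq_one_right (fixA_sq hJ hA.first huX), hu]; group
  have haf : a * f * a⁻¹ = v * f := by
    rw [← inv_eq_of_mul_eq_one_right (fixA_sq hJ hA.first hvX), hv]; group
  have hfix : a * (e * f * e⁻¹ * f⁻¹) * a⁻¹ = e * f * e⁻¹ * f⁻¹ := by
    rcases comm_cases hJ he hf with h | h <;> rw [h]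
    · group
    · rw [mem_cH.1 haH, mul_inv_cancel_right]
  rw [show a * (e * f * e⁻¹ * f⁻¹) * a⁻¹ =
    (a * e * a⁻¹) * (a * f * a⁻¹) * (a * e * a⁻¹)⁻¹ * (a * f * a⁻¹)⁻¹ by group, hae, haf] at hfix
  have huE := fixA_le hJ A huX
  have hvE := fixA_le hJ A hvX
  rw [comm_mul_right' hJ (mul_mem huE he) hvE hf, comm_mul_left' hJ huE he hvE,
    comm_mul_left' hJ huE he hf, comm_fixA_one hJ hA huX hvX, one_mul] at hfix
  set s1 := e * v * e⁻¹ * v⁻¹
  set s2 := u * f * u⁻¹ * f⁻¹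
  set s3 := e * f * e⁻¹ * f⁻¹
  have h12 : s1 * s2 = 1 := by
    rw [← mul_assoc] at hfix
    exact mul_eq_right.1 hfix
  have hs1 : s1 * s1 = 1 := by
    rcases comm_cases hJ he hvE with h | h <;> rw [show s1 = _ from h]
    · exact one_mul 1
    · exact z_sq hJ
  exact mul_left_cancel (h12.trans hs1.symm)

/-- Some element of the lift has a degenerate pairing. -/
theorem exists_degenerate : ∃ a, ∃ ha : a ∈ liftTwo hJ A, a ∉ Subgroup.zpowers z ∧
    ∃ q, q ≠ 0 ∧ bmap hJ hA ha q = 0 := by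
  classical
  obtain ⟨p, y, r, hpP, hp1, hp3, hy3, hr3, hyN, hrN, hry, hfpf⟩ := exists_frame27 hJ hA
  have hyA := pre_le_preA hJ A hyN
  have hrA := pre_le_preA hJ A hrN
  have hpA : p ∈ preA hJ A := pre_le_preA hJ A (P_le_pre hJ _ hpP)
  have hpy : p * y = y * p := K_central hJ (P_le_K hJ hpP) (pre_le hJ _ hyN)
  have hpr : p * r = r * p := K_central hJ (P_le_K hJ hpP) (pre_le hJ _ hrN)
  obtain ⟨n1, n2, n3, n4⟩ := preA_le_norms hJ hA
  obtain ⟨θX, cX⟩ := ((sX hJ hA).frame hp3 hy3 hr3 hpy hpr hry (n1 hpA) (n2 hpA) (n1 hyA) (n2 hyA) (n1 hrA)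
    (n2 hrA) (fix_sX hJ hA hpP hp1) (card_sX hJ hA)).exists_coords
  obtain ⟨θE, cE'⟩ := ((sE hJ A).frame hp3 hy3 hr3 hpy hpr hry (n3 hpA) (n4 hpA) (n3 hyA) (n4 hyA) (n3 hrA)
    (n4 hrA) (fix_sE hJ hA hpP hp1) (card_sE hJ hA)).exists_coords
  let eX := AddEquiv.ofBijective θX cX.bij
  have heX : ∀ v, eX v = θX v := fun _ => rfl
  let F : ∀ {a : G}, a ∈ liftTwo hJ A → Frame27.V6 → Frame27.V6 := fun ha v =>
    eX.symm (bmap hJ hA ha (θE v))
  have hF : ∀ {a : G} (ha : a ∈ liftTwo hJ A) v, θX (F ha v) = bmap hJ hA ha (θE v) := fun ha v =>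
    eX.apply_symm_apply _
  have Fadd : ∀ {a : G} (ha : a ∈ liftTwo hJ A) v w, F ha (v + w) = F ha v + F ha w := fun ha v w => by
    show eX.symm _ = eX.symm _ + eX.symm _
    rw [map_add, map_add, map_add]
  have Fmul : ∀ {a b : G} (ha : a ∈ liftTwo hJ A) (hb : b ∈ liftTwo hJ A) v,
      F (mul_mem ha hb) v = F ha v + F hb v := fun ha hb v => by
    show eX.symm _ = eX.symm _ + eX.symm _
    rw [bmap_mul hJ hA ha hb, map_add]
  have FP : ∀ {a : G} (ha : a ∈ liftTwo hJ A) v, F ha (Frame27.mP v) = Frame27.mP (F ha v) := by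
    intro a ha v
    refine cX.bij.1 ?_
    rw [hF, ← cX.hp, hF, ← cE'.hp, bmap_conj hJ hA hpA ha]
    refine bmap_congr hJ hA ha _ ?_ _
    rw [K_central hJ (P_le_K hJ hpP) (liftTwo_le_C hJ A ha), mul_inv_cancel_right, inv_mul_cancel]
    exact one_mem _
  have FY : ∀ {a : G} (ha : a ∈ liftTwo hJ A) v,
      F (conj_liftTwo_preA hJ hyA ha) (Frame27.mY v) = Frame27.mY (F ha v) := by
    intro a ha v
    refine cX.bij.1 ?_
    rw [hF, ← cX.hy, hF, ← cE'.hy, bmap_conj hJ hA hyA ha]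
  have hmw : ∀ u : Frame27.K4, Frame27.mw u = 0 → u = 0 := by decide
  have hK2 : ∀ u : Frame27.K4, u + u = 0 := by decide
  -- a function on the lift that is invariant under the fixed-point-free element vanishes
  have hzero : ∀ g : ∀ {a : G}, a ∈ liftTwo hJ A → Frame27.K4,
      (∀ {a b : G} (ha : a ∈ liftTwo hJ A) (hb : b ∈ liftTwo hJ A), g (mul_mem ha hb) = g ha + g hb) →
      (∀ {a : G} (ha : a ∈ liftTwo hJ A), g (conj_liftTwo_preA hJ hyA ha) = g ha) →
      (∀ {a : G} (ha : a ∈ liftTwo hJ A), a ∈ Subgroup.zpowers z → g ha = 0) →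
      ∀ {a : G} (ha : a ∈ liftTwo hJ A), g ha = 0 := by
    intro g gadd ginv gz a ha
    set a1 := y * a * y⁻¹ with ha1'
    have ha1 : a1 ∈ liftTwo hJ A := conj_liftTwo_preA hJ hyA ha
    set a2 := y * a1 * y⁻¹ with ha2'
    have ha2 : a2 ∈ liftTwo hJ A := conj_liftTwo_preA hJ hyA ha1
    have ha3 : y * a2 * y⁻¹ = a := by
      rw [ha2', ha1', show y * (y * (y * a * y⁻¹) * y⁻¹) * y⁻¹ = y ^ 3 * a * (y ^ 3)⁻¹ by
        simp only [pow_succ, pow_zero, one_mul]; group, hy3, one_mul, inv_one, mul_one]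
    have hw : a * a1 * a2 ∈ liftTwo hJ A := mul_mem (mul_mem ha ha1) ha2
    have hfix : y * (a * a1 * a2) * y⁻¹ = a * a1 * a2 := by
      rw [show y * (a * a1 * a2) * y⁻¹ = (y * a * y⁻¹) * (y * a1 * y⁻¹) * (y * a2 * y⁻¹) by group,
        ← ha1', ← ha2', ha3, liftTwo_comm hJ hA.first (mul_mem ha1 ha2) ha, ← mul_assoc]
    have hwz := gz hw (hfpf _ hw (by rw [hfix, mul_inv_cancel]; exact one_mem _))
    rw [gadd (mul_mem ha ha1) ha2, gadd ha ha1, show g ha2 = g ha1 from ginv ha1,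
      show g ha1 = g ha from ginv ha, hK2, zero_add] at hwz
    exact hwz
  have Fz : ∀ {a : G} (ha : a ∈ liftTwo hJ A), a ∈ Subgroup.zpowers z → ∀ v, F ha v = 0 := fun ha haz v => by
    show eX.symm _ = 0
    rw [bmap_z hJ hA ha haz, map_zero]
  have hd0 : ∀ (u : Frame27.K4) {a : G} (ha : a ∈ liftTwo hJ A), (F ha (u, 0, 0)).1 = 0 := by
    intro u
    refine hzero (fun ha => (F ha (u, 0, 0)).1) (fun ha hb => ?_) (fun ha => ?_) fun ha h => ?_
    · rw [Fmul]; rfl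
    · have h := congrArg Prod.fst (FY ha (u, 0, 0))
      exact h
    · rw [Fz ha h]; rfl
  have hd1 : ∀ (u : Frame27.K4) {a : G} (ha : a ∈ liftTwo hJ A), (F ha (0, u, 0)).2.1 = 0 := by
    intro u
    refine hzero (fun ha => (F ha (0, u, 0)).2.1) (fun ha hb => ?_) (fun ha => ?_) fun ha h => ?_
    · rw [Fmul]; rfl
    · rename_i a
      have h := congrArg (fun v => v.2.1) (FY ha (0, u, 0))
      have h' := congrArg (fun v => v.2.1) (FP (conj_liftTwo_preA hJ hyA ha) (0, u, 0))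
      have e : Frame27.mY ((0, u, 0) : Frame27.V6) = (0, Frame27.mw u, 0) := rfl
      have e' : Frame27.mP ((0, u, 0) : Frame27.V6) = (0, Frame27.mw u, 0) := rfl
      rw [e] at h
      rw [e'] at h'
      have h2 : Frame27.mw (F (conj_liftTwo_preA hJ hyA ha) (0, u, 0)).2.1 =
          Frame27.mw (F ha (0, u, 0)).2.1 := h'.symm.trans h
      exact (by decide : Function.Injective Frame27.mw) h2
    · rw [Fz ha h]; rfl
  -- an element killing one coordinate
  obtain ⟨a, ha, haz, hga⟩ : ∃ a, ∃ ha : a ∈ liftTwo hJ A, a ∉ Subgroup.zpowers z ∧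
      (F ha ((1, 0), (0, 0), (0, 0))).2.1 = 0 := by
    let g : ↥(liftTwo hJ A) →* Multiplicative Frame27.K4 := MonoidHom.mk'
      (fun a => Multiplicative.ofAdd (F a.2 ((1, 0), (0, 0), (0, 0))).2.1)
      fun a b => by
        show Multiplicative.ofAdd (F (mul_mem a.2 b.2) _).2.1 = _
        rw [Fmul]; rfl
    by_contra hne
    push Not at hne
    have hle : g.ker.map (liftTwo hJ A).subtype ≤ Subgroup.zpowers z := by
      rintro _ ⟨a, hg, rfl⟩
      by_contra haz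
      exact hne a a.2 haz (congrArg Multiplicative.toAdd (MonoidHom.mem_ker.1 hg))
    have h1 := Subgroup.card_le_of_le hle
    rw [Subgroup.card_map_of_injective (liftTwo hJ A).subtype_injective, card_zpowers_z hJ] at h1
    have h2 := g.ker.card_mul_index
    have h3 : g.ker.index ≤ 4 := by
      rw [Subgroup.index_ker]
      refine (Subgroup.card_le_card_group _).trans (le_of_eq ?_)
      simp [Frame27.K4]
    rw [(liftTwo_spec hJ hA.first.card hA.first.exp).1] at h2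
    have := Nat.mul_le_mul h1 h3
    omega
  have hu2 : ∀ u : Frame27.K4, (F ha (u, 0, 0)).2.1 = 0 := by
    have hcases : ∀ u : Frame27.K4, u = 0 ∨ u = (1, 0) ∨ u = Frame27.mw (1, 0) ∨
        u = Frame27.mw (Frame27.mw (1, 0)) := by decide
    have hP : ∀ u, (F ha (u, 0, 0)).2.1 = 0 → (F ha (Frame27.mw u, 0, 0)).2.1 = 0 := fun u hu => by
      have h := congrArg (fun v => v.2.1) (FP ha (u, 0, 0))
      refine h.trans ?_
      show Frame27.mw (F ha (u, 0, 0)).2.1 = 0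
      rw [hu]; rfl
    intro u
    rcases hcases u with rfl | rfl | rfl | rfl
    · have h : F ha ((0, 0, 0) : Frame27.V6) = 0 := eX.symm.map_eq_zero_iff.2 (by
        show bmap hJ hA ha (θE 0) = 0
        rw [map_zero, map_zero])
      rw [h]; rfl
    · exact hga
    · exact hP _ hga
    · exact hP _ (hP _ hga)
  -- the commutator of classes
  let rE : Frame27.V6 → G := fun v => ((sE hJ A).exists_mk (θE v)).choose
  have rE_mem : ∀ v, rE v ∈ (sE hJ A).D := fun v => ((sE hJ A).exists_mk (θE v)).choose_spec.choose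
  have rE_cls : ∀ v, (sE hJ A).cls (rE v) (rE_mem v) = θE v :=
    fun v => ((sE hJ A).exists_mk (θE v)).choose_spec.choose_spec
  let rX : Frame27.V6 → G := fun v => ((sX hJ hA).exists_mk (θX v)).choose
  have rX_mem : ∀ v, rX v ∈ (sX hJ hA).D := fun v => ((sX hJ hA).exists_mk (θX v)).choose_spec.choose
  have rX_cls : ∀ v, (sX hJ hA).cls (rX v) (rX_mem v) = θX v :=
    fun v => ((sX hJ hA).exists_mk (θX v)).choose_spec.choose_spec
  let pr : Frame27.V6 → Frame27.V6 → G := fun v w => rE v * rX w * (rE v)⁻¹ * (rX w)⁻¹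
  have pr_eq : ∀ {e x : G} (he : e ∈ cE z) (hx : x ∈ fixA hJ A) (v w : Frame27.V6),
      (sE hJ A).cls e he = θE v → (sX hJ hA).cls x hx = θX w → e * x * e⁻¹ * x⁻¹ = pr v w := by
    intro e x he hx v w h1 h2
    have h1' := ((sE hJ A).mk_eq _ _).1 ((rE_cls v).trans h1.symm)
    have h2' := ((sX hJ hA).mk_eq _ _).1 ((rX_cls w).trans h2.symm)
    have hxE := fixA_le hJ A hx
    have hwE : (rX w)⁻¹ * x ∈ cE z := Subgroup.zpowers_le.2 (z_mem_E hJ) h2'
    have hrX := fixA_le hJ A (rX_mem w)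
    calc e * x * e⁻¹ * x⁻¹
        = (rE v * ((rE v)⁻¹ * e)) * x * (rE v * ((rE v)⁻¹ * e))⁻¹ * x⁻¹ := by rw [mul_inv_cancel_left]
      _ = rE v * x * (rE v)⁻¹ * x⁻¹ := by
          rw [comm_mul_left' hJ (rE_mem v) (mul_mem (inv_mem (rE_mem v)) he) hxE,
            comm_fixA_one hJ hA h1' hx, mul_one]
      _ = rE v * (rX w * ((rX w)⁻¹ * x)) * (rE v)⁻¹ * (rX w * ((rX w)⁻¹ * x))⁻¹ := by
          rw [mul_inv_cancel_left]
      _ = pr v w := by
          rw [comm_mul_right' hJ (rE_mem v) hrX hwE]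
          have hc : rE v * ((rX w)⁻¹ * x) = (rX w)⁻¹ * x * rE v := by
            rcases (CfsgLib.Extra2.mem_zpowers_iff (z_sq hJ)).1 h2' with e' | e' <;> rw [e']
            · simp
            · exact ((gen_E hJ).comm_z _ (rE_mem v)).eq
          rw [hc, mul_inv_cancel_right, mul_inv_cancel, mul_one]
  have pr_addR : ∀ v w w', pr v (w + w') = pr v w * pr v w' := fun v w w' => by
    rw [← pr_eq (rE_mem v) (mul_mem (rX_mem w) (rX_mem w')) v (w + w') (rE_cls v)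
      (by rw [(sX hJ hA).mk_mul (rX_mem w) (rX_mem w'), rX_cls, rX_cls, map_add]),
      comm_mul_right' hJ (rE_mem v) (fixA_le hJ A (rX_mem w)) (fixA_le hJ A (rX_mem w'))]
  have pr_addL : ∀ v v' w, pr (v + v') w = pr v w * pr v' w := fun v v' w => by
    rw [← pr_eq (mul_mem (rE_mem v) (rE_mem v')) (rX_mem w) (v + v') w
      (by rw [(sE hJ A).mk_mul (rE_mem v) (rE_mem v'), rE_cls, rE_cls, map_add]) (rX_cls w),
      comm_mul_left' hJ (rE_mem v) (rE_mem v') (fixA_le hJ A (rX_mem w))]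
  have pr_sq : ∀ v w, pr v w * pr v w = 1 := fun v w => by
    rcases comm_cases hJ (rE_mem v) (fixA_le hJ A (rX_mem w)) with h | h <;> rw [show pr v w = _ from h]
    · exact one_mul 1
    · exact z_sq hJ
  have pr_conj : ∀ (k : G) (hk : k ∈ preA hJ A) (v v' w w' : Frame27.V6),
      (sE hJ A).act k (n3 hk) (n4 hk) (θE v) = θE v' →
      (sX hJ hA).act k (n1 hk) (n2 hk) (θX w) = θX w' → pr v' w' = pr v w := by
    intro k hk v v' w w' h1 h2
    rw [← rE_cls v, Sect.act_mk] at h1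
    rw [← rX_cls w, Sect.act_mk] at h2
    rw [← pr_eq _ _ v' w' h1 h2]
    rw [show k * rE v * k⁻¹ * (k * rX w * k⁻¹) * (k * rE v * k⁻¹)⁻¹ * (k * rX w * k⁻¹)⁻¹ =
      k * pr v w * k⁻¹ by simp only [pr]; group]
    rcases comm_cases hJ (rE_mem v) (fixA_le hJ A (rX_mem w)) with h | h <;> rw [show pr v w = _ from h]
    · group
    · rw [mem_cH.1 (preA_le_H hJ A hk), mul_inv_cancel_right]
  have prP : ∀ v w, pr (Frame27.mP v) (Frame27.mP w) = pr v w := fun v w =>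
    pr_conj p hpA v _ w _ (cE'.hp v) (cX.hp w)
  have prY : ∀ v w, pr (Frame27.mY v) (Frame27.mY w) = pr v w := fun v w =>
    pr_conj y hyA v _ w _ (cE'.hy v) (cX.hy w)
  have hadd0 : ∀ u u' : Frame27.K4, ((u, 0, 0) : Frame27.V6) + (u', 0, 0) = (u + u', 0, 0) := fun u u' => by
    simp [Prod.mk_add_mk]
  -- orthogonality
  have o01 : ∀ u b, pr (u, 0, 0) (0, b, 0) = 1 := fun u b =>
    frame_pair_trivial (fun b => pr (u, 0, 0) (0, b, 0))
      (fun a c => by rw [← pr_addR] <;> simp) (fun a => pr_sq _ _)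
      (fun a => prY (u, 0, 0) (0, a, 0)) b
  have o02 : ∀ u b, pr (u, 0, 0) (0, 0, b) = 1 := fun u b =>
    frame_pair_trivial (fun b => pr (u, 0, 0) (0, 0, b))
      (fun a c => by rw [← pr_addR] <;> simp) (fun a => pr_sq _ _)
      (fun a => by
        have h1 := prY (u, 0, 0) (0, 0, Frame27.mw a)
        have h2 : Frame27.mw (Frame27.mw (Frame27.mw a)) = a :=
          (by decide : ∀ a : Frame27.K4, Frame27.mw (Frame27.mw (Frame27.mw a)) = a) a
        show pr (u, 0, 0) (0, 0, Frame27.mw a) = pr (u, 0, 0) (0, 0, a)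
        rw [← h1]
        show pr (u, 0, 0) (0, 0, Frame27.mw (Frame27.mw (Frame27.mw a))) = _
        rw [h2]) b
  have o10 : ∀ u b, pr (0, u, 0) (b, 0, 0) = 1 := fun u b =>
    frame_pair_trivial (fun u => pr (0, u, 0) (b, 0, 0))
      (fun a c => by rw [← pr_addL] <;> simp) (fun a => pr_sq _ _)
      (fun a => prY (0, a, 0) (b, 0, 0)) u
  have o20 : ∀ u b, pr (0, 0, u) (b, 0, 0) = 1 := fun u b =>
    frame_pair_trivial (fun u => pr (0, 0, u) (b, 0, 0))
      (fun a c => by rw [← pr_addL] <;> simp) (fun a => pr_sq _ _)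
      (fun a => by
        have h1 := prY (0, 0, Frame27.mw a) (b, 0, 0)
        have h2 : Frame27.mw (Frame27.mw (Frame27.mw a)) = a :=
          (by decide : ∀ a : Frame27.K4, Frame27.mw (Frame27.mw (Frame27.mw a)) = a) a
        show pr (0, 0, Frame27.mw a) (b, 0, 0) = pr (0, 0, a) (b, 0, 0)
        rw [← h1]
        show pr (0, 0, Frame27.mw (Frame27.mw (Frame27.mw a))) (b, 0, 0) = _
        rw [h2]) u
  have o12 : ∀ u b, pr (0, u, 0) (0, 0, b) = 1 := fun u b =>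
    frame_pair_trivial (fun b => pr (0, u, 0) (0, 0, b))
      (fun a c => by rw [← pr_addR] <;> simp) (fun a => pr_sq _ _)
      (fun a => by
        obtain ⟨u', rfl⟩ := (by decide : Function.Surjective Frame27.mw) u
        obtain ⟨c, rfl⟩ := (by decide : Function.Surjective Frame27.mw) a
        exact (prY (0, u', 0) (0, 0, c)).trans (prP (0, u', 0) (0, 0, c)).symm) b
  have hC1 : ∀ u : Frame27.K4, ∃ x2 : Frame27.K4, F ha (0, u, 0) = (0, 0, x2) := by
    intro u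
    obtain ⟨⟨x0, x1, x2⟩, hx⟩ : ∃ v, F ha (0, u, 0) = v := ⟨_, rfl⟩
    have hx1 : x1 = 0 := by
      have := hd1 u ha
      rw [hx] at this
      exact this
    subst hx1
    refine ⟨x2, ?_⟩
    have hx0 : ∀ c : Frame27.K4, pr (c, 0, 0) (x0, 0, 0) = 1 := by
      intro c
      obtain ⟨w0, w1, w2, hw⟩ : ∃ w0 w1 w2, F ha (c, 0, 0) = (w0, w1, w2) := ⟨_, _, _, rfl⟩
      have hw0 : w0 = 0 := by
        have := hd0 c ha
        rw [hw] at this
        exact this
      have hw1 : w1 = 0 := by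
        have := hu2 c
        rw [hw] at this
        exact this
      subst hw0 hw1
      -- symmetry of the pairing
      set e := rE (0, u, 0)
      set f := rE (c, 0, 0)
      have hu' : (sX hJ hA).cls (e * a * e⁻¹ * a⁻¹) (comm_mem_fixA hJ hA (rE_mem _) ha) =
          θX (x0, 0, x2) := by
        refine (bmap_cls hJ hA ha (rE_mem _)).symm.trans ?_
        rw [rE_cls, ← hF, hx]
      have hv' : (sX hJ hA).cls (f * a * f⁻¹ * a⁻¹) (comm_mem_fixA hJ hA (rE_mem _) ha) =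
          θX (0, 0, w2) := by
        refine (bmap_cls hJ hA ha (rE_mem _)).symm.trans ?_
        rw [rE_cls, ← hF, hw]
      have h1 := pr_eq (rE_mem (c, 0, 0)) (comm_mem_fixA hJ hA (rE_mem (0, u, 0)) ha) (c, 0, 0) (x0, 0, x2)
        (rE_cls _) hu'
      have h2 := pr_eq (rE_mem (0, u, 0)) (comm_mem_fixA hJ hA (rE_mem (c, 0, 0)) ha) (0, u, 0) (0, 0, w2)
        (rE_cls _) hv'
      have h3 : pr (c, 0, 0) (x0, 0, x2) = 1 := by
        rw [← h1, comm_swap hJ (fixA_le hJ A (comm_mem_fixA hJ hA (rE_mem (0, u, 0)) ha)) (rE_mem (c, 0, 0)),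
          bmap_symm hJ hA ha (rE_mem (0, u, 0)) (rE_mem (c, 0, 0)), h2, o12]
      rw [show ((x0, 0, x2) : Frame27.V6) = (x0, 0, 0) + (0, 0, x2) by simp [Prod.mk_add_mk], pr_addR, o02,
        mul_one] at h3
      exact h3
    have hall : ∀ v, pr v (x0, 0, 0) = 1 := by
      rintro ⟨c, d, g⟩
      rw [show ((c, d, g) : Frame27.V6) = (c, 0, 0) + (0, d, 0) + (0, 0, g) by simp [Prod.mk_add_mk],
        pr_addL, pr_addL, hx0, o10, o20, one_mul, one_mul]
    have hcen : (x0, 0, 0) = (0 : Frame27.V6) := by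
      refine cX.bij.1 ?_
      rw [map_zero, ← rX_cls, Sect.mk_eq_zero]
      refine (CfsgLib.Extra2.mem_zpowers_iff (z_sq hJ)).2
        ((gen_E hJ).center_iff _ (fixA_le hJ A (rX_mem _)) fun e he => ?_)
      obtain ⟨v, hv⟩ := cE'.bij.2 ((sE hJ A).cls e he)
      have h := pr_eq he (rX_mem (x0, 0, 0)) v (x0, 0, 0) hv.symm (rX_cls _)
      rw [hall] at h
      exact (mul_inv_eq_iff_eq_mul.1 (mul_inv_eq_one.1 h)).symm
    rw [hx, show x0 = 0 from congrArg Prod.fst hcen]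
  refine ⟨a, ha, haz, ?_⟩
  have hz' : ∀ u, ∃ x2, F ha (u, 0, 0) = (0, 0, x2) := fun u =>
    ⟨(F ha (u, 0, 0)).2.2, Prod.ext (hd0 u ha) (Prod.ext (hu2 u) rfl)⟩
  let g : Frame27.K4 × Frame27.K4 → Frame27.K4 := fun q => (F ha (q.1, q.2, 0)).2.2
  obtain ⟨q1, q2, hne, hq⟩ := Fintype.exists_ne_map_eq_of_card_lt g (by simp [Frame27.K4])
  have hform : ∀ q : Frame27.K4 × Frame27.K4, F ha (q.1, q.2, 0) = (0, 0, g q) := by
    intro q
    obtain ⟨a2, e1⟩ := hz' q.1
    obtain ⟨b2, e2⟩ := hC1 q.2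
    have h : F ha (q.1, q.2, 0) = (0, 0, a2 + b2) := by
      rw [show ((q.1, q.2, 0) : Frame27.V6) = (q.1, 0, 0) + (0, q.2, 0) by simp [Prod.mk_add_mk], Fadd, e1,
        e2]
      simp [Prod.mk_add_mk]
    rw [h, show g q = (F ha (q.1, q.2, 0)).2.2 from rfl, h]
  have heq : bmap hJ hA ha (θE (q1.1, q1.2, 0)) = bmap hJ hA ha (θE (q2.1, q2.2, 0)) := by
    rw [← hF, ← hF, hform, hform, hq]
  refine ⟨θE ((q1.1, q1.2, 0) - (q2.1, q2.2, 0)), fun h => hne ?_, by rw [map_sub, map_sub, heq, sub_self]⟩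
  have h' := sub_eq_zero.1 (cE'.bij.1 (h.trans (map_zero θE).symm))
  simp only [Prod.mk.injEq, and_true] at h'
  exact Prod.ext h'.1 h'.2

end CfsgLib.J4Eleven
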