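import Cfsg.Agent.J4Local.Eleven.Sigma
import Cfsg.Agent.J4Local.Eleven.Frame

/-!
Elementary sections as additive groups, and the frame of order 27 in the normaliser of the first
elementary subgroup of order sixteen.
-/

set_option autoImplicit false
set_option maxRecDepth 100000
set_option linter.style.haveILetI false
set_option linter.unusedSectionVars false

namespace CfsgLib.J4Eleven

open CfsgLib.J4Local CfsgLib.J4Local.M22Elem CfsgLib.J4Local.FixMod

/-- An elementary abelian section. -/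
structure Sect (G : Type*) [Group G] where
  D : Subgroup G
  K : Subgroup G
  le : K ≤ D
  norm : D ≤ Subgroup.normalizer (K : Set G)
  sq : ∀ d ∈ D, d * d ∈ K

namespace Sect

variable {G : Type*} [Group G] (S : Sect G)

instance normalK : (S.K.subgroupOf S.D).Normal :=
  ⟨fun x hx g => Subgroup.mem_subgroupOf.2 (by
    show (g : G) * x * (g : G)⁻¹ ∈ S.K
    exact (Subgroup.mem_normalizer_iff.1 (S.norm g.2) x).1 (Subgroup.mem_subgroupOf.1 hx))⟩

/-- The quotient, written additively. -/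
def Q : Type _ := Additive (↥S.D ⧸ S.K.subgroupOf S.D)

instance : AddGroup S.Q := inferInstanceAs (AddGroup (Additive (↥S.D ⧸ S.K.subgroupOf S.D)))

/-- The class of an element. -/
def cls (d : G) (h : d ∈ S.D) : S.Q := Additive.ofMul (QuotientGroup.mk (⟨d, h⟩ : ↥S.D))

theorem mk_mul {a b : G} (ha : a ∈ S.D) (hb : b ∈ S.D) :
    S.cls (a * b) (mul_mem ha hb) = S.cls a ha + S.cls b hb := rfl

theorem mk_congr {a b : G} (ha : a ∈ S.D) (hb : b ∈ S.D) (h : a = b) : S.cls a ha = S.cls b hb := by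
  subst h; rfl

theorem exists_mk (q : S.Q) : ∃ d, ∃ h : d ∈ S.D, S.cls d h = q := by
  obtain ⟨⟨d, h⟩, e⟩ := QuotientGroup.mk_surjective (Additive.toMul q)
  exact ⟨d, h, congrArg Additive.ofMul e⟩

theorem mk_eq_zero {a : G} (ha : a ∈ S.D) : S.cls a ha = 0 ↔ a ∈ S.K :=
  (QuotientGroup.eq_one_iff (⟨a, ha⟩ : ↥S.D)).trans Subgroup.mem_subgroupOf

theorem mk_eq {a b : G} (ha : a ∈ S.D) (hb : b ∈ S.D) : S.cls a ha = S.cls b hb ↔ a⁻¹ * b ∈ S.K :=
  (QuotientGroup.eq (a := (⟨a, ha⟩ : ↥S.D)) (b := ⟨b, hb⟩)).trans Subgroup.mem_subgroupOf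

theorem two (q : S.Q) : q + q = 0 := by
  obtain ⟨d, h, rfl⟩ := S.exists_mk q
  rw [← S.mk_mul h h, S.mk_eq_zero]
  exact S.sq d h

theorem add_comm' (a b : S.Q) : a + b = b + a := by
  have i : ∀ q : S.Q, -q = q := fun q => neg_eq_of_add_eq_zero_right (S.two q)
  rw [← i (a + b), neg_add_rev, i a, i b]

instance : AddCommGroup S.Q := { (inferInstance : AddGroup S.Q) with add_comm := S.add_comm' }

instance [Finite G] : Finite S.Q := inferInstanceAs (Finite (↥S.D ⧸ S.K.subgroupOf S.D))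

theorem card_Q : Nat.card S.Q * Nat.card S.K = Nat.card S.D := by
  show Nat.card (↥S.D ⧸ S.K.subgroupOf S.D) * _ = _
  rw [← Nat.card_congr (Subgroup.subgroupOfEquivOfLe S.le).toEquiv,
    ← Subgroup.card_eq_card_quotient_mul_card_subgroup]

/-- The classes of the elements of a subgroup. -/
theorem card_image {W : Subgroup G} (hW : W ≤ S.D) (hKW : S.K ≤ W) :
    Nat.card {q : S.Q // ∃ w, ∃ h : w ∈ W, S.cls w (hW h) = q} * Nat.card S.K = Nat.card W := by
  have h := CfsgLib.J4Local.FixMod.card_map_mul_card_inf_ker (QuotientGroup.mk' (S.K.subgroupOf S.D))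
    (W.subgroupOf S.D)
  have hinf : W.subgroupOf S.D ⊓ (QuotientGroup.mk' (S.K.subgroupOf S.D)).ker = S.K.subgroupOf S.D := by
    rw [QuotientGroup.ker_mk']
    exact inf_eq_right.2 fun x hx => hKW hx
  rw [hinf, Nat.card_congr (Subgroup.subgroupOfEquivOfLe S.le).toEquiv,
    Nat.card_congr (Subgroup.subgroupOfEquivOfLe hW).toEquiv] at h
  refine Eq.trans ?_ h
  congr 1
  refine Nat.card_congr (Additive.toMul.subtypeEquiv fun q => ?_)
  constructor
  · rintro ⟨w, hw, rfl⟩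
    exact ⟨⟨w, hW hw⟩, hw, rfl⟩
  · rintro ⟨⟨w, hwD⟩, hw, e⟩
    exact ⟨w, hw, congrArg Additive.ofMul e⟩

/-- Conjugation. -/
def act (k : G) (hD : k ∈ Subgroup.normalizer (S.D : Set G)) (hK : k ∈ Subgroup.normalizer (S.K : Set G)) :
    S.Q →+ S.Q :=
  MonoidHom.toAdditive (QuotientGroup.map (S.K.subgroupOf S.D) (S.K.subgroupOf S.D)
    (MonoidHom.mk' (fun d : ↥S.D => (⟨k * d * k⁻¹, (Subgroup.mem_normalizer_iff.1 hD d).1 d.2⟩ : ↥S.D))
      fun a b => Subtype.ext (show k * (a * b : G) * k⁻¹ = k * a * k⁻¹ * (k * b * k⁻¹) by group))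
    fun x hx => Subgroup.mem_subgroupOf.2
      ((Subgroup.mem_normalizer_iff.1 hK x).1 (Subgroup.mem_subgroupOf.1 hx)))

theorem act_mk {k d : G} (hD : k ∈ Subgroup.normalizer (S.D : Set G))
    (hK : k ∈ Subgroup.normalizer (S.K : Set G)) (h : d ∈ S.D) :
    S.act k hD hK (S.cls d h) = S.cls (k * d * k⁻¹) ((Subgroup.mem_normalizer_iff.1 hD d).1 h) := rfl

/-- The action of a normalising subgroup. -/
abbrev action (Γ : Subgroup G) (hD : Γ ≤ Subgroup.normalizer (S.D : Set G))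
    (hK : Γ ≤ Subgroup.normalizer (S.K : Set G)) : DistribMulAction ↥Γ S.Q where
  smul g q := S.act g (hD g.2) (hK g.2) q
  one_smul q := by
    obtain ⟨d, h, rfl⟩ := S.exists_mk q
    exact S.mk_congr _ _ (show (1 : G) * d * (1 : G)⁻¹ = d by group)
  mul_smul g g' q := by
    obtain ⟨d, h, rfl⟩ := S.exists_mk q
    exact S.mk_congr _ _ (show (g * g' : G) * d * ((g : G) * g')⁻¹ =
      g * (g' * d * (g' : G)⁻¹) * (g : G)⁻¹ by group)
  smul_zero g := (S.act (g : G) (hD g.2) (hK g.2)).map_zero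
  smul_add g a b := (S.act (g : G) (hD g.2) (hK g.2)).map_add a b

/-- A frame from three elements. -/
theorem frame [Finite G] {p y r : G} (hp : p ^ 3 = 1) (hy : y ^ 3 = 1) (hr : r ^ 3 = 1)
    (hpy : p * y = y * p) (hpr : p * r = r * p) (hry : r * y = p * y * r)
    (npD : p ∈ Subgroup.normalizer (S.D : Set G)) (npK : p ∈ Subgroup.normalizer (S.K : Set G))
    (nyD : y ∈ Subgroup.normalizer (S.D : Set G)) (nyK : y ∈ Subgroup.normalizer (S.K : Set G))
    (nrD : r ∈ Subgroup.normalizer (S.D : Set G)) (nrK : r ∈ Subgroup.normalizer (S.K : Set G))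
    (hfix : ∀ d ∈ S.D, p * d * p⁻¹ * d⁻¹ ∈ S.K → d ∈ S.K) (hc : Nat.card S.D = 64 * Nat.card S.K) :
    Frame27.Frame (S.act p npD npK) (S.act y nyD nyK) (S.act r nrD nrK) := by
  have hcube : ∀ {k : G}, k ^ 3 = 1 → ∀ d : G, k * (k * (k * d * k⁻¹) * k⁻¹) * k⁻¹ = d := fun {k} hk d => by
    calc k * (k * (k * d * k⁻¹) * k⁻¹) * k⁻¹ = k ^ 3 * d * (k ^ 3)⁻¹ := by
          simp only [pow_succ, pow_zero, one_mul]; group
      _ = d := by rw [hk, one_mul, inv_one, mul_one]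
  refine ⟨S.two, ?_, ?_, ?_, ?_, ?_, ?_, ?_, ?_⟩
  · have h := S.card_Q
    rw [hc] at h
    exact Nat.eq_of_mul_eq_mul_right Nat.card_pos h
  · intro q; obtain ⟨d, h, rfl⟩ := S.exists_mk q
    simp only [act_mk]; exact S.mk_congr _ _ (hcube hp d)
  · intro q; obtain ⟨d, h, rfl⟩ := S.exists_mk q
    simp only [act_mk]; exact S.mk_congr _ _ (hcube hy d)
  · intro q; obtain ⟨d, h, rfl⟩ := S.exists_mk q
    simp only [act_mk]; exact S.mk_congr _ _ (hcube hr d)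
  · intro q hq; obtain ⟨d, h, rfl⟩ := S.exists_mk q
    rw [act_mk, S.mk_eq] at hq
    rw [S.mk_eq_zero]
    refine hfix d h ?_
    have h2 := inv_mem hq
    rw [mul_inv_rev, inv_inv] at h2
    have h3 := (Subgroup.mem_normalizer_iff.1 (S.norm h) _).1 h2
    rwa [show d * (d⁻¹ * (p * d * p⁻¹)) * d⁻¹ = p * d * p⁻¹ * d⁻¹ by group] at h3
  · intro q; obtain ⟨d, h, rfl⟩ := S.exists_mk q
    simp only [act_mk]
    refine S.mk_congr _ _ ?_
    rw [show p * (y * d * y⁻¹) * p⁻¹ = (p * y) * d * (p * y)⁻¹ by group, hpy]; group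
  · intro q; obtain ⟨d, h, rfl⟩ := S.exists_mk q
    simp only [act_mk]
    refine S.mk_congr _ _ ?_
    rw [show p * (r * d * r⁻¹) * p⁻¹ = (p * r) * d * (p * r)⁻¹ by group, hpr]; group
  · intro q; obtain ⟨d, h, rfl⟩ := S.exists_mk q
    simp only [act_mk]
    refine S.mk_congr _ _ ?_
    rw [show r * (y * d * y⁻¹) * r⁻¹ = (r * y) * d * (r * y)⁻¹ by group, hry]; group

end Sect

variable {G : Type*} [Group G] [Finite G] {z : G} {P : Subgroup G}
variable (hJ : Cfsg.IsOfJankoFourTypeWith z P) {A : Subgroup M} {s : M} (hA : Hexad A s)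

include hJ

theorem P_cube {q : G} (hq : q ∈ P) : q ^ 3 = 1 := by
  have h := pow_card_eq_one' (G := ↥P) (x := ⟨q, hq⟩)
  rw [card_P hJ] at h
  exact congrArg Subtype.val h

theorem mem_P_of_K {k : G} (hk : k ∈ cK z P) (h3 : k ^ 3 = 1) : k ∈ P := by
  obtain ⟨u, hu, p, hp, rfl⟩ := (CfsgLib.Solvable.mem_sup_of_le_normalizer
    (Subgroup.zpowers_le.2 (Subgroup.centralizer_le_normalizer _ (z_mem_C_P hJ)) :
      Subgroup.zpowers z ≤ Subgroup.normalizer (P : Set G))).1 hk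
  have hc : Commute u p := K_central hJ (zpowers_le_K hJ hu) (P_le_C hJ hp)
  rw [hc.mul_pow, P_cube hJ hp, mul_one] at h3
  rcases (CfsgLib.Extra2.mem_zpowers_iff (z_sq hJ)).1 hu with rfl | rfl
  · rwa [one_mul]
  · rw [pow_succ, pow_two, z_sq hJ, one_mul] at h3
    exact absurd h3 (z_ne_one hJ)

/-- Elements of order three lift to elements of order three. -/
theorem exists_cube_lift {x : M} (hx : x ^ 3 = 1) (hx1 : x ≠ 1) :
    ∃ g, ∃ h : g ∈ cC z P, g ^ 3 = 1 ∧ quo hJ ⟨g, h⟩ = x := by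
  haveI : Fact (Nat.Prime 3) := ⟨Nat.prime_three⟩
  obtain ⟨⟨g0, hg0⟩, e0⟩ := quo_surjective hJ x
  set g := g0 ^ 4 with hgdef
  have hg : g ∈ cC z P := pow_mem hg0 4
  have he : quo hJ ⟨g, hg⟩ = x := by
    rw [show (⟨g, hg⟩ : ↥(cC z P)) = ⟨g0, hg0⟩ ^ 4 from rfl, map_pow, e0, pow_succ, hx, one_mul]
  have h3 : g ^ 3 ∈ cK z P := by
    have : quo hJ (⟨g, hg⟩ ^ 3) = 1 := by rw [map_pow, he, hx]
    exact (quo_eq_one_iff hJ).1 this
  have hxo : orderOf x = 3 := orderOf_eq_prime hx hx1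
  obtain ⟨c, hc⟩ := isConj_iff.1 (J4M22.isConj_three hxo (show orderOf x⁻¹ = 3 by rw [orderOf_inv, hxo]))
  obtain ⟨⟨d, hd⟩, rfl⟩ := quo_surjective hJ c
  have hk : d * g * d⁻¹ * g ∈ cK z P := by
    have : quo hJ (⟨d, hd⟩ * ⟨g, hg⟩ * ⟨d, hd⟩⁻¹ * ⟨g, hg⟩) = 1 := by
      rw [map_mul, map_mul, map_mul, map_inv, he, hc, inv_mul_cancel]
    exact (quo_eq_one_iff hJ).1 this
  set k := d * g * d⁻¹ * g with hkdef
  have h1 : (d * g * d⁻¹) ^ 3 = g ^ 3 := by
    rw [conj_pow, ← K_central hJ h3 hd, mul_inv_cancel_right]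
  have hcomm : Commute k g⁻¹ := K_central hJ hk (inv_mem hg)
  have h2 : g ^ 3 * g ^ 3 = k ^ 3 := by
    rw [show d * g * d⁻¹ = k * g⁻¹ by rw [hkdef]; group, hcomm.mul_pow, inv_pow] at h1
    calc g ^ 3 * g ^ 3 = k ^ 3 * (g ^ 3)⁻¹ * g ^ 3 := by rw [h1]
      _ = k ^ 3 := inv_mul_cancel_right _ _
  have h6 : (g ^ 3) ^ 4 = 1 := by
    rw [show (g ^ 3) ^ 4 = (g ^ 3 * g ^ 3) * (g ^ 3 * g ^ 3) by simp only [pow_succ, pow_zero, one_mul, mul_assoc],
      h2, ← pow_add, K_pow_six hJ hk]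
  refine ⟨g ^ 4, pow_mem hg 4, ?_, ?_⟩
  · rw [← pow_mul, show 4 * 3 = 3 * 4 from rfl, pow_mul, h6]
  · rw [show (⟨g ^ 4, _⟩ : ↥(cC z P)) = ⟨g, hg⟩ ^ 4 from rfl, map_pow, he, pow_succ, hx, one_mul]

include hA

/-- The frame. -/
theorem exists_frame27 : ∃ p y r : G, p ∈ P ∧ p ≠ 1 ∧ p ^ 3 = 1 ∧ y ^ 3 = 1 ∧ r ^ 3 = 1 ∧
    y ∈ pre hJ (Subgroup.normalizer (A : Set M)) ∧ r ∈ pre hJ (Subgroup.normalizer (A : Set M)) ∧
    r * y = p * y * r ∧
    ∀ a ∈ liftTwo hJ A, y * a * y⁻¹ * a⁻¹ ∈ Subgroup.zpowers z → a ∈ Subgroup.zpowers z := by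
  obtain ⟨x, hxN, x', hxN', hpair, hfpf⟩ := hA.nine
  obtain ⟨hx3, hx'3, hxx', hx1, hx'1, -, -⟩ := id hpair
  obtain ⟨y, hyC, hy3, hyx⟩ := exists_cube_lift hJ hx3 hx1
  obtain ⟨r, hrC, hr3, hrx⟩ := exists_cube_lift hJ hx'3 hx'1
  set p := r * y * r⁻¹ * y⁻¹ with hp
  have hpC : p ∈ cC z P := mul_mem (mul_mem (mul_mem hrC hyC) (inv_mem hrC)) (inv_mem hyC)
  have hpK : p ∈ cK z P := by
    have : quo hJ (⟨r, hrC⟩ * ⟨y, hyC⟩ * ⟨r, hrC⟩⁻¹ * ⟨y, hyC⟩⁻¹) = 1 := by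
      simp only [map_mul, map_inv, hyx, hrx, ← hxx', mul_inv_cancel_right, mul_inv_cancel]
    exact (quo_eq_one_iff hJ).1 this
  have hp3 : p ^ 3 = 1 := by
    have h : r * y * r⁻¹ = p * y := by rw [hp]; group
    have h1 : (r * y * r⁻¹) ^ 3 = 1 := by rw [conj_pow, hy3, mul_one, mul_inv_cancel]
    rwa [h, (show Commute p y from K_central hJ hpK hyC).mul_pow, hy3, mul_one] at h1
  refine ⟨p, y, r, mem_P_of_K hJ hpK hp3, ?_, hp3, hy3, hr3, (mem_pre hJ).2 ⟨hyC, hyx ▸ hxN⟩,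
    (mem_pre hJ).2 ⟨hrC, hrx ▸ hxN'⟩, by rw [hp]; group, fun a ha h => ?_⟩
  · intro hp1
    have hry : r * y = y * r := mul_inv_eq_iff_eq_mul.1 (mul_inv_eq_one.1 hp1)
    obtain ⟨R, hR, -, hna, -⟩ := exists_twentyseven hJ (K := Subgroup.closure ({x, x'} : Set M))
      ⟨x, Subgroup.subset_closure (by simp), x', Subgroup.subset_closure (by simp), hpair⟩
    let W : Subgroup G := Subgroup.closure ({r, y} ∪ (cK z P : Set G))
    have hcommW : ∀ u ∈ W, ∀ v ∈ W, u * v = v * u := by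
      have key : ∀ u ∈ ({r, y} ∪ (cK z P : Set G)), ∀ v ∈ ({r, y} ∪ (cK z P : Set G)), u * v = v * u := by
        intro u hu v hv
        have hin : ∀ {w}, w ∈ ({r, y} : Set G) → w ∈ cC z P := by
          rintro w (rfl | rfl) <;> assumption
        rcases hu with hu | hu <;> rcases hv with hv | hv
        · rcases hu with rfl | rfl <;> rcases hv with rfl | rfl
          exacts [rfl, hry, hry.symm, rfl]
        · exact (K_central hJ hv (hin hu)).symm
        · exact K_central hJ hu (hin hv)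
        · exact K_central hJ hu (K_le_C hJ hv)
      intro u hu v hv
      have h1 : ∀ a ∈ ({r, y} ∪ (cK z P : Set G)), ∀ b ∈ W, a * b = b * a := fun a ha b hb =>
        (Subgroup.mem_centralizer_singleton_iff.1 ((Subgroup.closure_le _).2
          (fun b hb => Subgroup.mem_centralizer_singleton_iff.2 (key b hb a ha)) hb)).symm
      exact Subgroup.mem_centralizer_singleton_iff.1 ((Subgroup.closure_le _).2
        (fun a ha => Subgroup.mem_centralizer_singleton_iff.2 (h1 a ha v hv)) hu)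
    have hle : Subgroup.closure ({x, x'} : Set M) ≤ img hJ W := by
      refine (Subgroup.closure_le _).2 ?_
      rintro w (rfl | rfl)
      · exact (mem_img hJ).2 ⟨y, hyC, Subgroup.subset_closure (Or.inl (by simp)), hyx⟩
      · exact (mem_img hJ).2 ⟨r, hrC, Subgroup.subset_closure (Or.inl (by simp)), hrx⟩
    have hRW : R ≤ W := fun g hg => by
      obtain ⟨hgC, hgK⟩ := (mem_pre hJ).1 (hR hg)
      obtain ⟨w, hwC, hw, e⟩ := (mem_img hJ).1 (hle hgK)
      have hd := (quo_eq_iff hJ).1 e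
      rw [show g = w * (w⁻¹ * g) by group]
      exact mul_mem hw (Subgroup.subset_closure (Or.inr hd))
    exact hna ⟨⟨fun u v => Subtype.ext (hcommW u (hRW u.2) v (hRW v.2))⟩⟩
  · obtain ⟨haC, haA⟩ := quo_liftTwo hJ hA ha
    refine mem_z_of_quo_one hJ hA ha haC (hfpf _ haA ?_)
    have h' : quo hJ (⟨y, hyC⟩ * ⟨a, haC⟩ * ⟨y, hyC⟩⁻¹ * ⟨a, haC⟩⁻¹) = 1 :=
      (quo_eq_one_iff hJ).2 (zpowers_le_K hJ h)
    simp only [map_mul, map_inv, hyx] at h'
    exact mul_inv_eq_one.1 h'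

end CfsgLib.J4Eleven
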