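import Cfsg.Agent.J4Local.Eleven.Data
import Cfsg.Agent.J4Local.Eleven
import Cfsg.Agent.J4Local.M22Facts

/-!
The action of the normaliser of `P` in the centraliser of `z` on M₂₂, and the normaliser in that
centraliser of the standard elementary subgroup of order `2 ^ 11`.
-/

set_option autoImplicit false
set_option maxRecDepth 100000
set_option linter.style.haveILetI false
set_option linter.unusedSectionVars false

namespace CfsgLib.J4Eleven

open CfsgLib.J4Local CfsgLib.J4Local.M22Elem CfsgLib.J4Local.FixMod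

variable {G : Type*} [Group G] [Finite G] {z : G} {P : Subgroup G}
variable (hJ : Cfsg.IsOfJankoFourTypeWith z P)

include hJ

theorem exists_sigma : ∃ σ : ↥(cA z P) →* MulAut M, Function.Surjective σ ∧
    σ.ker = (cK z P).subgroupOf (cA z P) ∧
    ∀ c : ↥(cC z P), σ (Subgroup.inclusion C_le_A c) = MulAut.conj (quo hJ c) := by
  obtain ⟨f, hf, hker⟩ := exists_hom hJ
  set f' : ↥(cC z P) →* MulAut M := f.comp (Subgroup.inclusion C_le_A) with hf'
  have hkle : f.ker ≤ (cC z P).subgroupOf (cA z P) := by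
    rw [hker]; exact fun a ha => K_le_C hJ ha
  have hrange : f'.range = Cfsg.Inn M := by
    refine eq_inn_of_index_two ?_
    rw [show f'.range = ((cC z P).subgroupOf (cA z P)).map f by
      rw [MonoidHom.range_eq_map, hf', ← Subgroup.map_map]
      congr 1
      rw [← MonoidHom.range_eq_map]
      ext a
      constructor
      · rintro ⟨b, rfl⟩; exact b.2
      · intro ha; exact ⟨⟨a, ha⟩, rfl⟩]
    rw [Subgroup.index_map, sup_eq_left.mpr hkle, index_C hJ, MonoidHom.range_eq_top.mpr hf,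
      Subgroup.index_top]
  have hker' : f'.ker = (quo hJ).ker := by
    ext ⟨c, hc⟩
    rw [ker_quo, hf', MonoidHom.mem_ker, MonoidHom.comp_apply, ← MonoidHom.mem_ker, hker]
    rfl
  let g : M →* MulAut M := (quo hJ).liftOfSurjective (quo_surjective hJ) ⟨f', hker'.ge⟩
  have hg : ∀ c, g (quo hJ c) = f' c := fun c =>
    MonoidHom.liftOfRightInverse_comp_apply _ _ _ ⟨f', hker'.ge⟩ c
  have hginj : Function.Injective g := (injective_iff_map_eq_one g).2 fun x hx => by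
    obtain ⟨c, rfl⟩ := quo_surjective hJ x
    rw [hg, ← MonoidHom.mem_ker, hker', MonoidHom.mem_ker] at hx
    exact hx
  have hgr : ∀ x, ∃ y, MulAut.conj y = g x := fun x => by
    obtain ⟨c, rfl⟩ := quo_surjective hJ x
    rw [hg]
    exact hrange.le ⟨c, rfl⟩
  let b : M →* M :=
    { toFun := fun x => (hgr x).choose
      map_one' := J4M22.conj_injective (by rw [(hgr 1).choose_spec, map_one, map_one])
      map_mul' := fun x y => J4M22.conj_injective (by
        rw [map_mul MulAut.conj, (hgr _).choose_spec, (hgr x).choose_spec, (hgr y).choose_spec, map_mul]) }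
  have hb : ∀ x, MulAut.conj (b x) = g x := fun x => (hgr x).choose_spec
  have hbinj : Function.Injective b := fun x y h => hginj (by rw [← hb, ← hb, h])
  let β : MulAut M := MulEquiv.ofBijective b (Finite.injective_iff_bijective.1 hbinj)
  refine ⟨(MulAut.conj β⁻¹).toMonoidHom.comp f, (MulAut.conj β⁻¹).surjective.comp hf, ?_, fun c => ?_⟩
  · rw [← hker]
    ext x
    rw [MonoidHom.mem_ker, MonoidHom.mem_ker, MonoidHom.comp_apply]
    exact (MulAut.conj β⁻¹).map_eq_one_iff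
  · show β⁻¹ * f' c * β⁻¹⁻¹ = _
    rw [← hg, ← hb, inv_inv]
    refine MulEquiv.ext fun y => ?_
    show β.symm (b (quo hJ c) * β y * (b (quo hJ c))⁻¹) = quo hJ c * y * (quo hJ c)⁻¹
    rw [MulEquiv.symm_apply_eq]
    show _ = b (quo hJ c * y * (quo hJ c)⁻¹)
    rw [map_mul, map_mul, map_inv]
    rfl

/-- The action of the normaliser of `P` in `H` on M22. -/
noncomputable def sig : ↥(cA z P) →* MulAut M := (exists_sigma hJ).choose

theorem sig_surjective : Function.Surjective (sig hJ) := (exists_sigma hJ).choose_spec.1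

theorem ker_sig : (sig hJ).ker = (cK z P).subgroupOf (cA z P) := (exists_sigma hJ).choose_spec.2.1

theorem sig_C {c : G} (hc : c ∈ cC z P) :
    sig hJ ⟨c, C_le_A hc⟩ = MulAut.conj (quo hJ ⟨c, hc⟩) := (exists_sigma hJ).choose_spec.2.2 ⟨c, hc⟩

theorem sig_eq_one_iff {k : G} (hk : k ∈ cA z P) : sig hJ ⟨k, hk⟩ = 1 ↔ k ∈ cK z P := by
  rw [← MonoidHom.mem_ker, ker_sig, Subgroup.mem_subgroupOf]

theorem conj_mem_C {k c : G} (hk : k ∈ cA z P) (hc : c ∈ cC z P) : k * c * k⁻¹ ∈ cC z P :=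
  have hk1 : k ∈ cH z := hk.1
  Subgroup.mem_inf.2 ⟨mul_mem (mul_mem hk1 hc.1) (inv_mem hk1), conj_centralizer_mem hJ hk.2 hc.2⟩

theorem sig_apply {k c : G} (hk : k ∈ cA z P) (hc : c ∈ cC z P) :
    sig hJ ⟨k, hk⟩ (quo hJ ⟨c, hc⟩) = quo hJ ⟨k * c * k⁻¹, conj_mem_C hJ hk hc⟩ := by
  refine J4M22.conj_injective ?_
  rw [← sig_C hJ (conj_mem_C hJ hk hc),
    show (⟨k * c * k⁻¹, _⟩ : ↥(cA z P)) = ⟨k, hk⟩ * ⟨c, C_le_A hc⟩ * ⟨k, hk⟩⁻¹ from rfl,
    map_mul, map_mul, map_inv, sig_C hJ hc]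
  refine MulEquiv.ext fun y => ?_
  rw [MulAut.mul_apply, MulAut.mul_apply, MulAut.conj_apply, MulAut.conj_apply, map_mul, map_mul, map_inv,
    MulAut.apply_inv_self]

omit hJ in
/-- The automorphisms fixing a subgroup. -/
def nA (A : Subgroup M) : Subgroup (MulAut M) where
  carrier := {α | ∀ a, α a ∈ A ↔ a ∈ A}
  one_mem' := fun _ => Iff.rfl
  mul_mem' := fun {α β} hα hβ a => (hα (β a)).trans (hβ a)
  inv_mem' := fun {α} hα a => by
    have := (hα (α⁻¹ a)).symm
    rwa [MulAut.apply_inv_self] at this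

omit hJ in
theorem mem_nA {A : Subgroup M} {α : MulAut M} : α ∈ nA A ↔ ∀ a, α a ∈ A ↔ a ∈ A := Iff.rfl

omit hJ in
theorem mem_nA_of {A : Subgroup M} {α : MulAut M} (h : ∀ a ∈ A, α a ∈ A) : α ∈ nA A := by
  intro a
  refine ⟨fun ha => ?_, h a⟩
  have e : A.map α.toMonoidHom = A := Subgroup.eq_of_le_of_card_ge
    (by rintro _ ⟨x, hx, rfl⟩; exact h x hx) (Subgroup.card_map_of_injective α.injective).ge
  obtain ⟨x, hx, ex⟩ := Subgroup.mem_map.1 (e.ge ha)
  exact α.injective ex ▸ hx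

omit hJ in
theorem conj_mem_nA {A : Subgroup M} {m : M} : MulAut.conj m ∈ nA A ↔ m ∈ Subgroup.normalizer (A : Set M) := by
  rw [mem_nA, Subgroup.mem_normalizer_iff]
  exact ⟨fun h a => (h a).symm, fun h a => (h a).symm⟩

/-- The elements of the normaliser of `P` in `H` fixing `A`. -/
noncomputable def preA (A : Subgroup M) : Subgroup G := ((nA A).comap (sig hJ)).map (cA z P).subtype

theorem mem_preA {A : Subgroup M} {k : G} :
    k ∈ preA hJ A ↔ ∃ h : k ∈ cA z P, sig hJ ⟨k, h⟩ ∈ nA A := by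
  constructor
  · rintro ⟨⟨d, hd⟩, hd', rfl⟩; exact ⟨hd, hd'⟩
  · rintro ⟨h, h'⟩; exact ⟨⟨k, h⟩, h', rfl⟩

theorem preA_le (A : Subgroup M) : preA hJ A ≤ cA z P := Subgroup.map_subtype_le _

theorem preA_le_H (A : Subgroup M) : preA hJ A ≤ cH z := (preA_le hJ A).trans inf_le_left

theorem pre_le_preA (A : Subgroup M) : pre hJ (Subgroup.normalizer (A : Set M)) ≤ preA hJ A := fun c hc => by
  obtain ⟨hcC, hcN⟩ := (mem_pre hJ).1 hc
  exact (mem_preA hJ).2 ⟨C_le_A hcC, by rw [sig_C hJ hcC, conj_mem_nA]; exact hcN⟩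

theorem card_preA (A : Subgroup M) : Nat.card ↥(preA hJ A) = 6 * Nat.card ↥(nA A) := by
  rw [preA, Subgroup.card_map_of_injective (cA z P).subtype_injective]
  have h1 := ((nA A).comap (sig hJ)).card_mul_index
  rw [Subgroup.index_comap_of_surjective _ (sig_surjective hJ), card_A hJ] at h1
  have h2 := (nA A).card_mul_index
  rw [card_aut_m22] at h2
  apply Nat.eq_of_mul_eq_mul_right (Nat.pos_of_ne_zero (nA A).index_ne_zero_of_finite)
  rw [h1, mul_assoc, h2]

theorem conj_liftTwo_preA {A : Subgroup M} {k c : G} (hk : k ∈ preA hJ A) (hc : c ∈ liftTwo hJ A) :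
    k * c * k⁻¹ ∈ liftTwo hJ A := by
  obtain ⟨hkA, hkn⟩ := (mem_preA hJ).1 hk
  have h : liftTwo hJ A ≤ (liftTwo hJ A).comap (MulAut.conj k).toMonoidHom := by
    refine (Subgroup.closure_le _).2 ?_
    rintro d ⟨hd, hd4⟩
    obtain ⟨hdC, hdA⟩ := (mem_pre hJ).1 hd
    refine Subgroup.subset_closure ⟨(mem_pre hJ).2 ⟨conj_mem_C hJ hkA hdC, ?_⟩, ?_⟩
    · show quo hJ ⟨k * d * k⁻¹, conj_mem_C hJ hkA hdC⟩ ∈ A
      rw [← sig_apply hJ hkA hdC]
      exact (mem_nA.1 hkn _).2 hdA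
    · show (k * d * k⁻¹) ^ 4 = 1
      rw [conj_pow, hd4, mul_one, mul_inv_cancel]
  exact h hc

theorem preA_le_normalizer_fixA (A : Subgroup M) :
    preA hJ A ≤ Subgroup.normalizer (fixA hJ A : Set G) :=
  normalizer_fixE (preA_le_H hJ A) fun _ hk _ hq => conj_liftTwo_preA hJ hk hq

theorem z_mem_preA (A : Subgroup M) : z ∈ preA hJ A :=
  pre_le_preA hJ A (K_le_pre hJ _ (zpowers_le_K hJ (Subgroup.mem_zpowers z)))

variable {A : Subgroup M} {s : M} (hA : Hexad A s)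

include hA

theorem exists_lift {a : M} (ha : a ∈ A) :
    ∃ c, ∃ h : c ∈ cC z P, c ∈ liftTwo hJ A ∧ quo hJ ⟨c, h⟩ = a := by
  obtain ⟨⟨b0, hb0⟩, e0⟩ := quo_surjective hJ a
  have hb2 : a * a = 1 := hA.first.exp a ha
  have h2 : b0 ^ 2 ∈ cK z P := by
    have : quo hJ (⟨b0, hb0⟩ ^ 2) = 1 := by rw [map_pow, e0, pow_two, hb2]
    exact (quo_eq_one_iff hJ).1 this
  have hq : quo hJ ⟨b0 ^ 3, pow_mem hb0 3⟩ = a := by
    rw [show (⟨b0 ^ 3, pow_mem hb0 3⟩ : ↥(cC z P)) = ⟨b0, hb0⟩ ^ 3 from rfl, map_pow, e0, pow_succ,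
      pow_two, hb2, one_mul]
  refine ⟨b0 ^ 3, pow_mem hb0 3, Subgroup.subset_closure
    ⟨(mem_pre hJ).2 ⟨pow_mem hb0 3, by rw [hq]; exact ha⟩, ?_⟩, hq⟩
  rw [← pow_mul, show 3 * 4 = 2 * 6 from rfl, pow_mul, K_pow_six hJ h2]

theorem quo_liftTwo {c : G} (hc : c ∈ liftTwo hJ A) :
    ∃ h : c ∈ cC z P, quo hJ ⟨c, h⟩ ∈ A := (mem_pre hJ).1 (liftTwo_le hJ A hc)

theorem mem_z_of_quo_one {c : G} (hc : c ∈ liftTwo hJ A) (h : c ∈ cC z P) (e : quo hJ ⟨c, h⟩ = 1) :
    c ∈ Subgroup.zpowers z :=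
  mem_zpowers_of_K hJ ((quo_eq_one_iff hJ).1 e) ((liftTwo_spec hJ hA.first.card hA.first.exp).2 c hc)

theorem preA_le_normalizer_vZero : preA hJ A ≤ Subgroup.normalizer (vZero hJ A : Set G) :=
  le_normalizer_of_conj fun k hk v hv => by
    obtain ⟨a, ha, x, hx, rfl⟩ := (mem_vZero hJ hA.first).1 hv
    rw [show k * (a * x) * k⁻¹ = (k * a * k⁻¹) * (k * x * k⁻¹) by group]
    exact (mem_vZero hJ hA.first).2 ⟨_, conj_liftTwo_preA hJ hk ha, _,
      (Subgroup.mem_normalizer_iff.1 (preA_le_normalizer_fixA hJ A hk) x).1 hx, rfl⟩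

/-- Commutators of `E` and the lift of `A` lie in the fixed subgroup. -/
theorem comm_mem_fixA {e a : G} (he : e ∈ cE z) (ha : a ∈ liftTwo hJ A) :
    e * a * e⁻¹ * a⁻¹ ∈ fixA hJ A := by
  have haH : a ∈ cH z := liftTwo_le_H hJ A ha
  rw [← E_inf_centralizer_fixA hJ hA.first]
  refine Subgroup.mem_inf.2 ⟨?_, Subgroup.mem_centralizer_iff.2 fun x hx => ?_⟩
  · rw [show e * a * e⁻¹ * a⁻¹ = e * (a * e⁻¹ * a⁻¹) by group]
    exact mul_mem he ((Subgroup.mem_normalizer_iff.1 (H_le_normalizer_E haH) _).1 (inv_mem he))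
  · have hxE := fixA_le hJ A hx
    have hax : a * x = x * a := fixA_commute_liftTwo hJ hA.first hx ha
    have hzx : z * x = x * z := (mem_cH.1 (E_le_H hxE)).symm
    have hza : z * a = a * z := (mem_cH.1 haH).symm
    have hcE := CfsgLib.Extra2.conj_eq (gen_E hJ) (inv_mem he) hxE
    have h1 : a⁻¹ * x * a = x := by rw [mul_assoc, ← hax, inv_mul_cancel_left]
    have h2 : ∀ k, (k = x ∨ k = z * x) → a * k * a⁻¹ = k := by
      rintro k (rfl | rfl)
      · rw [hax, mul_inv_cancel_right]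
      · rw [← mul_assoc, ← hza, mul_assoc z a x, hax, ← mul_assoc, mul_inv_cancel_right]
    have h3 : (e * a * e⁻¹ * a⁻¹) * x * (e * a * e⁻¹ * a⁻¹)⁻¹ = x := by
      calc (e * a * e⁻¹ * a⁻¹) * x * (e * a * e⁻¹ * a⁻¹)⁻¹
          = e * (a * (e⁻¹ * (a⁻¹ * x * a) * e⁻¹⁻¹) * a⁻¹) * e⁻¹ := by group
        _ = e * (e⁻¹ * x * e⁻¹⁻¹) * e⁻¹ := by rw [h1, h2 _ hcE]
        _ = x := by group
    exact (mul_inv_eq_iff_eq_mul.1 h3).symm

theorem E_le_normalizer_vZero : cE z ≤ Subgroup.normalizer (vZero hJ A : Set G) :=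
  le_normalizer_of_conj fun e he v hv => by
    obtain ⟨a, ha, x, hx, rfl⟩ := (mem_vZero hJ hA.first).1 hv
    rw [show e * (a * x) * e⁻¹ = (e * a * e⁻¹ * a⁻¹) * a * (e * x * e⁻¹) by group]
    exact mul_mem (mul_mem (Subgroup.mem_sup_right (comm_mem_fixA hJ hA he ha)) (Subgroup.mem_sup_left ha))
      (Subgroup.mem_sup_right ((Subgroup.mem_normalizer_iff.1
        (le_normalizer_of_z_mem hJ (fixA_le hJ A) (z_mem_fixA hJ A) he) x).1 hx))

theorem exists_decomp_H {h : G} (hh : h ∈ cH z) : ∃ k ∈ cA z P, ∃ e ∈ cE z, h = k * e := by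
  rw [H_eq hJ] at hh
  obtain ⟨k, hk, e, he, rfl⟩ :=
    (CfsgLib.Solvable.mem_sup_of_le_normalizer (inf_le_left.trans H_le_normalizer_E)).1 hh
  exact ⟨k, hk, e, he, rfl⟩

theorem mem_preA_of_normalizes {k : G} (hk : k ∈ cA z P)
    (hn : k ∈ Subgroup.normalizer (vZero hJ A : Set G)) : k ∈ preA hJ A := by
  refine (mem_preA hJ).2 ⟨hk, mem_nA_of fun a ha => ?_⟩
  obtain ⟨c, hc, hcl, rfl⟩ := exists_lift hJ hA ha
  rw [sig_apply hJ hk hc]
  have hv := (Subgroup.mem_normalizer_iff.1 hn c).1 (Subgroup.mem_sup_left hcl)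
  obtain ⟨a', ha', x, hx, e⟩ := (mem_vZero hJ hA.first).1 hv
  obtain ⟨ha'C, ha'A⟩ := quo_liftTwo hJ hA ha'
  have hxC : x ∈ cC z P := by
    rw [show x = a'⁻¹ * (k * c * k⁻¹) by rw [← e]; group]
    exact mul_mem (inv_mem ha'C) (conj_mem_C hJ hk hc)
  have hxz : x ∈ Subgroup.zpowers z := E_inf_C hJ ▸ ⟨fixA_le hJ A hx, hxC⟩
  rw [show (⟨k * c * k⁻¹, _⟩ : ↥(cC z P)) = ⟨a', ha'C⟩ * ⟨x, hxC⟩ from Subtype.ext e.symm, map_mul,
    (quo_eq_one_iff hJ).2 (zpowers_le_K hJ hxz : ((⟨x, hxC⟩ : ↥(cC z P)) : G) ∈ cK z P), mul_one]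
  exact ha'A

theorem inf_normalizer_eq :
    Subgroup.normalizer (vZero hJ A : Set G) ⊓ cH z = preA hJ A ⊔ cE z := by
  refine le_antisymm (fun h hh => ?_) (sup_le (le_inf (preA_le_normalizer_vZero hJ hA) (preA_le_H hJ A))
    (le_inf (E_le_normalizer_vZero hJ hA) E_le_H))
  obtain ⟨k, hk, e, he, rfl⟩ := exists_decomp_H hJ hA hh.2
  refine mul_mem (Subgroup.mem_sup_left (mem_preA_of_normalizes hJ hA hk ?_)) (Subgroup.mem_sup_right he)
  exact (Subgroup.mul_mem_cancel_right _ (E_le_normalizer_vZero hJ hA he)).1 hh.1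

omit hJ in
theorem exists_move_hexad {a b : M} (ha : a ∈ A) (hb : b ∈ A) (ha1 : a ≠ 1) (hb1 : b ≠ 1) :
    ∃ α ∈ nA A, α a = b := by
  obtain ⟨n, hn, e⟩ := hA.first.trans a ha b hb ha1 hb1
  exact ⟨MulAut.conj n, conj_mem_nA.2 hn, e⟩

omit hJ in
theorem card_nA_eq : Nat.card ↥(nA A) = 2 * Nat.card ↥(Subgroup.normalizer (A : Set M)) := by
  obtain ⟨α, hα, hαA⟩ := hA.outer
  have hαn : α ∈ nA A := mem_nA_of hαA
  have hI : (Cfsg.Inn M).Normal := inferInstanceAs (MulAut.conj : M →* MulAut M).range.Normal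
  have hn : nA A ≤ Subgroup.normalizer (Cfsg.Inn M : Set (MulAut M)) := by
    rw [Subgroup.normalizer_eq_top_iff.2 hI]; exact le_top
  have hinf : nA A ⊓ Cfsg.Inn M = (Subgroup.normalizer (A : Set M)).map MulAut.conj := by
    ext β
    constructor
    · rintro ⟨h, m, rfl⟩; exact ⟨m, conj_mem_nA.1 h, rfl⟩
    · rintro ⟨m, hm, rfl⟩; exact ⟨conj_mem_nA.2 hm, m, rfl⟩
  have hidx : (Cfsg.Inn M).index = 2 := CfsgLib.Golay.Cert.out_m22
  have htop : nA A ⊔ Cfsg.Inn M = ⊤ := by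
    have h1 := (Subgroup.index_dvd_of_le (le_sup_right : Cfsg.Inn M ≤ nA A ⊔ Cfsg.Inn M))
    rw [hidx] at h1
    rcases (Nat.dvd_prime Nat.prime_two).1 h1 with h | h
    · exact Subgroup.index_eq_one.1 h
    · exfalso
      have e := eq_inn_of_index_two h
      exact hα (e.le (Subgroup.mem_sup_left hαn))
  have h := CfsgLib.Solvable.card_sup_mul_card_inf hn
  rw [htop, hinf, Subgroup.card_map_of_injective J4M22.conj_injective,
    Nat.card_congr Subgroup.topEquiv.toEquiv, card_aut_m22, card_inn_m22] at h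
  suffices H : ∀ a n : ℕ, 887040 * a = n * 443520 → n = 2 * a from H _ _ h
  intro a n h'
  omega

omit hJ in
theorem card_orbit_nA {a : M} (ha : a ∈ A) (ha1 : a ≠ 1) :
    Nat.card (MulAction.orbit ↥(nA A) a) = 15 := by
  classical
  have e : MulAction.orbit ↥(nA A) a = (A : Set M) \ {1} := by
    ext b
    constructor
    · rintro ⟨α, rfl⟩
      exact ⟨(α.2 a).2 ha, fun h => ha1 (α.1.injective (h.trans (map_one α.1).symm))⟩
    · rintro ⟨hb, hb1⟩
      obtain ⟨α, hα, e⟩ := exists_move_hexad hA ha hb ha1 hb1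
      exact ⟨⟨α, hα⟩, e⟩
  rw [e, Nat.card_coe_set_eq, Set.ncard_sdiff (Set.singleton_subset_iff.2 (one_mem A)),
    Set.ncard_singleton, ← Nat.card_coe_set_eq, SetLike.coe_sort_coe, hA.first.card]

omit hJ in
theorem nA_facts : Nat.card ↥(nA A) = 11520 ∧
    Nat.card ↥(Subgroup.normalizer (A : Set M)) = 5760 ∧
    ∀ a ∈ A, a ≠ 1 → ∀ α : MulAut M, α a = a → α ∈ nA A := by
  have key : ∀ a ∈ A, a ≠ 1 → (MulAction.stabilizer (MulAut M) a ≤ nA A ∧
      Nat.card ↥(nA A) = 11520) := by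
    intro a ha ha1
    have ha2 : orderOf a = 2 := orderOf_eq_prime (by rw [pow_two]; exact hA.first.exp a ha) ha1
    have h768 : Nat.card (MulAction.stabilizer (MulAut M) a) = 768 := by
      rw [← J4M22.card_centralizer_aut_two ha2]
      refine congrArg (fun S : Subgroup (MulAut M) => Nat.card S) ?_
      ext α
      rw [MulAction.mem_stabilizer_iff, Subgroup.mem_centralizer_singleton_iff, MulAut.smul_def]
      constructor
      · intro h
        refine MulEquiv.ext fun y => ?_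
        show α (a * y * a⁻¹) = a * α y * a⁻¹
        rw [map_mul, map_mul, map_inv, h]
      · intro h
        refine J4M22.conj_injective (MulEquiv.ext fun y => ?_)
        have := DFunLike.congr_fun h (α.symm y)
        simp only [MulAut.mul_apply, MulAut.conj_apply, map_mul, map_inv, MulEquiv.apply_symm_apply] at this
        exact this
    have hst : Nat.card (MulAction.stabilizer ↥(nA A) a) =
        Nat.card ↥(nA A ⊓ MulAction.stabilizer (MulAut M) a) :=
      Nat.card_congr ⟨fun c => ⟨c.1.1, c.1.2, c.2⟩, fun c => ⟨⟨c.1, c.2.1⟩, c.2.2⟩, fun _ => rfl, fun _ => rfl⟩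
    have h := (MulAction.stabilizer ↥(nA A) a).card_mul_index
    rw [Subgroup.index_eq_card, ← Nat.card_congr (MulAction.orbitEquivQuotientStabilizer _ a),
      card_orbit_nA hA ha ha1, hst] at h
    have hle := Subgroup.card_le_of_le (inf_le_right : nA A ⊓ MulAction.stabilizer (MulAut M) a ≤ _)
    obtain ⟨q, hq⟩ := hA.dvd
    have h2 := card_nA_eq hA
    have hq0 : 0 < q := Nat.pos_of_ne_zero fun e => by
      rw [e, mul_zero] at hq
      exact (Nat.card_pos (α := ↥(Subgroup.normalizer (A : Set M)))).ne' hq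
    rw [h768] at hle
    refine ⟨fun x hx => ?_, by omega⟩
    have he : nA A ⊓ MulAction.stabilizer (MulAut M) a = MulAction.stabilizer (MulAut M) a :=
      Subgroup.eq_of_le_of_card_ge inf_le_right (by rw [h768]; omega)
    exact (he.ge hx).1
  haveI : Nontrivial ↥A := Finite.one_lt_card_iff_nontrivial.1 (by rw [hA.first.card]; norm_num)
  obtain ⟨⟨a, ha⟩, ha1⟩ := exists_ne (1 : ↥A)
  obtain ⟨-, hc⟩ := key a ha fun h => ha1 (Subtype.ext h)
  refine ⟨hc, ?_, fun b hb hb1 α hα => (key b hb hb1).1 (MulAction.mem_stabilizer_iff.2 hα)⟩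
  have := card_nA_eq hA
  omega

theorem card_inf_normalizer :
    Nat.card ↥(Subgroup.normalizer (vZero hJ A : Set G) ⊓ cH z) = 2 ^ 21 * 135 := by
  rw [inf_normalizer_eq hJ hA]
  have hn : preA hJ A ≤ Subgroup.normalizer (cE z : Set G) := (preA_le_H hJ A).trans H_le_normalizer_E
  have h := CfsgLib.Solvable.card_sup_mul_card_inf hn
  have hi : preA hJ A ⊓ cE z = Subgroup.zpowers z := by
    refine le_antisymm (fun x hx => ?_) (Subgroup.zpowers_le.mpr ⟨z_mem_preA hJ A, z_mem_E hJ⟩)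
    rw [← E_inf_centralizer hJ]
    refine ⟨hx.2, Subgroup.mem_centralizer_iff.mpr fun q hq => ?_⟩
    have hxP := (preA_le hJ A hx.1).2
    have h1 : x * q * x⁻¹ * q⁻¹ ∈ P :=
      mul_mem ((Subgroup.mem_normalizer_iff.mp hxP q).mp hq) (inv_mem hq)
    have h2 : x * q * x⁻¹ * q⁻¹ ∈ cE z := by
      have := (Subgroup.mem_normalizer_iff.mp (H_le_normalizer_E (P_le_H hJ hq)) x⁻¹).mp (inv_mem hx.2)
      simpa [mul_assoc] using mul_mem hx.2 this
    have hd : P ⊓ cE z = ⊥ := Subgroup.inf_eq_bot_of_coprime (by rw [card_P hJ, card_E hJ]; decide)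
    have h3 : x * q * x⁻¹ * q⁻¹ = 1 := by simpa [hd] using (Subgroup.mem_inf.mpr ⟨h1, h2⟩)
    exact (mul_inv_eq_iff_eq_mul.mp (mul_inv_eq_one.mp h3)).symm
  rw [hi, card_zpowers_z hJ, card_preA, (nA_facts hA).1, card_E hJ] at h
  norm_num at h ⊢
  omega

theorem centralizer_vZero : Subgroup.centralizer (vZero hJ A : Set G) ≤ vZero hJ A := by
  intro h hh
  have hcomm : ∀ v ∈ vZero hJ A, v * h = h * v := fun v hv => Subgroup.mem_centralizer_iff.1 hh v hv
  have hhH : h ∈ cH z := mem_cH.2 (hcomm z (z_mem_vZero hJ hA.first)).symm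
  obtain ⟨k, hk, e, he, rfl⟩ := exists_decomp_H hJ hA hhH
  have hkn : k ∈ Subgroup.normalizer (vZero hJ A : Set G) :=
    (Subgroup.mul_mem_cancel_right _ (E_le_normalizer_vZero hJ hA he)).1
      (Subgroup.centralizer_le_normalizer _ hh)
  have hkp := mem_preA_of_normalizes hJ hA hk hkn
  have hconjA : ∀ a ∈ A, sig hJ ⟨k, hk⟩ a = a := by
    intro a ha
    obtain ⟨c, hc, hcl, rfl⟩ := exists_lift hJ hA ha
    rw [sig_apply hJ hk hc]
    set x := e * c * e⁻¹ * c⁻¹ with hx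
    have hxX : x ∈ fixA hJ A := comm_mem_fixA hJ hA he hcl
    have h1 : k * (x * c) * k⁻¹ = c := by
      rw [hx, show k * (e * c * e⁻¹ * c⁻¹ * c) * k⁻¹ = (k * e) * c * (k * e)⁻¹ by group,
        ← hcomm c (Subgroup.mem_sup_left hcl), mul_inv_cancel_right]
    have h2 : k * x * k⁻¹ = c * (k * c * k⁻¹)⁻¹ := by
      rw [eq_mul_inv_iff_mul_eq]
      calc k * x * k⁻¹ * (k * c * k⁻¹) = k * (x * c) * k⁻¹ := by group
        _ = c := h1
    have hz : k * x * k⁻¹ ∈ Subgroup.zpowers z := by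
      rw [← liftTwo_inf_fixA hJ hA.first]
      refine Subgroup.mem_inf.2 ⟨?_, (Subgroup.mem_normalizer_iff.1 (preA_le_normalizer_fixA hJ A hkp) x).1 hxX⟩
      rw [h2]
      exact mul_mem hcl (inv_mem (conj_liftTwo_preA hJ hkp hcl))
    rw [quo_eq_iff hJ]
    refine zpowers_le_K hJ ?_
    show (k * c * k⁻¹)⁻¹ * c ∈ _
    rw [liftTwo_comm hJ hA.first (inv_mem (conj_liftTwo_preA hJ hkp hcl)) hcl, ← h2]
    exact hz
  have hX : ∀ x ∈ fixA hJ A, k * x * k⁻¹ * x⁻¹ ∈ Subgroup.zpowers z := by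
    intro x hx
    have hxE := fixA_le hJ A hx
    have h1 : (k * e) * x * (k * e)⁻¹ = x := by
      rw [← hcomm x (Subgroup.mem_sup_right hx), mul_inv_cancel_right]
    rcases CfsgLib.Extra2.conj_eq (gen_E hJ) he hxE with h2 | h2
    · have h3 : k * x * k⁻¹ = x := by
        calc k * x * k⁻¹ = k * (e * x * e⁻¹) * k⁻¹ := by rw [h2]
          _ = x := by conv_rhs => rw [← h1]
                      group
      rw [h3, mul_inv_cancel]; exact one_mem _
    · have h3 : z * (k * x * k⁻¹) = x := by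
        calc z * (k * x * k⁻¹) = k * (z * x) * k⁻¹ := by
              rw [← mul_assoc k z, mem_cH.1 hk.1]; group
          _ = k * (e * x * e⁻¹) * k⁻¹ := by rw [h2]
          _ = x := by conv_rhs => rw [← h1]
                      group
      have h4 : k * x * k⁻¹ = z * x := by
        calc k * x * k⁻¹ = (z * z) * (k * x * k⁻¹) := by rw [z_sq hJ, one_mul]
          _ = z * x := by rw [mul_assoc, h3]
      rw [h4, mul_inv_cancel_right]; exact Subgroup.mem_zpowers z
  have hnotP : ∀ p ∈ P, p ≠ 1 →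
      ¬ ∀ x ∈ fixA hJ A, p * x * p⁻¹ * x⁻¹ ∈ Subgroup.zpowers z := by
    intro p hp hp1 hfix
    have hle : fixA hJ A ≤ Subgroup.zpowers z := fun x hx => by
      refine mem_zpowers_of_P_fixed hJ (fixA_le hJ A hx) fun q hq => ?_
      have hxH := E_le_H (fixA_le hJ A hx)
      have hpn : p ∈ Subgroup.normalizer (Subgroup.zpowers z : Set G) :=
        H_le_normalizer_z (P_le_H hJ hp)
      rcases eq_one_or_of_card_three (card_P hJ) hp hp1 hq with rfl | rfl | rfl
      · simp [one_mem]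
      · exact hfix x hx
      · have h5 := (Subgroup.mem_normalizer_iff.1 (inv_mem hpn) _).1 (inv_mem (hfix x hx))
        simpa [mul_assoc] using h5
    have := Subgroup.card_le_of_le hle
    rw [card_fixA hJ hA.first, card_zpowers_z hJ] at this
    omega
  by_cases hkC : k ∈ cC z P
  · have hm : quo hJ ⟨k, hkC⟩ ∈ A := by
      rw [← SetLike.mem_coe, ← hA.self_cent, SetLike.mem_coe, Subgroup.mem_centralizer_iff]
      intro a ha
      have := hconjA a ha
      rw [sig_C hJ hkC, MulAut.conj_apply, mul_inv_eq_iff_eq_mul] at this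
      exact this.symm
    obtain ⟨c, hc, hcl, hq⟩ := exists_lift hJ hA hm
    have hd := (quo_eq_iff hJ).1 hq
    simp only at hd
    obtain ⟨u, hu, p, hp, hup⟩ := (CfsgLib.Solvable.mem_sup_of_le_normalizer
      (Subgroup.zpowers_le.2 (Subgroup.centralizer_le_normalizer _ (z_mem_C_P hJ)) :
        Subgroup.zpowers z ≤ Subgroup.normalizer (P : Set G))).1 hd
    have hkeq : k = c * u * p := by rw [mul_assoc, hup]; group
    have hp1 : p = 1 := by
      by_contra hp1
      refine hnotP p hp hp1 fun x hx => ?_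
      have hxE := fixA_le hJ A hx
      have hcu : c * u ∈ liftTwo hJ A :=
        mul_mem hcl (Subgroup.zpowers_le.2 (z_mem_liftTwo hJ A) hu)
      have hpx : p * x * p⁻¹ ∈ fixA hJ A :=
        (Subgroup.mem_normalizer_iff.1 (normalizer_fixA hJ A (P_le_pre hJ _ hp)) x).1 hx
      have := hX x hx
      rw [hkeq, show c * u * p * x * (c * u * p)⁻¹ * x⁻¹ = (c * u) * (p * x * p⁻¹) * (c * u)⁻¹ * x⁻¹ by group,
        fixA_commute_liftTwo hJ hA.first hpx hcu, mul_inv_cancel_right] at this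
      exact this
    rw [hp1, mul_one] at hkeq
    have hkV : k ∈ vZero hJ A := by
      rw [hkeq]
      exact mul_mem (Subgroup.mem_sup_left hcl)
        (Subgroup.zpowers_le.2 (z_mem_vZero hJ hA.first) hu)
    refine mul_mem hkV (Subgroup.mem_sup_right ?_)
    rw [← E_inf_centralizer_fixA hJ hA.first]
    refine ⟨he, Subgroup.mem_centralizer_iff.2 fun x hx => ?_⟩
    have hkx : x * k = k * x := comm_of_sq (K := vZero hJ A)
      (fun v hv => by rw [← pow_two]; exact (elementary_vZero hJ hA.first).2 v hv)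
      (Subgroup.mem_sup_right hx) hkV
    have h1 := hcomm x (Subgroup.mem_sup_right hx)
    calc x * e = k⁻¹ * (k * x) * e := by group
      _ = k⁻¹ * (x * (k * e)) := by rw [← hkx]; group
      _ = e * x := by rw [h1]; group
  · exfalso
    obtain ⟨⟨p, hp⟩, hp1⟩ : ∃ p : ↥P, p ≠ 1 := by
      haveI : Nontrivial ↥P := Finite.one_lt_card_iff_nontrivial.1 (by rw [card_P hJ]; norm_num)
      exact exists_ne 1
    have hp1' : p ≠ 1 := fun h => hp1 (Subtype.ext h)
    have hkp' : k * p * k⁻¹ = p⁻¹ := by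
      rcases eq_one_or_of_card_three (card_P hJ) hp hp1' ((Subgroup.mem_normalizer_iff.1 hk.2 p).1 hp)
        with h | h | h
      · exact absurd (conj_eq_one_iff.1 h) hp1'
      · refine absurd ⟨hk.1, Subgroup.mem_centralizer_iff.2 fun q hq => ?_⟩ hkC
        have hc : Commute k p := mul_inv_eq_iff_eq_mul.1 h
        rcases eq_one_or_of_card_three (card_P hJ) hp hp1' hq with rfl | rfl | rfl
        · simp
        · exact hc.eq.symm
        · exact hc.inv_right.eq.symm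
      · exact h
    have h3 : p * p = p⁻¹ := eq_inv_of_mul_eq_one_left (by
      have h := pow_card_eq_one' (G := ↥P) (x := ⟨p, hp⟩)
      rw [card_P hJ] at h
      simpa [pow_succ] using congrArg Subtype.val h)
    refine hnotP p⁻¹ (inv_mem hp) (inv_ne_one.2 hp1') fun x hx => ?_
    set Z := Subgroup.zpowers z
    have hnP : ∀ q ∈ P, q ∈ Subgroup.normalizer (Z : Set G) := fun q hq =>
      H_le_normalizer_z (P_le_H hJ hq)
    set y := p * x * p⁻¹ with hy
    have hyX : y ∈ fixA hJ A :=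
      (Subgroup.mem_normalizer_iff.1 (normalizer_fixA hJ A (P_le_pre hJ _ hp)) x).1 hx
    have a1 := hX y hyX
    have a2 := (Subgroup.mem_normalizer_iff.1 (hnP _ (inv_mem hp)) _).1 (hX x hx)
    have e1 : k * y * k⁻¹ * y⁻¹ = (p⁻¹ * (k * x * k⁻¹) * p) * y⁻¹ := by
      rw [hy, show k * (p * x * p⁻¹) * k⁻¹ = (k * p * k⁻¹) * (k * x * k⁻¹) * (k * p * k⁻¹)⁻¹ by group,
        hkp', inv_inv]
    have e2 : p⁻¹ * (k * x * k⁻¹ * x⁻¹) * p⁻¹⁻¹ = (p⁻¹ * (k * x * k⁻¹) * p) * (p⁻¹ * x * p)⁻¹ := by group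
    rw [e1] at a1
    rw [e2] at a2
    have hpx : p⁻¹ * x * p * y⁻¹ ∈ Z := by
      have := mul_mem (inv_mem a2) a1
      rwa [show (p⁻¹ * (k * x * k⁻¹) * p * (p⁻¹ * x * p)⁻¹)⁻¹ * (p⁻¹ * (k * x * k⁻¹) * p * y⁻¹) =
        p⁻¹ * x * p * y⁻¹ by group] at this
    have a3 := (Subgroup.mem_normalizer_iff.1 (hnP p hp) _).1 hpx
    rw [show p * (p⁻¹ * x * p * y⁻¹) * p⁻¹ = x * (p * p) * x⁻¹ * (p * p)⁻¹ by rw [hy]; group, h3] at a3
    have := inv_mem a3
    rwa [show (x * p⁻¹ * x⁻¹ * p⁻¹⁻¹)⁻¹ = p⁻¹ * x * p⁻¹⁻¹ * x⁻¹ by group] at this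

end CfsgLib.J4Eleven
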